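import Cfsg.Agent.H53.OmIdx.Perm

/-!
Singular points, and the radicals of the other points.
-/

set_option autoImplicit false
set_option linter.unusedSectionVars false

namespace Cfsg.Agent.H53.OmIdx

open QuadraticMap Module Finset
open Cfsg.Agent.Orthogonal
open Cfsg.Agent.H53.OmLow

attribute [local instance] Fintype.ofFinite Classical.propDecidable

variable {F V : Type*} [Field F] [Finite F] [AddCommGroup V] [Module F V] [FiniteDimensional F V]
variable {Q : QuadraticForm F V}

/-- The singular points. -/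
def Pt (Q : QuadraticForm F V) : Type _ :=
  {P : Submodule F V // ∃ v : V, v ≠ 0 ∧ Q v = 0 ∧ P = Submodule.span F {v}}

/-- The point of a singular vector. -/
def Pt.mk {v : V} (h0 : v ≠ 0) (h : Q v = 0) : Pt Q := ⟨Submodule.span F {v}, v, h0, h, rfl⟩

instance : Finite (Pt Q) :=
  have : Finite V := Module.finite_of_finite F
  have : Finite (Submodule F V) :=
    Finite.of_injective (fun P => (P : Set V)) SetLike.coe_injective
  Subtype.finite

instance : MulAction (sieGroup Q) (Pt Q) where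
  smul g P := ⟨P.1.map (ap g : V →ₗ[F] V), by
    obtain ⟨v, h0, hv, e⟩ := P.2
    refine ⟨ap g v, fun h => h0 ((LinearEquiv.map_eq_zero_iff _).1 h), by rw [O.map_app]; exact hv, ?_⟩
    rw [e, Submodule.map_span, Set.image_singleton]
    rfl⟩
  one_smul P := Subtype.ext (Submodule.map_id P.1)
  mul_smul g h P := Subtype.ext (Submodule.map_comp (ap h : V →ₗ[F] V) (ap g : V →ₗ[F] V) P.1)

theorem Pt.smul_mk (g : sieGroup Q) {v : V} (h0 : v ≠ 0) (h : Q v = 0) :
    g • Pt.mk h0 h = Pt.mk (v := ap g v) (fun e => h0 ((LinearEquiv.map_eq_zero_iff _).1 e))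
      (by rw [O.map_app]; exact h) := by
  refine Subtype.ext ?_
  show (Submodule.span F {v}).map (ap g : V →ₗ[F] V) = Submodule.span F {ap g v}
  rw [Submodule.map_span, Set.image_singleton]
  rfl

theorem Pt.mk_smul_vec {v w : V} (h0 : v ≠ 0) (h : Q v = 0) (h0' : w ≠ 0) (h' : Q w = 0) {s : F}
    (hs : s ≠ 0) (e : v = s • w) : Pt.mk h0 h = Pt.mk h0' h' := by
  subst e
  exact Subtype.ext (Submodule.span_singleton_smul_eq (IsUnit.mk0 s hs) w)

theorem Pt.isPretransitive (hQ : Nondeg Q) (hn : 3 ≤ finrank F V) :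
    MulAction.IsPretransitive (sieGroup Q) (Pt Q) := by
  refine ⟨fun P P' => ?_⟩
  obtain ⟨_, v, h0, hv, rfl⟩ := P
  obtain ⟨_, v', h0', hv', rfl⟩ := P'
  obtain ⟨g, hg, s, hs, hgs⟩ := exists_sie_point hQ hn h0 h0' hv hv'
  refine ⟨⟨g, hg⟩, ?_⟩
  show (⟨g, hg⟩ : sieGroup Q) • Pt.mk h0 hv = Pt.mk h0' hv'
  rw [Pt.smul_mk]
  exact Pt.mk_smul_vec _ _ _ _ hs hgs

theorem card_pt : (Nat.card F - 1) * Nat.card (Pt Q) + 1 = zc Q 0 := by
  classical
  have : Finite V := Module.finite_of_finite F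
  have hq : Fintype.card {c : F // c ≠ 0} = Nat.card F - 1 := by
    rw [Fintype.card_subtype_compl, Fintype.card_subtype_eq, Nat.card_eq_fintype_card]
  let f : Pt Q × {c : F // c ≠ 0} → {v : {v : V // Q v = 0} // v.1 ≠ 0} := fun Pc =>
    ⟨⟨(Pc.2 : F) • Pc.1.2.choose, by rw [qmap_smul, Pc.1.2.choose_spec.2.1, mul_zero]⟩,
      smul_ne_zero Pc.2.2 Pc.1.2.choose_spec.1⟩
  have hf : Function.Bijective f := by
    constructor
    · rintro ⟨P, c⟩ ⟨P', c'⟩ h
      have e : (c : F) • P.2.choose = (c' : F) • P'.2.choose :=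
        congrArg (fun z : {v : {v : V // Q v = 0} // v.1 ≠ 0} => z.1.1) h
      have hP : P = P' := Subtype.ext (by
        rw [P.2.choose_spec.2.2, P'.2.choose_spec.2.2,
          ← Submodule.span_singleton_smul_eq (IsUnit.mk0 _ c.2) P.2.choose, e,
          Submodule.span_singleton_smul_eq (IsUnit.mk0 _ c'.2) P'.2.choose])
      subst hP
      exact Prod.ext rfl (Subtype.ext (smul_left_injective F P.2.choose_spec.1 e))
    · rintro ⟨⟨v, hv⟩, h0⟩
      set P : Pt Q := Pt.mk h0 hv
      have hm : P.2.choose ∈ Submodule.span F {v} := by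
        show P.2.choose ∈ P.1
        exact P.2.choose_spec.2.2.symm.le (Submodule.mem_span_singleton_self _)
      obtain ⟨c, hc⟩ := Submodule.mem_span_singleton.1 hm
      have hc0 : c ≠ 0 := fun e => P.2.choose_spec.1 (by rw [← hc, e, zero_smul])
      refine ⟨⟨P, ⟨c⁻¹, inv_ne_zero hc0⟩⟩, Subtype.ext (Subtype.ext ?_)⟩
      show c⁻¹ • P.2.choose = v
      rw [← hc, inv_smul_smul₀ hc0]
  have h1 := Nat.card_eq_of_bijective f hf
  rw [Nat.card_prod, Nat.card_eq_fintype_card (α := {c : F // c ≠ 0}), hq, mul_comm] at h1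
  rw [h1, zc, Nat.card_eq_fintype_card, Nat.card_eq_fintype_card, Fintype.card_subtype_compl]
  have e : Fintype.card {v : {v : V // Q v = 0} // v.1 = 0} = 1 :=
    Fintype.card_eq_one_iff.2 ⟨⟨⟨0, QuadraticMap.map_zero _⟩, rfl⟩,
      fun v => Subtype.ext (Subtype.ext v.2)⟩
  have hpos : 1 ≤ Fintype.card {v : V // Q v = 0} :=
    Fintype.card_pos_iff.2 ⟨⟨0, QuadraticMap.map_zero _⟩⟩
  omega

/-- Pairs in an invariant relation, counted both ways. -/
theorem pair_count {G A B : Type*} [Group G] [MulAction G A] [MulAction G B] [Fintype A] [Fintype B]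
    [MulAction.IsPretransitive G A] [MulAction.IsPretransitive G B] (R : A → B → Prop)
    (hR : ∀ (g : G) a b, R a b → R (g • a) (g • b)) (a₀ : A) (b₀ : B) :
    Fintype.card A * (Finset.univ.filter fun b => R a₀ b).card =
      Fintype.card B * (Finset.univ.filter fun a => R a b₀).card := by
  classical
  have h1 : ∀ a, (Finset.univ.filter fun b => R a b).card = (Finset.univ.filter fun b => R a₀ b).card := by
    intro a
    obtain ⟨g, rfl⟩ := MulAction.exists_smul_eq G a₀ a
    refine (Finset.card_bij (fun b _ => g • b) (fun b hb => ?_) (fun b _ b' _ h => smul_left_cancel g h)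
      fun b hb => ⟨g⁻¹ • b, ?_, smul_inv_smul g b⟩).symm
    · simpa using hR g _ _ (Finset.mem_filter.1 hb).2
    · simpa using hR g⁻¹ _ _ (Finset.mem_filter.1 hb).2
  have h2 : ∀ b, (Finset.univ.filter fun a => R a b).card = (Finset.univ.filter fun a => R a b₀).card := by
    intro b
    obtain ⟨g, rfl⟩ := MulAction.exists_smul_eq G b₀ b
    refine (Finset.card_bij (fun a _ => g • a) (fun a ha => ?_) (fun a _ a' _ h => smul_left_cancel g h)
      fun a ha => ⟨g⁻¹ • a, ?_, smul_inv_smul g a⟩).symm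
    · simpa using hR g _ _ (Finset.mem_filter.1 ha).2
    · simpa using hR g⁻¹ _ _ (Finset.mem_filter.1 ha).2
  have := Finset.sum_card_bipartiteAbove_eq_sum_card_bipartiteBelow R (s := (Finset.univ : Finset A))
    (t := (Finset.univ : Finset B))
  simp only [Finset.bipartiteAbove, Finset.bipartiteBelow, h1, h2, Finset.sum_const, Finset.card_univ,
    smul_eq_mul] at this
  exact this

/-! ### Transporting to the standard point -/

variable {X : Type*} [MulAction (sieGroup Q) X] [Fintype X]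

/-- The radical of the point of a vector fixes nothing but trivially. -/
def Free (v : V) (x : X) : Prop :=
  ∀ (w : V) (hv : Q v = 0) (hw : polar Q v w = 0), sg v w hv hw • x = x → sg v w hv hw = 1

/-- The radical of the point of a vector fixes a point. -/
def Fixd (v : V) (x : X) : Prop :=
  ∀ (w : V) (hv : Q v = 0) (hw : polar Q v w = 0), sg v w hv hw • x = x

variable (p : HP Q)

theorem xr_eq_one {w : p.W} (h : xr p w = 1) : w = 0 := by
  have e : ap (xr p w) p.f = p.f := by rw [h]; rfl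
  rw [show ap (xr p w) p.f = ((sie p.e (w : V) p.he (p.e_w w) : O Q) : V ≃ₗ[F] V) p.f from rfl, sie_app,
    p.hef, p.w_f w] at e
  have hz : (w : V) + Q (w : V) • p.e = 0 := by
    have h2 : p.f + (0 - Q (w : V) * 1) • p.e - (1 : F) • (w : V) - p.f = 0 :=
      sub_eq_zero.2 e
    rw [← neg_eq_zero, ← h2]
    module
  have h2 := congrArg (polar Q p.f) hz
  rw [polar_add_right, polar_smul_right', p.f_w, p.hfe, zero_add, mul_one, polar_zero_right] at h2
  rw [h2, zero_smul, add_zero] at hz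
  exact Subtype.ext hz

theorem sg_e {w : V} (hw : polar Q p.e w = 0) : ∃ z : p.W, sg p.e w p.he hw = xr p z := by
  have hz := p.split w
  rw [hw, zero_smul, sub_zero] at hz
  refine ⟨⟨_, hz⟩, ?_⟩
  exact (sg_add_smul p.he hw (-polar Q p.f w)).symm.trans
    (sg_congr rfl (by rw [neg_smul, ← sub_eq_add_neg]))

theorem xr_of_sg {g : sieGroup Q} {v : V} {s : F} (hs : s ≠ 0) (hg : ap g v = s • p.e) (w : V)
    (hv : Q v = 0) (hw : polar Q v w = 0) : ∃ z : p.W, g * sg v w hv hw * g⁻¹ = xr p z := by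
  have h1 : polar Q p.e (s • ap g w) = 0 := by
    rw [polar_smul_right', ← polar_smul_left', ← hg]
    exact (O.polar_app _ _ _).trans hw
  obtain ⟨z, hz⟩ := sg_e p h1
  refine ⟨z, ?_⟩
  rw [← hz, sg_conj]
  refine Subtype.ext ?_
  simp only [sg_val]
  rw [sie_congr _ _ (p.qe s) (by rw [← hg]; exact (O.polar_app _ _ _).trans hw) hg rfl,
    sie_smul p.he (by rw [polar_smul_right', mul_eq_zero] at h1; exact h1.resolve_left hs)]

theorem sg_of_xr {g : sieGroup Q} {v : V} {s : F} (hs : s ≠ 0) (hg : ap g v = s • p.e) (hv : Q v = 0)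
    (z : p.W) : ∃ (w : V) (hw : polar Q v w = 0), g * sg v w hv hw * g⁻¹ = xr p z := by
  have hgg : ap g ((ap g).symm (s⁻¹ • (z : V))) = s⁻¹ • (z : V) := (ap g).apply_symm_apply _
  have hw : polar Q v ((ap g).symm (s⁻¹ • (z : V))) = 0 := by
    refine ((O.polar_app (g : O Q) _ _).symm).trans ?_
    show polar Q (ap g v) (ap g _) = 0
    rw [hg, hgg, polar_smul_left', polar_smul_right', p.e_w, mul_zero, mul_zero]
  refine ⟨_, hw, ?_⟩
  rw [sg_conj]
  refine Subtype.ext ?_
  simp only [sg_val, xr]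
  rw [sie_congr _ _ (p.qe s) (by rw [polar_smul_left', polar_smul_right', p.e_w, mul_zero, mul_zero]) hg
    hgg, sie_smul p.he (by rw [polar_smul_right', p.e_w, mul_zero])]
  exact sie_congr _ _ _ _ rfl (by rw [smul_smul, mul_inv_cancel₀ hs, one_smul])

theorem free_iff {g : sieGroup Q} {v : V} {s : F} (hs : s ≠ 0) (hg : ap g v = s • p.e) (hv : Q v = 0)
    (x : X) : Free (Q := Q) v x ↔ Ru p (g • x) = ⊥ := by
  constructor
  · intro h
    rw [AddSubgroup.eq_bot_iff_forall]
    intro z hz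
    obtain ⟨w, hw, e⟩ := sg_of_xr p hs hg hv z
    rw [mem_Ru, ← e, ← mul_smul, inv_mul_cancel_right, mul_smul, smul_left_cancel_iff] at hz
    exact xr_eq_one p (by rw [← e, h w hv hw hz, mul_one, mul_inv_cancel])
  · intro h w hv' hw hfix
    obtain ⟨z, e⟩ := xr_of_sg p hs hg w hv hw
    have : z ∈ Ru p (g • x) := by
      rw [mem_Ru, ← e, ← mul_smul, inv_mul_cancel_right, mul_smul, hfix]
    rw [h, AddSubgroup.mem_bot] at this
    rw [this, xr_zero, mul_inv_eq_one, mul_eq_left] at e
    exact e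

theorem fixd_iff {g : sieGroup Q} {v : V} {s : F} (hs : s ≠ 0) (hg : ap g v = s • p.e) (hv : Q v = 0)
    (x : X) : Fixd (Q := Q) v x ↔ Ru p (g • x) = ⊤ := by
  constructor
  · intro h
    rw [AddSubgroup.eq_top_iff']
    intro z
    obtain ⟨w, hw, e⟩ := sg_of_xr p hs hg hv z
    rw [mem_Ru, ← e, ← mul_smul, inv_mul_cancel_right, mul_smul, h w hv hw]
  · intro h w hv' hw
    obtain ⟨z, e⟩ := xr_of_sg p hs hg w hv hw
    have : z ∈ Ru p (g • x) := by rw [h]; trivial
    rw [mem_Ru, ← e, ← mul_smul, inv_mul_cancel_right, mul_smul, smul_left_cancel_iff] at this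
    exact this

theorem Free.map {v : V} {x : X} (h : Free (Q := Q) v x) (g : sieGroup Q) :
    Free (Q := Q) (ap g v) (g • x) := by
  intro w hv hw hfix
  obtain ⟨w', rfl⟩ := (ap g).surjective w
  have hv' : Q v = 0 := by rwa [O.map_app] at hv
  have hw' : polar Q v w' = 0 := by rwa [O.polar_app] at hw
  have e : sg (ap g v) (ap g w') hv hw = g * sg v w' hv' hw' * g⁻¹ := (sg_conj hv' hw' g).symm
  rw [e, ← mul_smul, inv_mul_cancel_right, mul_smul, smul_left_cancel_iff] at hfix
  rw [e, h w' hv' hw' hfix, mul_one, mul_inv_cancel]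

end Cfsg.Agent.H53.OmIdx
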