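import Cfsg.Agent.H53.OmIdx.Classify
import Cfsg.Agent.H53.OmIdx.Points

/-!
The numerical consequences of having fewer points than there are singular points.
-/

set_option autoImplicit false
set_option linter.unusedSectionVars false

namespace Cfsg.Agent.H53.OmIdx

open QuadraticMap Module Finset
open Cfsg.Agent.Orthogonal
open Cfsg.Agent.H53.OmLow

attribute [local instance] Fintype.ofFinite Classical.propDecidable

variable {F V : Type*} [Field F] [Finite F] [AddCommGroup V] [Module F V] [FiniteDimensional F V]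
variable {Q : QuadraticForm F V} {X : Type*} [MulAction (sieGroup Q) X] [Fintype X]

/-- The hypotheses on the numbers and on the classes of non-singular vectors. -/
structure Nums (Q : QuadraticForm F V) (p : HP Q) (X : Type*) [Fintype X] (K : ℕ) : Prop where
  dim : 5 ≤ finrank F p.W
  fix : 6 ≤ finrank F p.W ∨ ((2 : F) ≠ 0 ∧ ∃ t : F, t ≠ 0 ∧ t ^ 2 ≠ 1)
  few : (Nat.card F - 1) * (Fintype.card X + 1) + 1 ≤
    Nat.card F * zc (restr Q p.W) 0 + (Nat.card F - 1) * Fintype.card p.W
  big : Nat.card F * zc (restr Q p.W) 0 + (Nat.card F - 1) * Fintype.card p.W ≤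
    2 * (Nat.card F - 1) * Fintype.card p.W + 1
  sing : Nat.card F * zc (restr Q p.W) 0 + (Nat.card F - 1) * Fintype.card p.W ≤
    (Nat.card F - 1) * ((Nat.card F ^ 2 + 1) * ((sph p 0).card))
  cls : ∀ u : p.W, Q (u : V) ≠ 0 →
    K ≤ (Finset.univ.filter fun v : p.W => ∃ s : F, s ≠ 0 ∧ Q (v : V) = s ^ 2 * Q (u : V)).card
  clsSing : zc (restr Q p.W) 0 ≤ K
  clsFew : Nat.card F * zc (restr Q p.W) 0 + (Nat.card F - 1) * Fintype.card p.W ≤
    (Nat.card F - 1) * ((if (2 : F) = 0 then 4 else 5) * K)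

variable {p : HP Q} {K : ℕ} (hQ : Nondeg Q) (hn : Nums Q p X K)

theorem sing_pred (p : HP Q) : (sph p 0).card + 1 = zc (restr Q p.W) 0 := sph_zero_add_one p

include hQ hn

/-- The class of a non-singular vector. -/
theorem class_mult {u v : p.W} (hu : Q (u : V) ≠ 0) {s : F} (hs : s ≠ 0)
    (h : Q (v : V) = s ^ 2 * Q (u : V)) : mult (prm Q X) p v = mult (prm Q X) p u := by
  have hu0 : u ≠ 0 := fun e => hu (by rw [e, Submodule.coe_zero, QuadraticMap.map_zero])
  have hv0 : v ≠ 0 := fun e => mul_ne_zero (pow_ne_zero 2 hs) hu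
    (by rw [← h, e, Submodule.coe_zero, QuadraticMap.map_zero])
  rw [← mult_smul (prm Q X) p hQ hn.dim u hs]
  exact mult_eq_of_norm (prm Q X) p hQ hn.dim hv0 (smul_ne_zero hs hu0)
    (by rw [h, Submodule.coe_smul, qmap_smul])

theorem fewOrbits : FewOrbits X p := by
  intro u hu
  have h1 := sum_mult_mul p (X := X)
    (Finset.univ.filter fun v : p.W => ∃ s : F, s ≠ 0 ∧ Q (v : V) = s ^ 2 * Q (u : V))
  have h2 : (Finset.univ.filter fun v : p.W => ∃ s : F, s ≠ 0 ∧ Q (v : V) = s ^ 2 * Q (u : V)).card *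
      mult (prm Q X) p u ≤ Fintype.card X := by
    rw [card_eq_sum_mult p (X := X) hQ, ← smul_eq_mul, ← Finset.sum_const]
    refine le_trans (le_of_eq (Finset.sum_congr rfl fun v hv => ?_))
      (Finset.sum_le_sum_of_subset (Finset.subset_univ _))
    obtain ⟨s, hs, e⟩ := (Finset.mem_filter.1 hv).2
    exact (class_mult hQ hn hu hs e).symm
  have h3 := le_trans (Nat.mul_le_mul_right _ (hn.cls u hu)) h2
  have h4 := hn.few
  have h5 := hn.clsFew
  have hq : 1 < Nat.card F := Finite.one_lt_card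
  rw [← mult_eq_card_orbs]
  set m := mult (prm Q X) p u
  by_cases h0 : (2 : F) = 0
  · refine Or.inr ⟨h0, ?_⟩
    rw [if_pos h0] at h5
    by_contra hc
    have : 4 * K ≤ Fintype.card X := le_trans (by rw [mul_comm K]; exact Nat.mul_le_mul_right _ (by omega)) h3
    have := Nat.mul_le_mul_left (Nat.card F - 1) this
    rw [Nat.mul_add] at h4
    omega
  · refine Or.inl ⟨h0, ?_⟩
    rw [if_neg h0] at h5
    by_contra hc
    have : 5 * K ≤ Fintype.card X := le_trans (by rw [mul_comm K]; exact Nat.mul_le_mul_right _ (by omega)) h3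
    have := Nat.mul_le_mul_left (Nat.card F - 1) this
    rw [Nat.mul_add] at h4
    omega

/-- The kinds of orbits. -/
theorem trichotomy (x : X) :
    (∀ y, y ∈ Au p x) ∨ (∃ u : p.W, Q (u : V) ≠ 0 ∧ u ∈ Au p x ∧
      ∀ v ∈ Au p x, v ∈ Submodule.span F {u}) ∨ ∀ v ∈ Au p x, Q (v : V) = 0 :=
  Au_trichotomy hQ p hn.dim hn.fix (fewOrbits hQ hn) x

theorem sing_mult_le {a : p.W} (ha0 : a ≠ 0) (ha : Q (a : V) = 0) :
    mult (prm Q X) p a ≤ Nat.card F ^ 2 := by
  have h1 : (sph p 0).card * mult (prm Q X) p a ≤ Fintype.card X := by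
    rw [card_eq_sum_mult p (X := X) hQ, ← smul_eq_mul, ← Finset.sum_const]
    refine le_trans (le_of_eq (Finset.sum_congr rfl fun v hv => ?_))
      (Finset.sum_le_sum_of_subset (Finset.subset_univ _))
    exact (mult_eq_of_norm (prm Q X) p hQ hn.dim (mem_sph.1 hv).1 ha0
      ((mem_sph.1 hv).2.trans ha.symm)).symm
  have h4 := hn.few
  have h5 := hn.sing
  have hq : 1 < Nat.card F := Finite.one_lt_card
  by_contra hc
  have : (Nat.card F ^ 2 + 1) * (sph p 0).card ≤ Fintype.card X :=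
    le_trans (by rw [mul_comm]; exact Nat.mul_le_mul_left _ (by omega)) h1
  have := Nat.mul_le_mul_left (Nat.card F - 1) this
  rw [Nat.mul_add] at h4
  omega

end Cfsg.Agent.H53.OmIdx
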