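import Cfsg.Agent.H53.OmIdx.Regular
import Cfsg.Agent.H53.OmLow.Final

/-!
Sizes of the classes of non-singular vectors, and the general statement on small actions.
-/

set_option autoImplicit false
set_option linter.unusedSectionVars false

namespace Cfsg.Agent.H53.OmIdx

open QuadraticMap Module Finset
open Cfsg.Agent.Orthogonal
open Cfsg.Agent.H53.OmLow

attribute [local instance] Fintype.ofFinite Classical.propDecidable

universe v

variable {F V : Type*} [Field F] [Finite F] [AddCommGroup V] [Module F V] [FiniteDimensional F V]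
variable {Q : QuadraticForm F V}

theorem exists_sq_ne_one (hq : 4 ≤ Nat.card F) : ∃ t : F, t ≠ 0 ∧ t ^ 2 ≠ 1 := by
  by_contra hne
  push Not at hne
  have : Nat.card F ≤ 3 := by
    rw [Nat.card_eq_fintype_card, ← Finset.card_univ]
    refine (Finset.card_le_card (t := {0, 1, -1}) fun x _ => ?_).trans Finset.card_le_three
    simp only [Finset.mem_insert, Finset.mem_singleton]
    rcases eq_or_ne x 0 with hx | hx
    · exact Or.inl hx
    · exact Or.inr (sq_eq_one_iff.1 (hne x hx))
  omega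

/-- A class of non-singular vectors has several spheres. -/
theorem class_ge (p : HP Q) {L : ℕ} (hL : ∀ c : F, c ≠ 0 → L ≤ (sph p c).card) {u : p.W}
    (hu : Q (u : V) ≠ 0) :
    Nat.card F / 2 * L ≤
      (Finset.univ.filter fun v : p.W => ∃ s : F, s ≠ 0 ∧ Q (v : V) = s ^ 2 * Q (u : V)).card := by
  set S : Finset F := (Finset.univ.filter fun s : F => s ≠ 0).image fun s => s ^ 2 * Q (u : V)
  have hcard : Nat.card F / 2 ≤ S.card := by
    have h1 : (Finset.univ.filter fun s : F => s ≠ 0).card ≤ 2 * S.card := by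
      refine Finset.card_le_mul_card_image _ 2 fun c hc => ?_
      obtain ⟨s, hs, rfl⟩ := Finset.mem_image.1 hc
      refine (Finset.card_le_card (t := {s, -s}) fun r hr => ?_).trans Finset.card_le_two
      have e : r ^ 2 = s ^ 2 := mul_right_cancel₀ hu (Finset.mem_filter.1 hr).2
      simp only [Finset.mem_insert, Finset.mem_singleton]
      exact sq_eq_sq_iff_eq_or_eq_neg.1 e
    have h2 : (Finset.univ.filter fun s : F => s ≠ 0).card + 1 = Nat.card F := by
      rw [Nat.card_eq_fintype_card, ← Finset.card_univ,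
        show (Finset.univ.filter fun s : F => s ≠ 0) = Finset.univ.erase 0 by ext; simp,
        Finset.card_erase_add_one (Finset.mem_univ _)]
    omega
  have hdisj : ∀ c ∈ S, ∀ c' ∈ S, c ≠ c' → Disjoint (sph p c) (sph p c') := fun c _ c' _ hcc =>
    Finset.disjoint_left.2 fun v h h' => hcc ((mem_sph.1 h).2.symm.trans (mem_sph.1 h').2)
  have hsub : S.biUnion (sph p) ⊆
      Finset.univ.filter fun v : p.W => ∃ s : F, s ≠ 0 ∧ Q (v : V) = s ^ 2 * Q (u : V) := by
    intro v hv
    obtain ⟨c, hc, hv⟩ := Finset.mem_biUnion.1 hv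
    obtain ⟨s, hs, rfl⟩ := Finset.mem_image.1 hc
    exact Finset.mem_filter.2 ⟨Finset.mem_univ _, s, (Finset.mem_filter.1 hs).2, (mem_sph.1 hv).2⟩
  refine le_trans ?_ (Finset.card_le_card hsub)
  rw [Finset.card_biUnion hdisj]
  refine le_trans (Nat.mul_le_mul_right L hcard) ?_
  rw [← smul_eq_mul, ← Finset.sum_const]
  refine Finset.sum_le_sum fun c hc => hL c ?_
  obtain ⟨s, hs, rfl⟩ := Finset.mem_image.1 hc
  exact mul_ne_zero (pow_ne_zero 2 (Finset.mem_filter.1 hs).2) hu

/-- The counts attached to a pair. -/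
theorem card_W_of_type (hQ : Nondeg Q) (p : HP Q) {k d : ℕ} (hT : HasType (restr Q p.W) k d) :
    Fintype.card p.W = Nat.card F ^ (2 * k + d) := by
  rw [← Nat.card_eq_fintype_card, natCard_eq_pow, hT.finrank_eq (p.nd hQ), add_comm]

theorem zc_step (hQ : Nondeg Q) {k d : ℕ} (hT : HasType Q (k + 1) d) (p : HP Q) :
    zc Q 0 = Nat.card F * zc (restr Q p.W) 0 + (Nat.card F - 1) * Fintype.card p.W := by
  have hTp := hT.perp_pair hQ p
  have h1 := zc_zero hT
  have h2 := zc_zero hTp
  rw [card_W_of_type hQ p hTp]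
  obtain ⟨q, hq⟩ : ∃ q, Nat.card F = q + 1 :=
    ⟨Nat.card F - 1, by have : 1 < Nat.card F := Finite.one_lt_card; omega⟩
  rw [hq] at h1 h2 ⊢
  rw [Nat.add_sub_cancel]
  refine Nat.eq_of_mul_eq_mul_left q.succ_pos ?_
  rw [Nat.succ_eq_add_one]
  rw [show 2 * (k + 1) + d = 2 * k + d + 2 by ring, show k + 1 + 1 = k + 2 by ring,
    show k + 1 + d = k + d + 1 by ring] at h1
  simp only [pow_succ, pow_add] at h1 h2 ⊢
  nlinarith

/-- Sets of singular weights are on lines when there are too few orbits to cover the points. -/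
theorem lines_of_count {X : Type*} [MulAction (sieGroup Q) X] [Fintype X] (hQ : Nondeg Q) {p : HP Q}
    {K : ℕ} (hn : Nums Q p X K) {ν : ℕ}
    (hν : ∀ p₁ : HP (restr Q p.W), (∀ S : Submodule F p₁.W,
      TotSing (restr (restr Q p.W) p₁.W) S → finrank F S ≤ ν) ∧
      Nat.card F ^ 2 * (Nat.card F ^ ν - 1) < (sph p₁ 0).card) (x : X) (hx : TSx p x) :
    ∃ l : p.W, ∀ v ∈ Au p x, v ∈ Submodule.span F {l} := by
  by_contra hne
  push Not at hne
  obtain ⟨a, ha, ha0⟩ := hne 0
  have ha0' : a ≠ 0 := fun e => ha0 (by rw [e]; exact Submodule.zero_mem _)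
  obtain ⟨b, hb, hab⟩ := (p.nd hQ).exists_partner ha0' (hx a ha)
  let p₁ : HP (restr Q p.W) := ⟨a, b, hx a ha, hb, hab⟩
  obtain ⟨y, hy, hy0⟩ := hne a
  have hy1 : pr p₁ y ≠ 0 := fun e => hy0 (by
    have := eq_pr_add p₁ (hx.polar_eq p (show p₁.e ∈ Au p x from ha) hy)
    rw [e, Submodule.coe_zero, zero_add] at this
    rw [this]
    exact Submodule.smul_mem _ _ (Submodule.mem_span_singleton_self _))
  have hd := p₁.finrank_W (p.nd hQ)
  obtain ⟨h1, h2⟩ := hν p₁
  have h3 := cover_le hQ p p₁ (by have := hn.dim; omega) h1 (show p₁.e ∈ Au p x from ha) hx hy hy1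
  have h4 : (orbsTS p p₁ X).card ≤ Nat.card F ^ 2 :=
    (Finset.card_filter_le _ _).trans ((mult_eq_card_orbs p (X := X) p₁.e).symm.le.trans
      (sing_mult_le hQ hn p₁.e_ne (hx a ha)))
  exact absurd (h3.trans (Nat.mul_le_mul_right _ h4)) (not_le.2 h2)

theorem few_of_lt {X : Type*} [Fintype X] (hQ : Nondeg Q) {k d : ℕ} (hT : HasType Q (k + 1) d)
    (p : HP Q) (h : Fintype.card X < Nat.card (Pt Q)) :
    (Nat.card F - 1) * (Fintype.card X + 1) + 1 ≤
      Nat.card F * zc (restr Q p.W) 0 + (Nat.card F - 1) * Fintype.card p.W := by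
  rw [← zc_step hQ hT p, ← card_pt (Q := Q)]
  exact Nat.add_le_add_right (Nat.mul_le_mul_left _ h) 1

/-- From the impossibility of small actions to the index bound. -/
theorem index_ge {F : Type*} [Field F] [Finite F] {V : Type v} [AddCommGroup V] [Module F V]
    [FiniteDimensional F V] {Q : QuadraticForm F V} (h : ∀ (X : Type v) [MulAction (sieGroup Q) X] [Fintype X]
      [MulAction.IsPretransitive (sieGroup Q) X] [Nontrivial X],
      Fintype.card X < Nat.card (Pt Q) → False)
    (H : Subgroup (sieGroup Q)) (hH : H ≠ ⊤) : Nat.card (Pt Q) ≤ H.index := by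
  by_contra hc
  have : Finite (sieGroup Q) := finite_sie Q
  have : Nontrivial (sieGroup Q ⧸ H) := QuotientGroup.nontrivial_iff.2 hH
  refine h (sieGroup Q ⧸ H) ?_
  rw [← Nat.card_eq_fintype_card, ← Subgroup.index_eq_card]
  omega

end Cfsg.Agent.H53.OmIdx
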