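import Cfsg.Agent.H53.OmIdx.Fix

/-!
The possible sets of weights of one orbit.
-/

set_option autoImplicit false
set_option linter.unusedSectionVars false

namespace Cfsg.Agent.H53.OmIdx

open QuadraticMap Module Finset
open Cfsg.Agent.Orthogonal
open Cfsg.Agent.H53.OmLow

attribute [local instance] Fintype.ofFinite Classical.propDecidable

section Geometry

variable {F V : Type*} [Field F] [Finite F] [AddCommGroup V] [Module F V] [FiniteDimensional F V]
variable {Q : QuadraticForm F V}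

/-- The orthogonal of a non-singular vector is spanned by singular vectors. -/
theorem perp_le_of_singular (hQ : Nondeg Q) (hn : 5 ≤ finrank F V) {u : V} (A : AddSubgroup V)
    (h : ∀ c, Q c = 0 → polar Q c u = 0 → c ∈ A) {x : V} (hx : polar Q x u = 0) : x ∈ A := by
  obtain ⟨p, hp⟩ := exists_orth_hp hQ hn u
  obtain ⟨he, hf⟩ := p.mem_W.1 hp
  obtain ⟨k, hk, hxk⟩ : ∃ k ∈ p.W, x = k + polar Q p.f x • p.e + polar Q p.e x • p.f :=
    ⟨_, p.split x, by abel⟩
  have hku : polar Q k u = 0 := by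
    rw [hxk, polar_add_left, polar_add_left, polar_smul_left', polar_smul_left', he, hf] at hx
    simpa using hx
  have he' : ∀ a : F, a • p.e ∈ A := fun a =>
    h _ (p.qe a) (by rw [polar_smul_left', he, mul_zero])
  have hf' : ∀ a : F, a • p.f ∈ A := fun a =>
    h _ (by rw [qmap_smul, p.hf, mul_zero]) (by rw [polar_smul_left', hf, mul_zero])
  obtain ⟨hke, hkf⟩ := p.mem_W.1 hk
  have hs := h (k + p.f + (-Q k) • p.e) (by
      simp only [map_add_polar, qmap_smul, p.he, p.hf, polar_add_left, polar_smul_right', p.hfe,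
        polar_comm (⇑Q) k p.f, polar_comm (⇑Q) k p.e, hke, hkf]
      ring)
    (by simp [polar_add_left, polar_smul_left', hku, he, hf])
  have hk' : k ∈ A := by
    have := A.add_mem (A.sub_mem hs (hf' 1)) (he' (Q k))
    convert this using 1
    module
  rw [hxk]
  exact A.add_mem (A.add_mem hk' (he' _)) (hf' _)

/-- The span of an additive subgroup of singular vectors is totally singular. -/
theorem totSing_span (A : AddSubgroup V) (h : ∀ a ∈ A, Q a = 0) :
    TotSing Q (Submodule.span F (A : Set V)) := by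
  have hp : ∀ x ∈ A, ∀ y ∈ Submodule.span F (A : Set V), polar Q x y = 0 := by
    intro x hx y hy
    induction hy using Submodule.span_induction with
    | mem y hy =>
      have := h _ (A.add_mem hx hy)
      rw [map_add_polar, h x hx, h y hy, zero_add, zero_add] at this
      exact this
    | zero => exact polar_zero_right (Q := Q) _
    | add a b _ _ ha hb => rw [polar_add_right, ha, hb, add_zero]
    | smul c a _ ha => rw [polar_smul_right', ha, mul_zero]
  intro y hy
  suffices Q y = 0 ∧ ∀ z ∈ Submodule.span F (A : Set V), polar Q y z = 0 from this.1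
  induction hy using Submodule.span_induction with
  | mem y hy => exact ⟨h y hy, hp y hy⟩
  | zero => exact ⟨QuadraticMap.map_zero _, fun z _ => polar_zero_left (Q := Q) _⟩
  | add a b ha hb iha ihb =>
    exact ⟨by rw [map_add_polar, iha.1, ihb.1, iha.2 b hb, zero_add, zero_add],
      fun z hz => by rw [polar_add_left, iha.2 z hz, ihb.2 z hz, add_zero]⟩
  | smul c a _ iha =>
    exact ⟨by rw [qmap_smul, iha.1, mul_zero],
      fun z hz => by rw [polar_smul_left', iha.2 z hz, mul_zero]⟩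

/-- A common partner inside the orthogonal of a non-singular vector. -/
theorem exists_common_perp (hQ : Nondeg Q) {u a₀ a : V} (hu : Q u ≠ 0) (ha₀ : a₀ ≠ 0)
    (hQa₀ : Q a₀ = 0) (ha₀u : polar Q a₀ u = 0) (ha : a ≠ 0) (hQa : Q a = 0) (hau : polar Q a u = 0)
    (hT : ∃ T₁ T₂, polar Q T₁ T₂ ≠ 0 ∧ polar Q a₀ T₁ = 0 ∧ polar Q T₁ u = 0 ∧
      polar Q a₀ T₂ = 0 ∧ polar Q T₂ u = 0) :
    ∃ c, Q c = 0 ∧ polar Q c u = 0 ∧ polar Q a₀ c ≠ 0 ∧ polar Q a c ≠ 0 := by
  obtain ⟨p, rfl, hp⟩ := exists_pair_perp hQ hu ha₀ hQa₀ ha₀u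
  obtain ⟨-, hfu⟩ := p.mem_W.1 hp
  by_contra hne
  push Not at hne
  have key : ∀ k : V, polar Q p.e k = 0 → polar Q p.f k = 0 → polar Q k u = 0 →
      polar Q a p.f + polar Q a k - Q k * polar Q a p.e = 0 := by
    intro k h1 h2 h3
    have := hne (p.f + k + (-Q k) • p.e)
      (by
        simp only [map_add_polar, qmap_smul, p.he, p.hf, polar_add_left, polar_smul_right', p.hfe,
          polar_comm (⇑Q) k p.e, h1, h2]
        ring)
      (by simp [polar_add_left, polar_smul_left', hfu, h3, ha₀u])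
      (by simp [polar_add_right, polar_smul_right', p.hef, h1, polar_self', p.he])
    simp only [polar_add_right, polar_smul_right'] at this
    linear_combination this
  have hb : polar Q a p.f = 0 := by
    simpa using key 0 (polar_zero_right (Q := Q) _) (polar_zero_right (Q := Q) _)
      (polar_zero_left (Q := Q) _)
  obtain ⟨T₁, T₂, hT, h1, h1', h2, h2'⟩ := hT
  have hK : ∀ T, polar Q p.e T = 0 → polar Q T u = 0 →
      ∀ k, k = T - polar Q p.f T • p.e →
        polar Q p.e k = 0 ∧ polar Q p.f k = 0 ∧ polar Q k u = 0 := by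
    rintro T hT hTu k rfl
    simp [polar_sub_right, polar_sub_left, polar_smul_right', polar_smul_left', polar_self', p.he,
      p.hfe, hT, hTu, ha₀u]
  obtain ⟨k₁, hk₁⟩ : ∃ k, k = T₁ - polar Q p.f T₁ • p.e := ⟨_, rfl⟩
  obtain ⟨k₂, hk₂⟩ : ∃ k, k = T₂ - polar Q p.f T₂ • p.e := ⟨_, rfl⟩
  obtain ⟨a1, a2, a3⟩ := hK T₁ h1 h1' _ hk₁
  obtain ⟨b1, b2, b3⟩ := hK T₂ h2 h2' _ hk₂
  have e1 := key k₁ a1 a2 a3
  have e2 := key k₂ b1 b2 b3
  have e3 := key (k₁ + k₂) (by rw [polar_add_right, a1, b1, add_zero])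
    (by rw [polar_add_right, a2, b2, add_zero]) (by rw [polar_add_left, a3, b3, add_zero])
  have hk12 : polar Q k₁ k₂ = polar Q T₁ T₂ := by
    rw [hk₁, hk₂]
    simp [polar_sub_right, polar_sub_left, polar_smul_right', polar_smul_left', polar_self', p.he,
      h2, polar_comm (⇑Q) T₁ p.e, h1]
  rw [hb] at e1 e2 e3
  rw [polar_add_right, map_add_polar, hk12] at e3
  have hβ : polar Q a p.e = 0 := by
    have : polar Q T₁ T₂ * polar Q a p.e = 0 := by linear_combination e1 + e2 - e3
    exact (mul_eq_zero.1 this).resolve_left hT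
  have hm : a ∈ Submodule.span F {u} := by
    rw [← hQ.perp_perp (Submodule.span F {u})]
    intro y hy
    rw [mem_perp_span_singleton] at hy
    have hy' : polar Q (y - polar Q p.f y • p.e - polar Q p.e y • p.f) u = 0 := by
      simp [polar_sub_left, polar_smul_left', polar_comm (⇑Q) y u, hy, hfu, ha₀u]
    have hm := p.mem_W.1 (p.split y)
    have e := key _ hm.1 hm.2 hy'
    simp only [polar_sub_right, polar_smul_right', hβ, hb, mul_zero, sub_zero, zero_add] at e
    rw [polar_comm]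
    exact e
  obtain ⟨l, rfl⟩ := Submodule.mem_span_singleton.1 hm
  rw [qmap_smul, mul_eq_zero, or_iff_left hu, pow_eq_zero_iff two_ne_zero] at hQa
  exact ha (by rw [hQa, zero_smul])

end Geometry

variable {F V : Type*} [Field F] [Finite F] [AddCommGroup V] [Module F V] [FiniteDimensional F V]
variable {Q : QuadraticForm F V} {X : Type*} [MulAction (sieGroup Q) X] [Fintype X]

/-- The bound on the orbits of the non-singular weights. -/
def FewOrbits (X : Type*) [MulAction (sieGroup Q) X] [Fintype X] (p : HP Q) : Prop :=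
  ∀ u : p.W, Q (u : V) ≠ 0 →
    ((2 : F) ≠ 0 ∧ (orbs p X u).card ≤ 4) ∨ ((2 : F) = 0 ∧ (orbs p X u).card ≤ 3)

variable (hQ : Nondeg Q) (p : HP Q) (hW : 5 ≤ finrank F p.W)
  (hq : 6 ≤ finrank F p.W ∨ ((2 : F) ≠ 0 ∧ ∃ t : F, t ≠ 0 ∧ t ^ 2 ≠ 1))
  (hB : FewOrbits X p)

include hQ hW hq hB

theorem perp_le_Au {x : X} {u v : p.W} (hu : Q (u : V) ≠ 0) (hxu : u ∈ Au p x) (hxv : v ∈ Au p x)
    (hv : v ∉ Submodule.span F {u}) : ∀ y : p.W, polar (restr Q p.W) y u = 0 → y ∈ Au p x := by
  have hR := p.nd hQ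
  have step : ∀ (a w : p.W), restr Q p.W a = 0 → polar (restr Q p.W) a u = 0 → w ∈ Au p x →
      polar (restr Q p.W) a w ≠ 0 → ∀ l : F, l • a ∈ Au p x := by
    intro a w ha hau hw haw l
    have ha0 : a ≠ 0 := fun e => haw (by rw [e, polar_zero_left])
    obtain ⟨T₁, T₂, hT, hfix⟩ := exists_fix_pair hQ p u (hB u hu) hW hq hu ha0 ha hau
    obtain ⟨h1, -, f1⟩ := hfix T₁ (Or.inl rfl)
    obtain ⟨h2, -, f2⟩ := hfix T₂ (Or.inr rfl)
    set s := -l / (polar (restr Q p.W) a w * polar (restr Q p.W) T₁ T₂) with hs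
    have g1 : polar (restr Q p.W) a (s • T₁) = 0 := by rw [polar_smul_right', h1, mul_zero]
    have g2 : polar (restr Q p.W) a ((1 : F) • T₂) = 0 := by rw [polar_smul_right', h2, mul_zero]
    have m1 := (f1 s g1).mem hQ p u hxu hw
    have m2 := (f2 1 g2).mem hQ p u hxu hw
    have m12 := ((f1 s g1).mul hQ p u (f2 1 g2)).mem hQ p u hxu hw
    rw [sg_mul] at m12
    have hkey : s * polar (restr Q p.W) T₁ T₂ * polar (restr Q p.W) a w = -l := by
      rw [hs]; field_simp
    have e : l • a = apW (sg a (s • T₁ + (1 : F) • T₂) ha (by rw [polar_add_right, g1, g2, add_zero])) w -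
        apW (sg a (s • T₁) ha g1) w - apW (sg a ((1 : F) • T₂) ha g2) w + w := by
      simp only [apW, sg_val, sie_app, map_add_polar, polar_add_left, qmap_smul, polar_smul_left',
        polar_smul_right', one_smul, one_pow, one_mul, mul_one]
      match_scalars <;> first
        | linear_combination hkey
        | ring1
    rw [e]
    exact (Au p x).add_mem ((Au p x).sub_mem ((Au p x).sub_mem m12 m1) m2) hw
  have hu' : restr Q p.W u ≠ 0 := hu
  obtain ⟨a₀, ha₀, ha₀u, ha₀v⟩ : ∃ a : p.W, restr Q p.W a = 0 ∧ polar (restr Q p.W) a u = 0 ∧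
      polar (restr Q p.W) a v ≠ 0 := by
    by_contra hne
    push Not at hne
    refine hv ?_
    rw [← hR.perp_perp (Submodule.span F {u})]
    intro y hy
    rw [mem_perp_span_singleton, polar_comm] at hy
    exact perp_le_of_singular hR hW (u := u)
      (AddMonoidHom.ker ((restr Q p.W).polarBilin.flip v).toAddMonoidHom)
      (fun c h1 h2 => hne c h1 h2) hy
  have ha₀0 : a₀ ≠ 0 := fun e => ha₀v (by rw [e, polar_zero_left])
  have h₀ : a₀ ∈ Au p x := by simpa using step a₀ v ha₀ ha₀u hxv ha₀v 1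
  intro y hy
  refine perp_le_of_singular hR hW (u := u) (Au p x) (fun a ha hau => ?_) hy
  rcases eq_or_ne a 0 with rfl | ha0
  · exact zero_mem _
  obtain ⟨T₁, T₂, hT, hfix⟩ := exists_fix_pair hQ p u (hB u hu) hW hq hu' ha₀0 ha₀ ha₀u
  obtain ⟨c, hc, hcu, hc₀, hca⟩ := exists_common_perp hR hu' ha₀0 ha₀ ha₀u ha0 ha hau
    ⟨T₁, T₂, hT, (hfix T₁ (Or.inl rfl)).1, (hfix T₁ (Or.inl rfl)).2.1,
      (hfix T₂ (Or.inr rfl)).1, (hfix T₂ (Or.inr rfl)).2.1⟩
  have hcm : c ∈ Au p x := by
    simpa using step c a₀ hc hcu h₀ (by rwa [polar_comm]) 1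
  simpa using step a c ha hau hcm hca 1

/-- The weights of an orbit containing a non-singular one. -/
theorem Au_cases {x : X} {u : p.W} (hu : Q (u : V) ≠ 0) (hxu : u ∈ Au p x) :
    (∀ y, y ∈ Au p x) ∨ ∀ v ∈ Au p x, v ∈ Submodule.span F {u} := by
  by_cases h : ∀ v ∈ Au p x, v ∈ Submodule.span F {u}
  · exact Or.inr h
  push Not at h
  obtain ⟨v, hxv, hv⟩ := h
  refine Or.inl fun y => ?_
  have hR := p.nd hQ
  have h1 := perp_le_Au hQ p hW hq hB hu hxu hxv hv
  obtain ⟨p₀, hp₀⟩ := exists_orth_hp hR hW u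
  obtain ⟨he, hf⟩ := p₀.mem_W.1 hp₀
  set u' := p₀.e + p₀.f with hu'
  have hQu' : restr Q p.W u' = 1 := by rw [hu', map_add_polar, p₀.he, p₀.hf, p₀.hef]; ring
  have hu'm : u' ∈ Au p x := h1 _ (by rw [hu', polar_add_left, he, hf, add_zero])
  have hfu' : polar (restr Q p.W) u' p₀.f = 1 := by
    rw [hu', polar_add_left, p₀.hef, polar_self', p₀.hf]; ring
  have hu'u : u ∉ Submodule.span F {u'} := fun hm => by
    obtain ⟨l, hl⟩ := Submodule.mem_span_singleton.1 hm
    have := congrArg (fun z => polar (restr Q p.W) z p₀.f) hl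
    simp only [polar_smul_left', hfu', polar_comm (⇑(restr Q p.W)) u p₀.f, hf, mul_one] at this
    exact hu (by rw [← hl, this, zero_smul, Submodule.coe_zero, QuadraticMap.map_zero])
  have hQ' : Q (u' : V) ≠ 0 := by rw [← restr_apply, hQu']; exact one_ne_zero
  have h2 := perp_le_Au hQ p hW hq hB hQ' hu'm hxu hu'u
  set l := polar (restr Q p.W) y u'
  have := (Au p x).add_mem
    (h2 (y - l • p₀.f) (by rw [polar_sub_left, polar_smul_left', polar_comm (⇑(restr Q p.W)) p₀.f, hfu',
      mul_one, sub_self]))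
    (h1 (l • p₀.f) (by rw [polar_smul_left', hf, mul_zero]))
  rwa [sub_add_cancel] at this

/-- The three kinds of orbits. -/
theorem Au_trichotomy (x : X) :
    (∀ y, y ∈ Au p x) ∨ (∃ u : p.W, Q (u : V) ≠ 0 ∧ u ∈ Au p x ∧
      ∀ v ∈ Au p x, v ∈ Submodule.span F {u}) ∨ ∀ v ∈ Au p x, Q (v : V) = 0 := by
  by_cases h : ∀ v ∈ Au p x, Q (v : V) = 0
  · exact Or.inr (Or.inr h)
  push Not at h
  obtain ⟨u, hm, hu⟩ := h
  rcases Au_cases hQ p hW hq hB hu hm with h1 | h1
  · exact Or.inl h1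
  · exact Or.inr (Or.inl ⟨u, hu, hm, h1⟩)

end Cfsg.Agent.H53.OmIdx
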