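import Cfsg.Agent.H53.OmIdx.Bounds

/-!
Orbits with totally singular sets of weights through a given singular one.
-/

set_option autoImplicit false
set_option linter.unusedSectionVars false

namespace Cfsg.Agent.H53.OmIdx

open QuadraticMap Module Finset
open Cfsg.Agent.Orthogonal
open Cfsg.Agent.H53.OmLow

attribute [local instance] Fintype.ofFinite Classical.propDecidable

variable {F V : Type*} [Field F] [Finite F] [AddCommGroup V] [Module F V] [FiniteDimensional F V]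
variable {Q : QuadraticForm F V}

/-- The projection to the orthogonal of a pair. -/
noncomputable def pr (p : HP Q) : V →ₗ[F] p.W :=
  LinearMap.codRestrict p.W
    (LinearMap.id - (Q.polarBilin p.f).smulRight p.e - (Q.polarBilin p.e).smulRight p.f) p.split

theorem pr_val (p : HP Q) (x : V) :
    (pr p x : V) = x - polar Q p.f x • p.e - polar Q p.e x • p.f := rfl

theorem pr_of_mem (p : HP Q) (w : p.W) : pr p (w : V) = w :=
  Subtype.ext (by rw [pr_val, p.f_w, p.e_w]; simp)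

theorem eq_pr_add (p : HP Q) {x : V} (h : polar Q p.e x = 0) :
    x = (pr p x : V) + polar Q p.f x • p.e := by
  rw [pr_val, h, zero_smul, sub_zero, sub_add_cancel]

theorem qmap_pr (p : HP Q) {x : V} (h : polar Q p.e x = 0) : Q (pr p x : V) = Q x := by
  rw [pr_val, h, zero_smul, sub_zero, qmap_sub, qmap_smul, polar_smul_right', polar_comm (⇑Q) x p.e, h,
    p.he]
  ring

variable {X : Type*} [MulAction (sieGroup Q) X] [Fintype X]
variable (hQ : Nondeg Q) (p : HP Q) (p₁ : HP (restr Q p.W))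

/-- Totally singular weights only. -/
def TSx (x : X) : Prop := ∀ v ∈ Au p x, restr Q p.W v = 0

/-- The orbits through the point with only singular weights. -/
noncomputable def orbsTS (X : Type*) [MulAction (sieGroup Q) X] [Fintype X] : Finset (Finset X) :=
  (orbs p X p₁.e).filter fun O => ∀ x ∈ O, TSx p x

/-- The singular points seen in an orbit. -/
noncomputable def SO (O : Finset X) : Finset p₁.W :=
  Finset.univ.filter fun v => v ≠ 0 ∧ ∃ x ∈ O, ∃ y ∈ Au p x, ∃ s : F, s ≠ 0 ∧ pr p₁ y = s • v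

theorem TSx.of_mem {x z : X} (h : TSx p x) (hz : z ∈ orb p x) : TSx p z := by
  intro v hv
  rw [Au_eq_of_mem p hz] at hv
  exact h v hv

theorem mem_orbsTS {x : X} (ha : p₁.e ∈ Au p x) (hx : TSx p x) : orb p x ∈ orbsTS p p₁ X :=
  Finset.mem_filter.2 ⟨(mem_orbs p).2 ⟨x, ha, rfl⟩, fun _ hz => hx.of_mem p hz⟩

theorem exists_of_orbsTS {O : Finset X} (hO : O ∈ orbsTS p p₁ X) :
    ∃ x, p₁.e ∈ Au p x ∧ TSx p x ∧ orb p x = O := by
  obtain ⟨h1, h2⟩ := Finset.mem_filter.1 hO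
  obtain ⟨x, hx, rfl⟩ := (mem_orbs p).1 h1
  exact ⟨x, hx, h2 x (self_mem_orb p x), rfl⟩

theorem TSx.polar_eq {x : X} (h : TSx p x) {v w : p.W} (hv : v ∈ Au p x) (hw : w ∈ Au p x) :
    polar (restr Q p.W) v w = 0 := by
  have := h _ ((Au p x).add_mem hv hw)
  rw [map_add_polar, h v hv, h w hw, zero_add, zero_add] at this
  exact this

theorem mem_SO {x : X} {y : p.W} (hy : y ∈ Au p x) (hy0 : pr p₁ y ≠ 0) :
    pr p₁ y ∈ SO p p₁ (orb p x) :=
  Finset.mem_filter.2 ⟨Finset.mem_univ _, hy0, x, self_mem_orb p x, y, hy, 1, one_ne_zero,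
    (one_smul F _).symm⟩

/-- Every orbit sees at most one totally singular subspace. -/
theorem card_SO {ν : ℕ} (hν : ∀ S : Submodule F p₁.W, TotSing (restr (restr Q p.W) p₁.W) S → finrank F S ≤ ν)
    {O : Finset X} (hO : O ∈ orbsTS p p₁ X) : (SO p p₁ O).card + 1 ≤ Nat.card F ^ ν := by
  obtain ⟨x, ha, hx, rfl⟩ := exists_of_orbsTS p p₁ hO
  set B : AddSubgroup p₁.W := (Au p x).map (pr p₁).toAddMonoidHom
  have hB : ∀ b ∈ B, restr (restr Q p.W) p₁.W b = 0 := by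
    rintro _ ⟨y, hy, rfl⟩
    show restr Q p.W (pr p₁ y : p.W) = 0
    rw [qmap_pr p₁ (hx.polar_eq p ha hy)]
    exact hx y hy
  set S := Submodule.span F (B : Set p₁.W)
  have hS : finrank F S ≤ ν := hν S (totSing_span B hB)
  have hsub : insert 0 (SO p p₁ (orb p x)) ⊆ Finset.univ.filter fun v : p₁.W => v ∈ S := by
    intro v hv
    refine Finset.mem_filter.2 ⟨Finset.mem_univ _, ?_⟩
    rcases Finset.mem_insert.1 hv with rfl | hv
    · exact zero_mem _
    obtain ⟨-, -, z, hz, y, hy, s, hs, e⟩ := Finset.mem_filter.1 hv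
    rw [Au_eq_of_mem p hz] at hy
    have : pr p₁ y ∈ S := Submodule.subset_span ⟨y, hy, rfl⟩
    rw [e] at this
    exact (S.smul_mem_iff hs).1 this
  have h1 := Finset.card_le_card hsub
  rw [Finset.card_insert_of_notMem (fun h => (Finset.mem_filter.1 h).2.1 rfl),
    ← Fintype.card_subtype] at h1
  refine h1.trans ?_
  rw [← Nat.card_eq_fintype_card, show Nat.card {v : p₁.W // v ∈ S} = Nat.card F ^ finrank F S from
    natCard_eq_pow S]
  exact Nat.pow_le_pow_right Nat.card_pos hS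

theorem SO_subset {O : Finset X} (hO : O ∈ orbsTS p p₁ X) : SO p p₁ O ⊆ sph p₁ 0 := by
  obtain ⟨x, ha, hx, rfl⟩ := exists_of_orbsTS p p₁ hO
  intro v hv
  obtain ⟨-, hv0, z, hz, y, hy, s, hs, e⟩ := Finset.mem_filter.1 hv
  rw [Au_eq_of_mem p hz] at hy
  refine mem_sph.2 ⟨hv0, ?_⟩
  have h1 := qmap_pr p₁ (hx.polar_eq p ha hy)
  rw [hx y hy, e, Submodule.coe_smul, qmap_smul, mul_eq_zero] at h1
  exact h1.resolve_left (pow_ne_zero 2 hs)

include hQ

theorem Au_emb {k : sieGroup (restr Q p.W)} {x : X} {y : p.W} (hy : y ∈ Au p x) :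
    apW k y ∈ Au p (emb hQ p k • x) :=
  (Au_map p hQ k x y).2 hy

theorem TSx.map (k : sieGroup (restr Q p.W)) {x : X} (hx : TSx p x) : TSx p (emb hQ p k • x) := by
  intro v hv
  obtain ⟨v, rfl⟩ := (apW k).surjective v
  rw [O.map_app]
  exact hx v ((Au_map p hQ k x v).1 hv)

/-- Moving an orbit by an element fixing the point. -/
theorem orbsTS_map {k : sieGroup (restr Q p.W)} (hk : apW k p₁.e = p₁.e) {x : X} (ha : p₁.e ∈ Au p x)
    (hx : TSx p x) : orb p (emb hQ p k • x) ∈ orbsTS p p₁ X := by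
  refine mem_orbsTS p p₁ ?_ (hx.map hQ p k)
  have := Au_emb hQ p (k := k) ha
  rwa [hk] at this

theorem pr_emb₁ (g : sieGroup (restr (restr Q p.W) p₁.W)) {y : p.W}
    (hy : polar (restr Q p.W) p₁.e y = 0) :
    pr p₁ (apW (emb (p.nd hQ) p₁ g) y) = apW g (pr p₁ y) := by
  conv_lhs => rw [eq_pr_add p₁ hy, map_add, map_smul,
    show apW (emb (p.nd hQ) p₁ g) p₁.e = p₁.e from emb_e (p.nd hQ) p₁ g,
    show apW (emb (p.nd hQ) p₁ g) (pr p₁ y : p.W) = (apW g (pr p₁ y) : p.W) from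
      emb_app (p.nd hQ) p₁ g _]
  rw [map_add, map_smul, pr_of_mem]
  have : pr p₁ p₁.e = 0 := Subtype.ext (by
    rw [pr_val, p₁.hfe, polar_self', p₁.he]; simp)
  rw [this, smul_zero, add_zero]

/-- Every singular point of the orthogonal is seen, if one is. -/
theorem sph_subset (hW : 3 ≤ finrank F p₁.W) {x : X} (ha : p₁.e ∈ Au p x) (hx : TSx p x) {y : p.W}
    (hy : y ∈ Au p x) (hy0 : pr p₁ y ≠ 0) : sph p₁ 0 ⊆ (orbsTS p p₁ X).biUnion (SO p p₁) := by
  intro v hv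
  have hR2 := p₁.nd (p.nd hQ)
  have hQy : restr (restr Q p.W) p₁.W (pr p₁ y) = 0 :=
    (qmap_pr p₁ (hx.polar_eq p ha hy)).trans (hx y hy)
  obtain ⟨g, hg, s, hs, e⟩ := exists_sie_point hR2 hW hy0 (mem_sph.1 hv).1 hQy (mem_sph.1 hv).2
  set k := emb (p.nd hQ) p₁ ⟨g, hg⟩
  refine Finset.mem_biUnion.2 ⟨orb p (emb hQ p k • x), orbsTS_map hQ p p₁ (emb_e _ p₁ _) ha hx,
    Finset.mem_filter.2 ⟨Finset.mem_univ _, (mem_sph.1 hv).1, _, self_mem_orb p _, apW k y,
      Au_emb hQ p hy, s, hs, ?_⟩⟩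
  rw [pr_emb₁ hQ p p₁ _ (hx.polar_eq p ha hy)]
  exact e

/-- There are many orbits through the point. -/
theorem cover_le (hW : 3 ≤ finrank F p₁.W) {ν : ℕ}
    (hν : ∀ S : Submodule F p₁.W, TotSing (restr (restr Q p.W) p₁.W) S → finrank F S ≤ ν)
    {x : X} (ha : p₁.e ∈ Au p x) (hx : TSx p x) {y : p.W} (hy : y ∈ Au p x) (hy0 : pr p₁ y ≠ 0) :
    (sph p₁ 0).card ≤ (orbsTS p p₁ X).card * (Nat.card F ^ ν - 1) := by
  refine (Finset.card_le_card (sph_subset hQ p p₁ hW ha hx hy hy0)).trans (Finset.card_biUnion_le.trans ?_)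
  rw [← smul_eq_mul, ← Finset.sum_const]
  refine Finset.sum_le_sum fun O hO => ?_
  have := card_SO p p₁ hν hO
  omega

section Exact

variable (hW : 3 ≤ finrank F p₁.W) {ν : ℕ} (hν1 : 1 ≤ ν)
  (hν : ∀ S : Submodule F p₁.W, TotSing (restr (restr Q p.W) p₁.W) S → finrank F S ≤ ν)
  (hex : (orbsTS p p₁ X).card * (Nat.card F ^ ν - 1) ≤ (sph p₁ 0).card)
  (hne : ∃ x : X, p₁.e ∈ Au p x ∧ TSx p x ∧ ∃ y ∈ Au p x, pr p₁ y ≠ 0)

include hW hν1 hν hex hne

theorem SO_exact {O : Finset X} (hO : O ∈ orbsTS p p₁ X) :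
    (SO p p₁ O).card + 1 = Nat.card F ^ ν ∧
      ∀ O' ∈ orbsTS p p₁ X, O' ≠ O → Disjoint (SO p p₁ O) (SO p p₁ O') := by
  obtain ⟨x, ha, hx, y, hy, hy0⟩ := hne
  have hsub := sph_subset hQ p p₁ hW ha hx hy hy0
  have hq : 1 < Nat.card F ^ ν := Nat.one_lt_pow (by omega) Finite.one_lt_card
  set N := Nat.card F ^ ν - 1
  have hle : ∀ O' ∈ orbsTS p p₁ X, (SO p p₁ O').card ≤ N := fun O' hO' => by
    have := card_SO p p₁ hν hO'; omega
  have hsum : (sph p₁ 0).card ≤ ∑ O' ∈ orbsTS p p₁ X, (SO p p₁ O').card :=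
    (Finset.card_le_card hsub).trans Finset.card_biUnion_le
  have heq : ∀ O' ∈ orbsTS p p₁ X, (SO p p₁ O').card = N := by
    refine (Finset.sum_eq_sum_iff_of_le hle).1 (le_antisymm (Finset.sum_le_sum hle) ?_)
    rw [Finset.sum_const, smul_eq_mul]
    exact hex.trans hsum
  refine ⟨by rw [heq O hO]; omega, fun O' hO' hne' => ?_⟩
  rw [Finset.disjoint_left]
  intro v hv hv'
  have h2 : sph p₁ 0 ⊆ ((orbsTS p p₁ X).erase O').biUnion (SO p p₁) ∪ (SO p p₁ O').erase v := by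
    intro w hw
    obtain ⟨O'', hO'', hwO⟩ := Finset.mem_biUnion.1 (hsub hw)
    by_cases h : O'' = O'
    · subst h
      by_cases hwv : w = v
      · subst hwv
        exact Finset.mem_union_left _ (Finset.mem_biUnion.2 ⟨O, Finset.mem_erase.2 ⟨Ne.symm hne', hO⟩, hv⟩)
      · exact Finset.mem_union_right _ (Finset.mem_erase.2 ⟨hwv, hwO⟩)
    · exact Finset.mem_union_left _ (Finset.mem_biUnion.2 ⟨O'', Finset.mem_erase.2 ⟨h, hO''⟩, hwO⟩)
  have h3 := (Finset.card_le_card h2).trans (Finset.card_union_le _ _)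
  have h4 : (((orbsTS p p₁ X).erase O').biUnion (SO p p₁)).card ≤ ((orbsTS p p₁ X).card - 1) * N := by
    refine Finset.card_biUnion_le.trans ?_
    rw [← Finset.card_erase_of_mem hO', ← smul_eq_mul, ← Finset.sum_const]
    exact Finset.sum_le_sum fun O'' h => hle O'' (Finset.mem_of_mem_erase h)
  rw [Finset.card_erase_of_mem hv', heq O' hO'] at h3
  have h5 : 0 < (orbsTS p p₁ X).card := Finset.card_pos.2 ⟨O', hO'⟩
  obtain ⟨j, hj⟩ : ∃ j, (orbsTS p p₁ X).card = j + 1 := ⟨(orbsTS p p₁ X).card - 1, by omega⟩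
  rw [hj, Nat.add_mul, one_mul] at hex
  rw [hj, Nat.add_sub_cancel] at h4
  omega

theorem exists_proj_ne {x : X} (ha : p₁.e ∈ Au p x) (hx : TSx p x) :
    ∃ y ∈ Au p x, pr p₁ y ≠ 0 := by
  have h := (SO_exact hQ p p₁ hW hν1 hν hex hne (mem_orbsTS p p₁ ha hx)).1
  have hq : 1 < Nat.card F ^ ν := Nat.one_lt_pow (by omega) Finite.one_lt_card
  obtain ⟨v, hv⟩ : (SO p p₁ (orb p x)).Nonempty := Finset.card_pos.1 (by omega)
  obtain ⟨-, hv0, z, hz, y, hy, s, hs, e⟩ := Finset.mem_filter.1 hv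
  exact ⟨y, Au_eq_of_mem p hz ▸ hy, by rw [e]; exact smul_ne_zero hs hv0⟩

theorem axis_mem {x : X} (ha : p₁.e ∈ Au p x) (hx : TSx p x) (l : F) : l • p₁.e ∈ Au p x := by
  obtain ⟨y, hy, hy0⟩ := exists_proj_ne hQ p p₁ hW hν1 hν hex hne ha hx
  have hay := hx.polar_eq p ha hy
  obtain ⟨t, ht⟩ := (p₁.nd (p.nd hQ)).exists_polar_eq hy0 l
  set k := xr p₁ t
  have hk : apW k p₁.e = p₁.e := sg_fix _ _ (by rw [polar_self', p₁.he, mul_zero]) (p₁.w_e t)
  have hky : apW k y = y + l • p₁.e := by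
    show ((sie p₁.e (t : p.W) p₁.he (p₁.e_w t) : O (restr Q p.W)) : p.W ≃ₗ[F] p.W) y = _
    have hty : polar (restr Q p.W) (t : p.W) y = l := by
      rw [← ht]
      conv_lhs => rw [eq_pr_add p₁ hay, polar_add_right, polar_smul_right', p₁.w_e t, mul_zero, add_zero]
      rw [polar_comm]
      exact (polar_restr _ _ _).symm
    rw [sie_app, hay, hty]
    module
  have hpr : pr p₁ (apW k y) = pr p₁ y := by
    rw [hky, map_add, map_smul, show pr p₁ p₁.e = 0 from Subtype.ext (by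
      rw [pr_val, p₁.hfe, polar_self', p₁.he]; simp), smul_zero, add_zero]
  have hO : orb p (emb hQ p k • x) = orb p x := by
    by_contra hne'
    have hd := (SO_exact hQ p p₁ hW hν1 hν hex hne (mem_orbsTS p p₁ ha hx)).2 _
      (orbsTS_map hQ p p₁ hk ha hx) hne'
    have h2 := mem_SO p p₁ (Au_emb hQ p (k := k) hy) (by rw [hpr]; exact hy0)
    rw [hpr] at h2
    exact Finset.disjoint_left.1 hd (mem_SO p p₁ hy hy0) h2
  have h1 := Au_emb hQ p (k := k) hy
  rw [Au_eq_of_mem p (x := x) (hO ▸ self_mem_orb p (emb hQ p k • x)), hky] at h1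
  simpa using (Au p x).sub_mem h1 hy

/-- The orbits through the point are permuted transitively by its stabiliser. -/
theorem exists_map_orb {x x' : X} (ha : p₁.e ∈ Au p x) (hx : TSx p x) (ha' : p₁.e ∈ Au p x')
    (hx' : TSx p x') :
    ∃ k : sieGroup (restr Q p.W), apW k p₁.e = p₁.e ∧ orb p (emb hQ p k • x) = orb p x' := by
  obtain ⟨y, hy, hy0⟩ := exists_proj_ne hQ p p₁ hW hν1 hν hex hne ha hx
  obtain ⟨y', hy', hy0'⟩ := exists_proj_ne hQ p p₁ hW hν1 hν hex hne ha' hx'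
  obtain ⟨g, hg, s, hs, e⟩ := exists_sie_point (p₁.nd (p.nd hQ)) hW hy0 hy0'
    ((qmap_pr p₁ (hx.polar_eq p ha hy)).trans (hx y hy))
    ((qmap_pr p₁ (hx'.polar_eq p ha' hy')).trans (hx' y' hy'))
  set k := emb (p.nd hQ) p₁ ⟨g, hg⟩
  refine ⟨k, emb_e _ p₁ _, ?_⟩
  by_contra hne'
  have hd := (SO_exact hQ p p₁ hW hν1 hν hex hne (mem_orbsTS p p₁ ha' hx')).2 _
    (orbsTS_map hQ p p₁ (emb_e _ p₁ _) ha hx) hne'
  refine Finset.disjoint_left.1 hd (mem_SO p p₁ hy' hy0') (Finset.mem_filter.2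
    ⟨Finset.mem_univ _, hy0', _, self_mem_orb p _, apW k y, Au_emb hQ p hy, s, hs, ?_⟩)
  rw [pr_emb₁ hQ p p₁ _ (hx.polar_eq p ha hy)]
  exact e

end Exact

end Cfsg.Agent.H53.OmIdx
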