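import Cfsg.Agent.H53.OmIdx.Kill
import Cfsg.Agent.H53.OmIdx.Class

/-!
The two small cases in which sets of singular weights might fill totally singular subspaces.
-/

set_option autoImplicit false
set_option linter.unusedSectionVars false

namespace Cfsg.Agent.H53.OmIdx

open QuadraticMap Module Finset
open Cfsg.Agent.Orthogonal
open Cfsg.Agent.H53.OmLow
open scoped ComplexConjugate

attribute [local instance] Fintype.ofFinite Classical.propDecidable

variable {F V : Type*} [Field F] [Finite F] [AddCommGroup V] [Module F V] [FiniteDimensional F V]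
variable {Q : QuadraticForm F V} {X : Type*} [MulAction (sieGroup Q) X] [Fintype X]

theorem Fixd.map {v : V} {x : X} (h : Fixd (Q := Q) v x) (g : sieGroup Q) :
    Fixd (Q := Q) (ap g v) (g • x) := by
  intro w hv hw
  obtain ⟨w', rfl⟩ := (ap g).surjective w
  have hv' : Q v = 0 := by rwa [O.map_app] at hv
  have hw' : polar Q v w' = 0 := by rwa [O.polar_app] at hw
  rw [show sg (ap g v) (ap g w') hv hw = g * sg v w' hv' hw' * g⁻¹ from (sg_conj hv' hw' g).symm,
    ← mul_smul, inv_mul_cancel_right, mul_smul, h w' hv' hw']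

/-- The standard inner product. -/
noncomputable def permForm (Q : QuadraticForm F V) (X : Type*) [MulAction (sieGroup Q) X] [Fintype X] :
    InvForm (prm Q X) where
  ip := LinearMap.mk₂'ₛₗ (starRingEnd ℂ) (RingHom.id ℂ) (fun f g => ∑ x, conj (f x) * g x)
    (fun x x' y => by simp [Finset.sum_add_distrib, add_mul])
    (fun c x y => by simp [Finset.mul_sum, mul_assoc])
    (fun x y y' => by simp [Finset.sum_add_distrib, mul_add])
    (fun c x y => by simp [Finset.mul_sum, mul_left_comm])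
  conj_symm f g := by simp [map_sum, mul_comm]
  pos f hf := by
    simp only [LinearMap.mk₂'ₛₗ_apply, Complex.re_sum, ← Complex.normSq_eq_conj_mul_self,
      Complex.ofReal_re]
    obtain ⟨i, hi⟩ := Function.ne_iff.1 hf
    exact Finset.sum_pos' (fun j _ => Complex.normSq_nonneg _)
      ⟨i, Finset.mem_univ _, Complex.normSq_pos.2 hi⟩
  inv g f h := Fintype.sum_equiv (MulAction.toPerm g⁻¹) _ _ fun x => rfl

theorem pr_axis {p : HP Q} : pr p p.e = 0 :=
  Subtype.ext (by rw [pr_val, p.hfe, polar_self', p.he]; simp)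

/-- The counts in the small cases. -/
structure ExNums (Q : QuadraticForm F V) (p : HP Q) (K ν T δ : ℕ) : Prop where
  shape : (finrank F p.W = 5 ∧ ν = 1 ∧ (2 : F) ≠ 0) ∨ (finrank F p.W = 6 ∧ ν = 2)
  idx : ∀ S : Submodule F p.W, TotSing (restr Q p.W) S → finrank F S ≤ ν + 1
  idx₁ : ∀ (p₁ : HP (restr Q p.W)) (S : Submodule F p₁.W),
    TotSing (restr (restr Q p.W) p₁.W) S → finrank F S ≤ ν
  sph₁ : ∀ p₁ : HP (restr Q p.W),
    (sph p₁ 0).card = (Nat.card F + 1) * (Nat.card F ^ ν - 1)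
  upper : Nat.card F * zc (restr Q p.W) 0 + (Nat.card F - 1) * Fintype.card p.W ≤
    (Nat.card F - 1) * ((Nat.card F + 2) * (sph p 0).card)
  non : Nat.card F * zc (restr Q p.W) 0 + (Nat.card F - 1) * Fintype.card p.W ≤
    (Nat.card F - 1) * ((Nat.card F + 1) * (sph p 0).card + K + 1)
  cone : ∀ p' : HP (restr Q p.W),
    2 * (Nat.card F * zc (restr (restr Q p.W) p'.W) 0) ≤ zc (restr Q p.W) 0
  moving : T * (Nat.card F ^ (ν + 1) - 1) = (Nat.card F + 1) * (sph p 0).card * Nat.card F ^ (ν + 1)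
  total : (Nat.card F - 1) * (T + δ) + 1 = zc Q 0
  small : δ ^ 2 < 4 * T
  sqne : ∃ t : F, t ≠ 0 ∧ t ^ 2 ≠ 1

section Ex

variable {p : HP Q} {K ν T δ : ℕ} (hQ : Nondeg Q) (hn : Nums Q p X K) (he : ExNums Q p K ν T δ)

include hQ hn he

theorem ex_mult_le {a : p.W} (ha0 : a ≠ 0) (ha : Q (a : V) = 0) :
    mult (prm Q X) p a ≤ Nat.card F + 1 := by
  have h1 : (sph p 0).card * mult (prm Q X) p a ≤ Fintype.card X := by
    rw [card_eq_sum_mult p (X := X) hQ, ← smul_eq_mul, ← Finset.sum_const]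
    refine le_trans (le_of_eq (Finset.sum_congr rfl fun v hv => ?_))
      (Finset.sum_le_sum_of_subset (Finset.subset_univ _))
    exact (mult_eq_of_norm (prm Q X) p hQ hn.dim (mem_sph.1 hv).1 ha0
      ((mem_sph.1 hv).2.trans ha.symm)).symm
  have h4 := hn.few
  have h5 := he.upper
  have hq : 1 < Nat.card F := Finite.one_lt_card
  by_contra hc
  have : (Nat.card F + 2) * (sph p 0).card ≤ Fintype.card X :=
    le_trans (by rw [mul_comm]; exact Nat.mul_le_mul_left _ (by omega)) h1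
  have := Nat.mul_le_mul_left (Nat.card F - 1) this
  rw [Nat.mul_add] at h4
  omega

variable (p₁ : HP (restr Q p.W))
  (hne : ∃ x : X, p₁.e ∈ Au p x ∧ TSx p x ∧ ∃ y ∈ Au p x, pr p₁ y ≠ 0)

theorem ex_W3 : 3 ≤ finrank F p₁.W ∧ 1 ≤ ν := by
  have := p₁.finrank_W (p.nd hQ)
  rcases he.shape with h | h <;> omega

include hne

theorem ex_orbs : orbsTS p p₁ X = orbs p X p₁.e ∧
    (orbsTS p p₁ X).card = Nat.card F + 1 ∧ (orbs p X p₁.e).card = Nat.card F + 1 := by
  obtain ⟨x, ha, hx, y, hy, hy0⟩ := hne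
  obtain ⟨hW, hν⟩ := ex_W3 hQ hn he p₁
  have h1 := cover_le hQ p p₁ hW (he.idx₁ p₁) ha hx hy hy0
  rw [he.sph₁ p₁] at h1
  have hq : 1 < Nat.card F ^ ν := Nat.one_lt_pow (by omega) Finite.one_lt_card
  have h2 : Nat.card F + 1 ≤ (orbsTS p p₁ X).card := Nat.le_of_mul_le_mul_right h1 (by omega)
  have h3 : (orbs p X p₁.e).card ≤ Nat.card F + 1 :=
    (mult_eq_card_orbs p (X := X) p₁.e).symm.le.trans (ex_mult_le hQ hn he p₁.e_ne p₁.he)
  have hsub : orbsTS p p₁ X ⊆ orbs p X p₁.e := Finset.filter_subset _ _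
  have h4 := Finset.card_le_card hsub
  exact ⟨Finset.eq_of_subset_of_card_le hsub (by omega), by omega, by omega⟩

theorem ex_hex : (orbsTS p p₁ X).card * (Nat.card F ^ ν - 1) ≤ (sph p₁ 0).card := by
  rw [(ex_orbs hQ hn he p₁ hne).2.1, he.sph₁ p₁]

theorem ex_ts_mem {x : X} (ha : p₁.e ∈ Au p x) : TSx p x := by
  have h : orb p x ∈ orbsTS p p₁ X := by
    rw [(ex_orbs hQ hn he p₁ hne).1]
    exact (mem_orbs p).2 ⟨x, ha, rfl⟩
  exact (Finset.mem_filter.1 h).2 x (self_mem_orb p x)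

theorem ex_mult {v : p.W} (hv0 : v ≠ 0) (hv : Q (v : V) = 0) :
    mult (prm Q X) p v = Nat.card F + 1 := by
  rw [mult_eq_of_norm (prm Q X) p hQ hn.dim hv0 p₁.e_ne
    (hv.trans (show (0 : F) = Q ((p₁.e : p.W) : V) from p₁.he.symm)), mult_eq_card_orbs,
    (ex_orbs hQ hn he p₁ hne).2.2]

theorem ex_all_ts (x : X) : TSx p x := by
  intro u hu
  by_contra hQu
  set S : Finset p.W :=
    Finset.univ.filter fun v => ∃ s : F, s ≠ 0 ∧ Q (v : V) = s ^ 2 * Q (u : V)
  have hns : ∀ v ∈ S, Q (v : V) ≠ 0 := fun v hv => by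
    obtain ⟨s, hs, e⟩ := (Finset.mem_filter.1 hv).2
    rw [e]; exact mul_ne_zero (pow_ne_zero 2 hs) hQu
  have h0 : (0 : p.W) ∉ S := fun h => hns 0 h (by rw [Submodule.coe_zero, QuadraticMap.map_zero])
  have hd : Disjoint S (insert 0 (sph p 0)) := Finset.disjoint_left.2 fun v hv hv' => by
    rcases Finset.mem_insert.1 hv' with rfl | hv'
    · exact h0 hv
    · exact hns v hv (mem_sph.1 hv').2
  have hum : 1 ≤ mult (prm Q X) p u := by
    rw [mult_eq_card_orbs]
    exact Finset.card_pos.2 ⟨orb p x, (mem_orbs p).2 ⟨x, hu, rfl⟩⟩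
  have h1 : S.card + ((Nat.card F + 1) * (sph p 0).card + 1) ≤ Fintype.card X := by
    have hle := Finset.sum_le_sum_of_subset (f := fun v => mult (prm Q X) p v)
      (Finset.subset_univ (S ∪ insert 0 (sph p 0)))
    rw [Finset.sum_union hd, Finset.sum_insert (fun h => (mem_sph.1 h).1 rfl),
      ← card_eq_sum_mult p (X := X) hQ] at hle
    have hS : S.card ≤ ∑ v ∈ S, mult (prm Q X) p v := by
      rw [Finset.card_eq_sum_ones]
      refine Finset.sum_le_sum fun v hv => ?_
      obtain ⟨s, hs, e⟩ := (Finset.mem_filter.1 hv).2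
      rw [class_mult hQ hn hQu hs e]
      exact hum
    have hsph : ∑ v ∈ sph p 0, mult (prm Q X) p v = (Nat.card F + 1) * (sph p 0).card := by
      rw [Finset.sum_congr rfl fun v hv => ex_mult hQ hn he p₁ hne (mem_sph.1 hv).1 (mem_sph.1 hv).2,
        Finset.sum_const, smul_eq_mul, mul_comm]
    have : Nonempty X := ⟨x⟩
    have hz := mult_zero_pos p (X := X)
    omega
  have h2 : K ≤ S.card := hn.cls u hQu
  have h3 := hn.few
  have h4 := he.non
  have hq : 1 < Nat.card F := Finite.one_lt_card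
  have := Nat.mul_le_mul_left (Nat.card F - 1)
    (show (Nat.card F + 1) * (sph p 0).card + K + 1 ≤ Fintype.card X + 1 by omega)
  omega

/-- Every set of weights is a subspace. -/
theorem ex_smul_mem {x : X} {v : p.W} (hv : v ∈ Au p x) (l : F) : l • v ∈ Au p x := by
  rcases eq_or_ne v 0 with rfl | hv0
  · rw [smul_zero]; exact zero_mem _
  have hR := p.nd hQ
  obtain ⟨hW, hν⟩ := ex_W3 hQ hn he p₁
  have hax := fun (z : X) (hz : p₁.e ∈ Au p z) => axis_mem hQ p p₁ hW hν (he.idx₁ p₁)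
    (ex_hex hQ hn he p₁ hne) hne hz (ex_ts_mem hQ hn he p₁ hne hz)
  obtain ⟨g, hg, s, hs, hgs⟩ := exists_sie_point hR (by have := hn.dim; omega) hv0 p₁.e_ne
    (ex_all_ts hQ hn he p₁ hne x v hv) p₁.he
  set k : sieGroup (restr Q p.W) := ⟨g, hg⟩
  have hk : apW k v = s • p₁.e := hgs
  have hz : s • p₁.e ∈ Au p (emb hQ p k • x) := hk ▸ Au_emb hQ p (k := k) hv
  have heq : orbs p X p₁.e = orbs p X (s • p₁.e) := by
    refine Finset.eq_of_subset_of_card_le (fun O hO => ?_) ?_
    · obtain ⟨z, hz, rfl⟩ := (mem_orbs p).1 hO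
      exact (mem_orbs p).2 ⟨z, hax z hz s, rfl⟩
    · rw [← mult_eq_card_orbs, ← mult_eq_card_orbs, mult_smul (prm Q X) p hQ hn.dim _ hs]
  obtain ⟨z, hza, hzo⟩ := (mem_orbs p).1 (heq ▸ (mem_orbs p).2 ⟨_, hz, rfl⟩ :
    orb p (emb hQ p k • x) ∈ orbs p X p₁.e)
  have ha : p₁.e ∈ Au p (emb hQ p k • x) := by
    rw [Au_eq_of_mem p (x := z) (hzo.symm ▸ self_mem_orb p _)]
    exact hza
  refine (Au_map p hQ k x (l • v)).1 ?_
  rw [map_smul, hk, smul_smul]
  exact hax _ ha _

theorem ex_move {x : X} {v : p.W} (hv : v ∈ Au p x) (hv0 : v ≠ 0) :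
    ∃ k : sieGroup (restr Q p.W), p₁.e ∈ Au p (emb hQ p k • x) := by
  obtain ⟨g, hg, s, hs, hgs⟩ := exists_sie_point (p.nd hQ) (by have := hn.dim; omega) hv0 p₁.e_ne
    (ex_all_ts hQ hn he p₁ hne x v hv) p₁.he
  refine ⟨⟨g, hg⟩, ?_⟩
  have := ex_smul_mem hQ hn he p₁ hne
    (show s • p₁.e ∈ Au p (emb hQ p ⟨g, hg⟩ • x) from
      (show apW (⟨g, hg⟩ : sieGroup (restr Q p.W)) v = s • p₁.e from hgs) ▸ Au_emb hQ p hv) s⁻¹
  rwa [inv_smul_smul₀ hs] at this

theorem ex_subspace {x : X} (ha : p₁.e ∈ Au p x) :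
    ∃ M : Submodule F p.W, (∀ v, v ∈ M ↔ v ∈ Au p x) ∧ TotSing (restr Q p.W) M ∧
      finrank F M = ν + 1 := by
  let M : Submodule F p.W :=
    { carrier := {v | v ∈ Au p x}
      add_mem' := fun h h' => (Au p x).add_mem h h'
      zero_mem' := (Au p x).zero_mem
      smul_mem' := fun l v hv => ex_smul_mem hQ hn he p₁ hne hv l }
  have hM : TotSing (restr Q p.W) M := fun v hv => ex_all_ts hQ hn he p₁ hne x v hv
  refine ⟨M, fun _ => Iff.rfl, hM, le_antisymm (he.idx M hM) ?_⟩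
  obtain ⟨hW, hν⟩ := ex_W3 hQ hn he p₁
  have hx := ex_ts_mem hQ hn he p₁ hne ha
  have hex := (SO_exact hQ p p₁ hW hν (he.idx₁ p₁) (ex_hex hQ hn he p₁ hne) hne
    (mem_orbsTS p p₁ ha hx)).1
  set f : M →ₗ[F] p₁.W := (pr p₁).domRestrict M
  have hsub : insert 0 (SO p p₁ (orb p x)) ⊆
      Finset.univ.filter fun w : p₁.W => w ∈ LinearMap.range f := by
    intro w hw
    refine Finset.mem_filter.2 ⟨Finset.mem_univ _, ?_⟩
    rcases Finset.mem_insert.1 hw with rfl | hw
    · exact zero_mem _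
    obtain ⟨-, -, z, hz, y, hy, s, hs, e⟩ := Finset.mem_filter.1 hw
    rw [Au_eq_of_mem p hz] at hy
    have : pr p₁ y ∈ LinearMap.range f := ⟨⟨y, hy⟩, rfl⟩
    rw [e] at this
    exact (Submodule.smul_mem_iff _ hs).1 this
  have h1 := Finset.card_le_card hsub
  rw [Finset.card_insert_of_notMem (fun h => (Finset.mem_filter.1 h).2.1 rfl), hex,
    ← Fintype.card_subtype, ← Nat.card_eq_fintype_card,
    show Nat.card {w : p₁.W // w ∈ LinearMap.range f} = Nat.card F ^ finrank F (LinearMap.range f) from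
      natCard_eq_pow (LinearMap.range f)] at h1
  have h2 : ν ≤ finrank F (LinearMap.range f) :=
    (Nat.pow_le_pow_iff_right Finite.one_lt_card).1 h1
  have h3 := LinearMap.finrank_range_add_finrank_ker f
  have h4 : 1 ≤ finrank F (LinearMap.ker f) := by
    have hmem : (⟨p₁.e, ha⟩ : M) ∈ LinearMap.ker f := pr_axis
    have : Nontrivial (LinearMap.ker f) :=
      ⟨⟨_, hmem⟩, 0, fun e => p₁.e_ne (congrArg (fun w : LinearMap.ker f => ((w : M) : p.W)) e)⟩
    exact Module.finrank_pos (R := F) (M := LinearMap.ker f)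
  omega

theorem ex_card_Au {x : X} {v : p.W} (hv : v ∈ Au p x) (hv0 : v ≠ 0) :
    Nat.card (Au p x) = Nat.card F ^ (ν + 1) := by
  obtain ⟨k, hk⟩ := ex_move hQ hn he p₁ hne hv hv0
  obtain ⟨M, hM, -, hd⟩ := ex_subspace hQ hn he p₁ hne hk
  rw [show Nat.card (Au p x) = Nat.card (Au p (emb hQ p k • x)) from
    Nat.card_congr (Equiv.subtypeEquiv (apW k).toEquiv fun w => (Au_map p hQ k x w).symm),
    ← hd, ← natCard_eq_pow M]
  exact Nat.card_congr (Equiv.subtypeEquivRight fun w => (hM w).symm)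

variable [MulAction.IsPretransitive (sieGroup Q) X] (hX : Fintype.card X < Nat.card (Pt Q))

include hX

/-- Every point has weights. -/
theorem ex_nontriv (x : X) : ∃ v ∈ Au p x, v ≠ 0 := by
  by_contra hx
  push Not at hx
  set TT : Finset X := Finset.univ.filter fun z => ∃ v ∈ Au p z, v ≠ 0
  have hq : 1 < Nat.card F := Finite.one_lt_card
  set Qv := Nat.card F ^ (ν + 1)
  have hQv : 1 < Qv := Nat.one_lt_pow (by omega) hq
  have hcount : (Qv - 1) * TT.card = Qv * ((Nat.card F + 1) * (sph p 0).card) := by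
    refine Nat.eq_of_mul_eq_mul_right (Fintype.card_pos (α := p.W)) ?_
    have h1 := sum_mult_mul p (X := X) (sph p 0)
    rw [Finset.sum_congr rfl fun v hv => ex_mult hQ hn he p₁ hne (mem_sph.1 hv).1 (mem_sph.1 hv).2,
      Finset.sum_const, smul_eq_mul, mul_comm (sph p 0).card] at h1
    rw [mul_assoc, mul_assoc, h1, Finset.mul_sum, ← smul_eq_mul (a := TT.card), ← Finset.sum_const,
      Finset.mul_sum, Finset.sum_filter]
    refine Finset.sum_congr rfl fun z _ => ?_
    split_ifs with hz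
    · obtain ⟨v, hv, hv0⟩ := hz
      have hc := ex_card_Au hQ hn he p₁ hne hv hv0
      have he' : ((sph p 0).filter fun u => u ∈ Au p z).card + 1 = Nat.card (Au p z) := by
        rw [Nat.card_eq_fintype_card, Fintype.card_subtype,
          ← Finset.card_insert_of_notMem (s := (sph p 0).filter fun u => u ∈ Au p z)
            (fun h => (mem_sph.1 (Finset.mem_filter.1 h).1).1 rfl)]
        congr 1
        ext w
        simp only [Finset.mem_insert, Finset.mem_filter, Finset.mem_univ, true_and, mem_sph]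
        constructor
        · rintro (rfl | h)
          · exact zero_mem _
          · exact h.2
        · intro h
          rcases eq_or_ne w 0 with hw | hw
          · exact Or.inl hw
          · exact Or.inr ⟨⟨hw, ex_all_ts hQ hn he p₁ hne z w h⟩, h⟩
      rw [← card_Au_mul p hQ z, hc, show Qv = Nat.card F ^ (ν + 1) from rfl]
      rw [hc] at he'
      rw [show ((sph p 0).filter fun u => u ∈ Au p z).card = Nat.card F ^ (ν + 1) - 1 by omega]
      ring
    · rw [Finset.filter_false_of_mem fun u hu hz' => hz ⟨u, hz', (mem_sph.1 hu).1⟩]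
      simp
  have hT : TT.card = T := by
    refine Nat.eq_of_mul_eq_mul_left (show 0 < Qv - 1 by omega) ?_
    rw [hcount, mul_comm (Qv - 1) T, he.moving, mul_comm]
  have hC : TT.card + (Finset.univ.filter fun z : X => ¬ ∃ v ∈ Au p z, v ≠ 0).card = Fintype.card X :=
    Finset.card_filter_add_card_filter_not _
  set C := (Finset.univ.filter fun z : X => ¬ ∃ v ∈ Au p z, v ≠ 0).card with hCdef
  have hC0 : 0 < C := Finset.card_pos.2
    ⟨x, Finset.mem_filter.2 ⟨Finset.mem_univ _, fun ⟨v, hv, hv0⟩ => hv0 (hx v hv)⟩⟩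
  have hP : Nat.card (Pt Q) = T + δ := by
    have h := card_pt (Q := Q)
    rw [← he.total] at h
    exact Nat.eq_of_mul_eq_mul_left (show 0 < Nat.card F - 1 by omega) (by omega)
  have := Pt.isPretransitive hQ (show 3 ≤ finrank F V by have := hn.dim; have := p.finrank_W hQ; omega)
  have hpc := pair_count (G := sieGroup Q) (fun (P : Pt Q) (z : X) =>
    ∃ v : V, v ≠ 0 ∧ ∃ hv : Q v = 0, P.1 = Submodule.span F {v} ∧ Fixd (Q := Q) v z)
    (fun g P z ⟨v, hv0, hv, hP, hfix⟩ => ⟨ap g v, fun h => hv0 ((LinearEquiv.map_eq_zero_iff _).1 h),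
      by rw [O.map_app]; exact hv, by
        show P.1.map (ap g : V →ₗ[F] V) = _
        rw [hP, Submodule.map_span, Set.image_singleton]; rfl, hfix.map g⟩)
    (Pt.mk p.e_ne p.he) x
  have hfilter : (Finset.univ.filter fun z : X => ∃ v : V, v ≠ 0 ∧ ∃ hv : Q v = 0,
      (Pt.mk p.e_ne p.he : Pt Q).1 = Submodule.span F {v} ∧ Fixd (Q := Q) v z) =
      Finset.univ.filter fun z : X => ¬ ∃ v ∈ Au p z, v ≠ 0 := by
    have htop : ∀ z : X, Ru p z = ⊤ ↔ ¬ ∃ v ∈ Au p z, v ≠ 0 := fun z => by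
      constructor
      · rintro h ⟨v, hv, hv0⟩
        refine chi_ne_zero hQ p hv0 (DFunLike.ext _ _ fun w => ?_)
        rw [AddChar.zero_apply]
        exact hv w (by rw [h]; trivial)
      · intro h
        push Not at h
        refine AddSubgroup.eq_top_of_card_eq _ ?_
        have h1 := card_Au_mul p hQ z
        rw [AddSubgroup.card_eq_one.2 ((AddSubgroup.eq_bot_iff_forall _).2 h), one_mul] at h1
        rw [h1, Nat.card_eq_fintype_card]
    ext z
    simp only [Finset.mem_filter, Finset.mem_univ, true_and]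
    rw [← htop]
    constructor
    · rintro ⟨w, hw0, hw, hP, hfix⟩
      obtain ⟨c, hc⟩ := Submodule.mem_span_singleton.1
        (show w ∈ Submodule.span F {p.e} from hP.symm.le (Submodule.mem_span_singleton_self w))
      have hc0 : c ≠ 0 := fun e => hw0 (by rw [← hc, e, zero_smul])
      have := (fixd_iff p hc0 (g := (1 : sieGroup Q)) (by rw [ap_one, hc]) hw z).1 hfix
      rwa [one_smul] at this
    · intro h
      exact ⟨p.e, p.e_ne, p.he, rfl,
        (fixd_iff p one_ne_zero (g := (1 : sieGroup Q)) (by rw [ap_one, one_smul]) p.he z).2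
          (by rwa [one_smul])⟩
  rw [hfilter, ← hCdef, ← Nat.card_eq_fintype_card, hP] at hpc
  rw [hP] at hX
  set ε := (Finset.univ.filter fun P : Pt Q => ∃ v : V, v ≠ 0 ∧ ∃ hv : Q v = 0,
    P.1 = Submodule.span F {v} ∧ Fixd (Q := Q) v x).card
  rw [← hC, hT] at hpc hX
  have hs := he.small
  have hε : C + 1 ≤ ε := by
    by_contra hc
    have h1 : (T + C) * ε ≤ (T + C) * C := Nat.mul_le_mul_left _ (by omega)
    have h2 : (T + C) * C < (T + δ) * C := Nat.mul_lt_mul_of_pos_right hX hC0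
    omega
  have h1 : (T + C) * (C + 1) ≤ (T + δ) * C := hpc ▸ Nat.mul_le_mul_left _ hε
  have h2 : 4 * (C * δ) ≤ 4 * C ^ 2 + δ ^ 2 := by
    rcases le_total (2 * C) δ with h | h
    · obtain ⟨d, hd⟩ := Nat.exists_eq_add_of_le h
      rw [hd]; nlinarith
    · obtain ⟨d, hd⟩ := Nat.exists_eq_add_of_le h
      nlinarith
  nlinarith

/-- The fixed points of the radical form one orbit of the stabiliser of the pair. -/
theorem ex_orb_trans (x z : X) :
    ∃ k : sieGroup (restr Q p.W), orb p (emb hQ p k • x) = orb p z := by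
  obtain ⟨v, hv, hv0⟩ := ex_nontriv hQ hn he p₁ hne hX x
  obtain ⟨w, hw, hw0⟩ := ex_nontriv hQ hn he p₁ hne hX z
  obtain ⟨g, hg⟩ := ex_move hQ hn he p₁ hne hv hv0
  obtain ⟨h, hh⟩ := ex_move hQ hn he p₁ hne hw hw0
  obtain ⟨hW, hν⟩ := ex_W3 hQ hn he p₁
  obtain ⟨k, -, hk⟩ := exists_map_orb hQ p p₁ hW hν (he.idx₁ p₁) (ex_hex hQ hn he p₁ hne) hne hg
    (ex_ts_mem hQ hn he p₁ hne hg) hh (ex_ts_mem hQ hn he p₁ hne hh)
  refine ⟨h⁻¹ * k * g, ?_⟩
  rw [map_mul, map_mul, mul_smul, mul_smul, orb_map p hQ, hk, ← orb_map p hQ, ← mul_smul, ← map_mul,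
    inv_mul_cancel, map_one, one_smul]

theorem ex_inv_le : finrank ℂ (cRep (prm Q X) hQ p).invariants ≤ 1 := by
  obtain ⟨x, -⟩ := id hne
  let f : (cRep (prm Q X) hQ p).invariants →ₗ[ℂ] ℂ :=
    { toFun := fun z => ((z : Cs (prm Q X) p) : X → ℂ) x
      map_add' := fun _ _ => rfl
      map_smul' := fun _ _ => rfl }
  refine (LinearMap.finrank_le_finrank_of_injective (f := f) ?_).trans (Module.finrank_self ℂ).le
  suffices key : ∀ (z : (cRep (prm Q X) hQ p).invariants) (y : X),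
      ((z : Cs (prm Q X) p) : X → ℂ) y = f z from fun z z' hzz =>
    Subtype.ext (Subtype.ext (funext fun y => (key z y).trans (hzz.trans (key z' y).symm)))
  intro z y
  set ψ : X → ℂ := ((z : Cs (prm Q X) p) : X → ℂ)
  have hfix : ∀ (w : p.W) (u : X), ψ (xr p w • u) = ψ u := fun w u => by
    have := (wP_zero_eq_self_iff (prm Q X) p).1 ((mem_Cs (prm Q X)).1 (z : Cs (prm Q X) p).2) w
    have h2 := congrFun this (xr p w • u)
    rw [H32.permRep_apply, inv_smul_smul] at h2
    exact h2.symm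
  obtain ⟨k, hk⟩ := ex_orb_trans hQ hn he p₁ hne hX x y
  obtain ⟨w, hw⟩ := (mem_orb p).1 (hk.symm ▸ self_mem_orb p y : y ∈ orb p (emb hQ p k • x))
  have hk2 := congrFun (congrArg (fun v : Cs (prm Q X) p => ((v : X → ℂ))) (z.2 k)) (emb hQ p k • x)
  simp only [cRep_apply, H32.permRep_apply, inv_smul_smul] at hk2
  show ψ y = ψ x
  rw [← hw, hfix]
  exact hk2.symm

end Ex

section Value

variable {p : HP Q} (hQ : Nondeg Q) (x : X) {a : p.W} (ha : a ∈ Au p x)

include hQ ha

/-- The character value of the displacement of the orbit. -/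
theorem chi_disp {w w' : p.W} (h : xr p w • x = xr p w' • x) : chi p a w = chi p a w' := by
  have hm : -w' + w ∈ Ru p x := by
    rw [mem_Ru, xr_add, mul_smul, h, xr_neg, inv_smul_smul]
  rw [show w = w' + (-w' + w) by abel, AddChar.map_add_eq_mul, ha _ hm, mul_one]

omit ha in
/-- The elements fixing the weight and the orbit. -/
def stO (a : p.W) : Subgroup (sieGroup (restr Q p.W)) where
  carrier := {k | apW k a = a ∧ emb hQ p k • x ∈ orb p x}
  one_mem' := ⟨rfl, by rw [map_one, one_smul]; exact self_mem_orb p x⟩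
  mul_mem' {k l} hk hl := by
    refine ⟨(ap_mul k l a).trans (by rw [show ap l a = a from hl.1]; exact hk.1), ?_⟩
    obtain ⟨v, hv⟩ := (mem_orb p).1 hl.2
    obtain ⟨w, hw⟩ := (mem_orb p).1 hk.2
    refine (mem_orb p).2 ⟨apW k v + w, ?_⟩
    rw [map_mul, mul_smul, ← hv, xr_add, mul_smul, hw, ← mul_smul, ← mul_smul, emb_xr p hQ]
  inv_mem' {k} hk := by
    refine ⟨inv_app hk.1, ?_⟩
    obtain ⟨v, hv⟩ := (mem_orb p).1 hk.2
    refine (mem_orb p).2 ⟨apW k⁻¹ (-v), ?_⟩
    rw [show emb hQ p k⁻¹ = (emb hQ p k)⁻¹ from map_inv _ _, eq_inv_smul_iff, ← mul_smul,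
      emb_xr p hQ, show apW k (apW k⁻¹ (-v)) = -v by
        rw [show apW k (apW k⁻¹ (-v)) = ap (k * k⁻¹) (-v) from (ap_mul k k⁻¹ (-v)).symm,
          mul_inv_cancel, ap_one], mul_smul, ← hv, xr_neg, inv_smul_smul]

theorem exists_disp_char : ∃ φ : stO hQ x a →* ℂˣ, ∀ (k : stO hQ x a) (w : p.W),
    emb hQ p (k : sieGroup (restr Q p.W)) • x = xr p w • x → (φ k : ℂ) = chi p a w := by
  have hv : ∀ k : stO hQ x a, ∃ w : p.W, xr p w • x = emb hQ p (k : sieGroup (restr Q p.W)) • x :=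
    fun k => (mem_orb p).1 k.2.2
  choose v hv using hv
  have hne : ∀ w, chi p a w ≠ 0 := fun w h => by
    have := AddChar.map_add_eq_mul (chi p a) w (-w)
    rw [add_neg_cancel, AddChar.map_zero_eq_one, h, zero_mul] at this
    exact one_ne_zero this
  refine ⟨MonoidHom.mk' (fun k => Units.mk0 (chi p a (v k)) (hne _)) fun k l => Units.ext ?_,
    fun k w hw => chi_disp hQ x ha ((hv k).trans hw)⟩
  show chi p a (v (k * l)) = chi p a (v k) * chi p a (v l)
  have hd : xr p (v (k * l)) • x =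
      xr p (apW (k : sieGroup (restr Q p.W)) (v l) + v k) • x := by
    rw [hv, Subgroup.coe_mul, map_mul, mul_smul, ← hv l, xr_add, mul_smul, hv k, ← mul_smul,
      ← mul_smul, emb_xr p hQ]
  rw [chi_disp hQ x ha hd, AddChar.map_add_eq_mul, mul_comm]
  congr 1
  rw [chi_apply, chi_apply, ← polar_restr, ← polar_restr]
  congr 1
  exact (congrArg (fun y => polar (restr Q p.W) y (apW (k : sieGroup (restr Q p.W)) (v l))) k.2.1.symm).trans
    (O.polar_app _ _ _)

omit hQ in
theorem wP_single_off {z : X} (hz : z ∉ orb p x) :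
    wP (prm Q X) p a (Pi.single x 1) z = 0 := by
  simp only [wP, LinearMap.smul_apply, LinearMap.sum_apply, Pi.smul_apply, Finset.sum_apply,
    H32.permRep_apply]
  rw [Finset.sum_eq_zero, smul_zero]
  intro w _
  rw [Pi.single_eq_of_ne, smul_zero]
  intro e
  exact hz ((mem_orb p).2 ⟨w, by rw [← e, smul_inv_smul]⟩)

omit hQ in
theorem wP_single_self :
    wP (prm Q X) p a (Pi.single x 1) x = (Fintype.card p.W : ℂ)⁻¹ * (Nat.card (Ru p x) : ℂ) := by
  simp only [wP, LinearMap.smul_apply, LinearMap.sum_apply, Pi.smul_apply, Finset.sum_apply,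
    H32.permRep_apply, smul_eq_mul]
  congr 1
  have e : ∀ w : p.W, chi p a (-w) * (Pi.single x (1 : ℂ) : X → ℂ) ((xr p w)⁻¹ • x) =
      if w ∈ Ru p x then 1 else 0 := fun w => by
    split_ifs with h
    · rw [inv_smul_eq_iff.2 ((mem_Ru p).1 h).symm, Pi.single_eq_same, mul_one]
      exact ha _ (neg_mem h)
    · rw [Pi.single_eq_of_ne, mul_zero]
      exact fun e => h ((mem_Ru p).2 (inv_smul_eq_iff.1 e).symm)
  rw [Finset.sum_congr rfl fun w _ => e w, Finset.sum_boole, Nat.card_eq_fintype_card,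
    Fintype.card_subtype]

end Value

section Main

variable {p : HP Q} {K ν T δ : ℕ} [MulAction.IsPretransitive (sieGroup Q) X]

set_option maxHeartbeats 1000000 in
/-- No set of singular weights spans more than a line. -/
theorem lines_of_ex (hQ : Nondeg Q) (hn : Nums Q p X K) (he : ExNums Q p K ν T δ)
    (hX : Fintype.card X < Nat.card (Pt Q)) (x : X) (hx : TSx p x) :
    ∃ l : p.W, ∀ v ∈ Au p x, v ∈ Submodule.span F {l} := by
  by_contra hno
  push Not at hno
  have hR := p.nd hQ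
  obtain ⟨a, ha, ha0⟩ := hno 0
  have ha0' : a ≠ 0 := fun e => ha0 (by rw [e]; exact Submodule.zero_mem _)
  obtain ⟨b, hb, hab⟩ := hR.exists_partner ha0' (hx a ha)
  let p₁ : HP (restr Q p.W) := ⟨a, b, hx a ha, hb, hab⟩
  have ha' : p₁.e ∈ Au p x := ha
  obtain ⟨y, hy, hy0⟩ := hno a
  have hy1 : pr p₁ y ≠ 0 := fun e => hy0 (by
    have := eq_pr_add p₁ (hx.polar_eq p ha' hy)
    rw [e, Submodule.coe_zero, zero_add] at this
    rw [this]
    exact Submodule.smul_mem _ _ (Submodule.mem_span_singleton_self _))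
  have hne : ∃ x : X, p₁.e ∈ Au p x ∧ TSx p x ∧ ∃ y ∈ Au p x, pr p₁ y ≠ 0 :=
    ⟨x, ha', hx, y, hy, hy1⟩
  obtain ⟨M, hM, hMts, hMd⟩ := ex_subspace hQ hn he p₁ hne ha'
  obtain ⟨hW, hν⟩ := ex_W3 hQ hn he p₁
  -- the stabiliser and its character
  have hS : ∀ k : sieGroup (restr Q p.W),
      k ∈ stO hQ x p₁.e ↔ ap k p₁.e = p₁.e ∧ ∀ v ∈ M, ap k v ∈ M := by
    intro k
    constructor
    · rintro ⟨h1, h2⟩
      refine ⟨h1, fun v hv => (hM _).2 ?_⟩
      rw [← Au_eq_of_mem p h2]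
      exact Au_emb hQ p ((hM _).1 hv)
    · rintro ⟨h1, h2⟩
      refine ⟨h1, ?_⟩
      have hky : apW k y ∈ Au p x := (hM _).1 (h2 _ ((hM _).2 hy))
      have hky1 : pr p₁ (apW k y) ≠ 0 := fun e => hy1 (by
        have hd := eq_pr_add p₁ (hx.polar_eq p ha' hky)
        rw [e, Submodule.coe_zero, zero_add] at hd
        have : y = polar (restr Q p.W) p₁.f (apW k y) • p₁.e :=
          (apW k).injective (by rw [map_smul, show apW k p₁.e = p₁.e from h1]; exact hd)
        rw [this, map_smul, pr_axis, smul_zero])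
      by_contra hko
      have hd := (SO_exact hQ p p₁ hW hν (he.idx₁ p₁) (ex_hex hQ hn he p₁ hne) hne
        (mem_orbsTS p p₁ ha' hx)).2 _ (orbsTS_map hQ p p₁ h1 ha' hx)
        (fun e => hko (e ▸ self_mem_orb p _))
      exact Finset.disjoint_left.1 hd (mem_SO p p₁ hky hky1) (mem_SO p p₁ (Au_emb hQ p hy) hky1)
  obtain ⟨φ, hφ⟩ := exists_disp_char hQ x (show p₁.e ∈ Au p x from ha')
  have : Fact (ringChar F).Prime := ⟨CharP.char_is_prime F (ringChar F)⟩
  have hφp : ∀ k, φ k ^ ringChar F = 1 := fun k => by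
    obtain ⟨w, hw⟩ := (mem_orb p).1 k.2.2
    refine Units.ext ?_
    rw [Units.val_pow_eq_pow_val, hφ k w hw.symm, ← AddChar.map_nsmul_eq_pow,
      ← Nat.cast_smul_eq_nsmul F, ringChar.Nat.cast_ringChar, zero_smul, AddChar.map_zero_eq_one]
    rfl
  have hsmall : (finrank F p₁.W = 3 ∧ finrank F M = 2 ∧ (2 : F) ≠ 0) ∨
      (finrank F p₁.W = 4 ∧ finrank F M = 3) := by
    have := p₁.finrank_W hR
    rcases he.shape with ⟨h1, h2, h3⟩ | ⟨h1, h2⟩
    · exact Or.inl ⟨by omega, by omega, h3⟩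
    · exact Or.inr ⟨by omega, by omega⟩
  have hone : ∀ k, φ k = 1 :=
    char_eq_one (p := ringChar F) hR p₁ hMts ((hM _).2 ha') hS φ hφp he.sqne hW hsmall
  -- the new fixed vector
  set ρ := prm Q X
  set d : X → ℂ := wP ρ p p₁.e (Pi.single x 1) with hd
  have hval : ∀ h : sieGroup (restr Q p.W), apW h p₁.e = p₁.e →
      ρ (emb hQ p h) d x = if h⁻¹ ∈ stO hQ x p₁.e then d x else 0 := by
    intro h hh
    rw [H32.permRep_apply, ← map_inv]
    split_ifs with hm
    · obtain ⟨w, hw⟩ := (mem_orb p).1 hm.2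
      have h1 : chi p p₁.e w = 1 := by
        rw [← hφ ⟨_, hm⟩ w hw.symm, hone, Units.val_one]
      rw [← hw]
      have h2 := congrFun (xr_mul_wP_apply ρ p p₁.e w (Pi.single x 1)) (xr p w • x)
      rw [H32.permRep_apply, inv_smul_smul, Pi.smul_apply, h1, one_smul] at h2
      exact h2.symm
    · refine wP_single_off x ha' fun hmem => hm ⟨inv_app hh, hmem⟩
  have hdx : d x ≠ 0 := by
    rw [hd, wP_single_self x ha']
    exact mul_ne_zero (inv_ne_zero (card_W_ne_zero p)) (Nat.cast_ne_zero.2 Nat.card_pos.ne')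
  set ξ := orbSum hQ ρ p d with hξ
  have hξ0 : ξ ≠ 0 := by
    intro h0
    have h1 := congrFun (congrArg (wP ρ p p₁.e) h0) x
    rw [hξ, hd, wP_orbSum hQ, map_zero, Finset.sum_apply, ← hd, Pi.zero_apply,
      Finset.sum_congr rfl fun h hh => hval h (Finset.mem_filter.1 hh).2, ← Finset.sum_filter,
      Finset.sum_const, nsmul_eq_mul, mul_eq_zero] at h1
    refine h1.elim (fun h => ?_) hdx
    refine Finset.card_ne_zero.2 ⟨1, ?_⟩ (Nat.cast_eq_zero.1 h)
    exact Finset.mem_filter.2 ⟨Finset.mem_filter.2 ⟨Finset.mem_univ _, rfl⟩,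
      by rw [inv_one]; exact one_mem _⟩
  obtain ⟨p'⟩ := exists_hp hR (by have := hn.dim; omega)
  have hns : ∀ u : p.W, u ≠ 0 → Q (u : V) ≠ 0 → ∀ z, wP ρ p u z = 0 := fun u _ hu =>
    (mult_eq_zero_iff ρ p u).1 (by
      rw [mult_eq_card_orbs, Finset.card_eq_zero, Finset.eq_empty_iff_forall_notMem]
      intro O hO
      obtain ⟨z, hz, -⟩ := (mem_orbs p).1 hO
      exact hu (ex_all_ts hQ hn he p₁ hne z u hz))
  have hbound := inv_bound hQ (permForm Q X) hns p' (by have := hn.dim; omega)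
    (count_ok p p' (he.cone p')) (n := 1) (fun _ => ξ) (fun _ => orbSum_hfix hQ d)
    (fun _ => wP_zero_orbSum hQ p₁.e_ne _)
    (Fintype.linearIndependent_iff.2 fun c hc i => by
      rw [Fin.sum_univ_one] at hc
      rw [Subsingleton.elim i 0]
      exact (smul_eq_zero.1 hc).resolve_right hξ0)
  have h1 : 1 ≤ finrank ℂ ρ.invariants := by
    have : Nontrivial ρ.invariants :=
      ⟨⟨fun _ => 1, fun g => funext fun _ => rfl⟩, 0, fun e => by
        have := congrFun (congrArg Subtype.val e) x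
        exact one_ne_zero this⟩
    exact Module.finrank_pos
  have h2 := ex_inv_le hQ hn he p₁ hne hX
  exact absurd ((Nat.add_le_add_left h1 1).trans (hbound.trans h2)) (by norm_num)

end Main

end Cfsg.Agent.H53.OmIdx
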