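import Mathlib

/-!
Commutators in the symmetric groups on at most four letters.
-/

set_option autoImplicit false

namespace Cfsg.Agent.H53.OmIdx

open Equiv
open scoped commutatorElement

set_option maxRecDepth 20000 in
set_option maxHeartbeats 4000000 in
theorem fin_comm_sq : ∀ n, n ≤ 4 → ∀ x y : Perm (Fin n), Perm.sign x = 1 → Perm.sign y = 1 →
    ⁅x, y⁆ ^ 2 = 1 := by
  intro n hn
  interval_cases n <;> decide

set_option maxRecDepth 20000 in
set_option maxHeartbeats 4000000 in
theorem fin_comm_one : ∀ n, n ≤ 3 → ∀ x y : Perm (Fin n), ⁅x, y⁆ ^ 2 = 1 → ⁅x, y⁆ = 1 := by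
  intro n hn
  interval_cases n <;> decide

variable {α : Type*} [Fintype α] [DecidableEq α]

theorem perm_comm_sq (h : Fintype.card α ≤ 4) {x y : Perm α} (hx : Perm.sign x = 1)
    (hy : Perm.sign y = 1) : ⁅x, y⁆ ^ 2 = 1 := by
  set e := Fintype.equivFin α
  have := fin_comm_sq _ h (e.permCongrHom x) (e.permCongrHom y)
    (by rw [Equiv.permCongrHom_coe, Perm.sign_permCongr]; exact hx)
    (by rw [Equiv.permCongrHom_coe, Perm.sign_permCongr]; exact hy)
  rwa [← map_commutatorElement, ← map_pow, EmbeddingLike.map_eq_one_iff] at this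

theorem perm_comm_one (h : Fintype.card α ≤ 3) {x y : Perm α} (hxy : ⁅x, y⁆ ^ 2 = 1) :
    ⁅x, y⁆ = 1 := by
  set e := Fintype.equivFin α
  have := fin_comm_one _ h (e.permCongrHom x) (e.permCongrHom y)
    (by rw [← map_commutatorElement, ← map_pow, hxy, map_one])
  rwa [← map_commutatorElement, EmbeddingLike.map_eq_one_iff] at this

end Cfsg.Agent.H53.OmIdx
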