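import Cfsg.Agent.H53.OmLow.StabH

/-!
The torus inside the orthogonal group of a pair and a non-singular vector, and vectors orthogonal
to given ones.
-/

set_option autoImplicit false
set_option linter.unusedSectionVars false

namespace Cfsg.Agent.H53.OmIdx

open QuadraticMap Module
open Cfsg.Agent.Orthogonal
open Cfsg.Agent.H53.OmLow

variable {F V : Type*} [Field F] [Finite F] [AddCommGroup V] [Module F V] [FiniteDimensional F V]
variable {Q : QuadraticForm F V}

section Torus

variable (p : HP Q) {z : V} (hz : z ∈ p.W)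

/-- The element exchanging the two axes. -/
noncomputable def wEl (t : F) : sieGroup Q :=
  sg p.e (t • z) p.he (by rw [polar_smul_right', (p.mem_W.1 hz).1, mul_zero]) *
  sg p.f ((Q z * t)⁻¹ • z) p.hf (by rw [polar_smul_right', (p.mem_W.1 hz).2, mul_zero]) *
  sg p.e (t • z) p.he (by rw [polar_smul_right', (p.mem_W.1 hz).1, mul_zero])

/-- The torus element. -/
noncomputable def hEl (t : F) : sieGroup Q := wEl p hz t * wEl p hz 1

variable (hκ : Q z ≠ 0) {t : F} (ht : t ≠ 0)

include hκ ht

theorem wEl_e : ap (wEl p hz t) p.e = -((Q z * t ^ 2)⁻¹ • p.f) := by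
  have h1 := (p.mem_W.1 hz).1
  have h2 := (p.mem_W.1 hz).2
  have h3 : polar Q z p.e = 0 := by rw [polar_comm]; exact h1
  have h4 : polar Q z p.f = 0 := by rw [polar_comm]; exact h2
  simp only [ap, wEl, Subgroup.coe_mul, mul_app, sg_val, sie_app, qmap_smul, polar_self',
    polar_smul_left', polar_add_right, polar_sub_right, polar_smul_right', p.he, p.hf, p.hef, p.hfe,
    h1, h2, h3, h4]
  match_scalars <;> field_simp <;> ring

theorem wEl_f : ap (wEl p hz t) p.f = -((Q z * t ^ 2) • p.e) := by
  have h1 := (p.mem_W.1 hz).1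
  have h2 := (p.mem_W.1 hz).2
  have h3 : polar Q z p.e = 0 := by rw [polar_comm]; exact h1
  have h4 : polar Q z p.f = 0 := by rw [polar_comm]; exact h2
  simp only [ap, wEl, Subgroup.coe_mul, mul_app, sg_val, sie_app, qmap_smul, polar_self',
    polar_smul_left', polar_add_right, polar_sub_right, polar_smul_right', p.he, p.hf, p.hef, p.hfe,
    h1, h2, h3, h4]
  match_scalars <;> field_simp <;> ring

theorem wEl_perp {d : V} (hd : d ∈ p.W) :
    ap (wEl p hz t) d = d - (polar Q z d / Q z) • z := by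
  have h1 := (p.mem_W.1 hz).1
  have h2 := (p.mem_W.1 hz).2
  have h3 : polar Q z p.e = 0 := by rw [polar_comm]; exact h1
  have h4 : polar Q z p.f = 0 := by rw [polar_comm]; exact h2
  have h5 := (p.mem_W.1 hd).1
  have h6 := (p.mem_W.1 hd).2
  simp only [ap, wEl, Subgroup.coe_mul, mul_app, sg_val, sie_app, qmap_smul, polar_self',
    polar_smul_left', polar_add_right, polar_sub_right, polar_smul_right', p.he, p.hf, p.hef, p.hfe,
    h1, h2, h3, h4, h5, h6]
  match_scalars <;> field_simp <;> ring

omit ht in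
theorem hEl_e (ht : t ≠ 0) : ap (hEl p hz t) p.e = t ^ 2 • p.e := by
  rw [hEl, ap_mul, wEl_e p hz hκ one_ne_zero, map_neg, map_smul, wEl_f p hz hκ ht]
  match_scalars
  field_simp

omit ht in
theorem hEl_f (ht : t ≠ 0) : ap (hEl p hz t) p.f = (t ^ 2)⁻¹ • p.f := by
  rw [hEl, ap_mul, wEl_f p hz hκ one_ne_zero, map_neg, map_smul, wEl_e p hz hκ ht]
  match_scalars
  field_simp

omit ht in
theorem hEl_perp (ht : t ≠ 0) {d : V} (hd : d ∈ p.W) : ap (hEl p hz t) d = d := by
  rw [hEl, ap_mul, wEl_perp p hz hκ one_ne_zero hd, map_sub, map_smul, wEl_perp p hz hκ ht hd,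
    wEl_perp p hz hκ ht hz, polar_self']
  match_scalars <;> field_simp <;> ring

end Torus

section Finite

/-- A non-singular vector orthogonal to a given one. -/
theorem exists_perp_nonsing (hQ : Nondeg Q) (h2 : (2 : F) ≠ 0) (hn : 2 ≤ finrank F V) {u : V}
    (hu : Q u ≠ 0) : ∃ z, polar Q u z = 0 ∧ Q z ≠ 0 := by
  obtain ⟨ε, hε⟩ := exists_not_isSquare h2
  obtain ⟨k, hk⟩ := hQ.exists_value hn (ε * Q u)
  set β := polar Q u k / (2 * Q u) with hβ
  have h20 : 2 * Q u ≠ 0 := mul_ne_zero h2 hu
  refine ⟨k - β • u, ?_, fun h => hε ⟨β, ?_⟩⟩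
  · rw [polar_sub_right, polar_smul_right', polar_self', hβ, div_mul_cancel₀ _ h20, sub_self]
  · have e : polar Q u k = β * (2 * Q u) := by rw [hβ, div_mul_cancel₀ _ h20]
    rw [qmap_sub, qmap_smul, polar_smul_right', polar_comm (⇑Q) k u, e, hk] at h
    refine mul_right_cancel₀ hu ?_
    linear_combination h

/-- A pair orthogonal to a non-singular vector, dimension four being enough. -/
theorem exists_orth_hp' (hQ : Nondeg Q) (hn : 4 ≤ finrank F V) {u : V} (hQu : Q u ≠ 0) :
    ∃ p : HP Q, u ∈ p.W := by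
  obtain ⟨p₀⟩ := exists_hp hQ (by omega)
  have hd := p₀.finrank_W hQ
  obtain ⟨v, hv⟩ := (p₀.nd hQ).exists_value (by omega) (Q u)
  have hv0 : (v : V) ≠ 0 := fun h => hQu (by rw [← hv, restr_apply, h, QuadraticMap.map_zero])
  have hu0 : u ≠ 0 := fun h => hQu (by rw [h, QuadraticMap.map_zero])
  obtain ⟨g, hg⟩ := exists_map_vec hQ hv0 hu0 hv.symm
  refine ⟨p₀.map g, ?_⟩
  rw [HP.mem_W, ← hg]
  simp only [HP.map, O.polar_app]
  exact p₀.mem_W.1 v.2

/-- A singular vector orthogonal to a non-singular one has a partner orthogonal to it. -/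
theorem exists_pair_perp (hQ : Nondeg Q) {u a : V} (hu : Q u ≠ 0) (ha : a ≠ 0) (hQa : Q a = 0)
    (hau : polar Q a u = 0) : ∃ p : HP Q, p.e = a ∧ u ∈ p.W := by
  obtain ⟨y, hy, hay⟩ : ∃ y, polar Q u y = 0 ∧ polar Q a y ≠ 0 := by
    by_contra hne
    push Not at hne
    have hm : a ∈ Submodule.span F {u} := by
      rw [← hQ.perp_perp (Submodule.span F {u})]
      intro y hy
      rw [polar_comm]
      exact hne y (hy u (Submodule.mem_span_singleton_self u))
    obtain ⟨l, rfl⟩ := Submodule.mem_span_singleton.1 hm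
    rw [qmap_smul, mul_eq_zero, or_iff_left hu] at hQa
    exact ha (by rw [pow_eq_zero_iff two_ne_zero] at hQa; rw [hQa, zero_smul])
  obtain ⟨y', h1, h0⟩ : ∃ y', polar Q a y' = 1 ∧ polar Q u y' = 0 :=
    ⟨(polar Q a y)⁻¹ • y, by rw [polar_smul_right', inv_mul_cancel₀ hay],
      by rw [polar_smul_right', hy, mul_zero]⟩
  refine ⟨⟨a, y' + (-Q y') • a, hQa, ?_, ?_⟩, rfl, (HP.mem_W _).2 ⟨hau, ?_⟩⟩
  · rw [map_add_polar, qmap_smul, polar_smul_right', polar_comm (⇑Q) y' a, h1, hQa]; ring
  · rw [polar_add_right, polar_smul_right', polar_self', hQa, h1]; ring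
  · show polar Q (y' + _) u = 0
    rw [polar_add_left, polar_smul_left', hau, polar_comm (⇑Q) y' u, h0]
    ring

/-- A pair and a non-singular vector orthogonal to a given non-singular vector. -/
theorem exists_cdz (hQ : Nondeg Q) (hn : 4 ≤ finrank F V) {u : V} (hu : Q u ≠ 0) :
    ∃ (p : HP Q) (z : V), u ∈ p.W ∧ z ∈ p.W ∧ Q z ≠ 0 ∧ polar Q u z = 0 := by
  obtain ⟨p, hp⟩ := exists_orth_hp' hQ hn hu
  by_cases h2 : (2 : F) = 0
  · exact ⟨p, u, hp, hp, hu, by rw [polar_self', h2, zero_mul]⟩
  · have hd := p.finrank_W hQ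
    obtain ⟨z, hz, hQz⟩ := exists_perp_nonsing (p.nd hQ) h2 (by omega) (u := ⟨u, hp⟩) hu
    rw [polar_restr] at hz
    exact ⟨p, z, hp, z.2, hQz, hz⟩

/-- Totally singular subspaces are bounded by the index. -/
theorem finrank_le_index (hQ : Nondeg Q) {k d : ℕ} (h : HasType Q k d) {S : Submodule F V}
    (hS : TotSing Q S) : finrank F S ≤ k := by
  obtain ⟨e, f, hf, ha, -⟩ := h
  set E : Submodule F V := Submodule.span F (Set.range e) with hE
  have hEd : finrank F E = k := by
    rw [hE, finrank_span_eq_card ?_, Fintype.card_fin]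
    exact hf.linearIndependent.comp Sum.inl Sum.inl_injective
  have hinf : S ⊓ perp Q E ≤ E := by
    intro x hx
    obtain ⟨hxS, hxE⟩ := Submodule.mem_inf.1 hx
    have hxe : ∀ i, polar Q (e i) x = 0 := fun i => hxE _ (Submodule.subset_span ⟨i, rfl⟩)
    set s : V := ∑ i, polar Q (f i) x • e i with hs
    have hse : ∀ i, polar Q (e i) s = 0 := fun i => by
      rw [hs, ← polarBilin_apply', map_sum]
      simp [polarBilin_apply', hf.ee, polar_smul_right']
    have hsf : ∀ i, polar Q (f i) s = polar Q (f i) x := fun i => by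
      rw [hs, ← polarBilin_apply', map_sum]
      simp [polar_smul_right', hf.fe]
    have hsE : s ∈ E := Submodule.sum_mem _ fun i _ => E.smul_mem _ (Submodule.subset_span ⟨i, rfl⟩)
    have hk : x - s ∈ IsFrame.kernel Q e f := IsFrame.mem_kernel.2
      ⟨fun i => by rw [polar_sub_right, hxe, hse, sub_self],
        fun i => by rw [polar_sub_right, hsf, sub_self]⟩
    have hQs : Q s = 0 ∧ polar Q x s = 0 := by
      constructor
      · suffices ∀ y ∈ E, Q y = 0 ∧ ∀ i, polar Q (e i) y = 0 from (this s hsE).1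
        intro y hy
        induction hy using Submodule.span_induction with
        | mem y hy => obtain ⟨j, rfl⟩ := hy; exact ⟨hf.qe j, fun i => hf.ee i j⟩
        | zero => exact ⟨QuadraticMap.map_zero _, fun i => polar_zero_right (Q := Q) _⟩
        | add y z hym hzm hy hz =>
          refine ⟨?_, fun i => by rw [polar_add_right, hy.2, hz.2, add_zero]⟩
          rw [map_add_polar, hy.1, hz.1, zero_add, zero_add]
          have : y ∈ perp Q (Submodule.span F {z}) := by
            rw [mem_perp_span_singleton]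
            clear hy
            induction hym using Submodule.span_induction with
            | mem y hy => obtain ⟨j, rfl⟩ := hy; rw [polar_comm]; exact hz.2 j
            | zero => exact polar_zero_right (Q := Q) _
            | add a b _ _ iha ihb => rw [polar_add_right, iha, ihb, add_zero]
            | smul c a _ iha => rw [polar_smul_right', iha, mul_zero]
          rw [polar_comm]
          exact (mem_perp_span_singleton Q).1 this
        | smul c y _ hy => exact ⟨by rw [qmap_smul, hy.1, mul_zero],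
            fun i => by rw [polar_smul_right', hy.2, mul_zero]⟩
      · rw [polar_comm]
        exact hxE s hsE
    have h0 := ha _ hk (by rw [qmap_sub, hS x hxS, hQs.1, hQs.2]; ring)
    rw [sub_eq_zero] at h0
    rw [h0]; exact hsE
  have hle : S ⊔ perp Q E ≤ perp Q (S ⊓ perp Q E) := by
    refine sup_le ?_ ?_
    · intro x hx y hy
      exact hS.polar_eq (Submodule.mem_inf.1 hy).1 hx
    · intro x hx y hy
      exact hx y (hinf hy)
  have h1 := Submodule.finrank_sup_add_finrank_inf_eq S (perp Q E)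
  have h2 := Submodule.finrank_mono hle
  have h3 := hQ.finrank_add_perp E
  have h4 := hQ.finrank_add_perp (S ⊓ perp Q E)
  omega

end Finite

end Cfsg.Agent.H53.OmIdx
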