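import Cfsg.Agent.H53.OmIdx.Perm
import Cfsg.Agent.H53.OmIdx.Torus
import Cfsg.Agent.H53.OmIdx.Small4

/-!
Elements fixing every orbit in which a non-singular weight occurs.
-/

set_option autoImplicit false
set_option linter.unusedSectionVars false

namespace Cfsg.Agent.H53.OmIdx

open QuadraticMap Module Finset
open Cfsg.Agent.Orthogonal
open Cfsg.Agent.H53.OmLow
open scoped commutatorElement

attribute [local instance] Fintype.ofFinite Classical.propDecidable

variable {F V : Type*} [Field F] [Finite F] [AddCommGroup V] [Module F V] [FiniteDimensional F V]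
variable {Q : QuadraticForm F V} {X : Type*} [MulAction (sieGroup Q) X] [Fintype X]
variable (hQ : Nondeg Q) (p : HP Q) (u : p.W)

/-- Fixing every orbit in which the weight occurs. -/
def Fixes (X : Type*) [MulAction (sieGroup Q) X] [Fintype X] (k : sieGroup (restr Q p.W)) : Prop :=
  apW k u = u ∧ ∀ x : X, u ∈ Au p x → orb p (emb hQ p k • x) = orb p x

theorem Fixes.mem {k : sieGroup (restr Q p.W)} (h : Fixes hQ p u X k) {x : X} (hu : u ∈ Au p x)
    {v : p.W} (hv : v ∈ Au p x) : apW k v ∈ Au p x := by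
  rw [← Au_eq_of_mem p (x := x) (y := emb hQ p k • x) (h.2 x hu ▸ self_mem_orb p _)]
  exact (Au_map p hQ k x v).2 hv

theorem Fixes.mul {k l : sieGroup (restr Q p.W)} (hk : Fixes hQ p u X k) (hl : Fixes hQ p u X l) :
    Fixes hQ p u X (k * l) := by
  refine ⟨(ap_mul k l u).trans (by rw [show ap l u = u from hl.1]; exact hk.1), fun x hx => ?_⟩
  have h1 := hl.2 x hx
  have h2 : u ∈ Au p (emb hQ p l • x) := by
    rw [Au_eq_of_mem p (x := x) (h1 ▸ self_mem_orb p _)]; exact hx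
  rw [map_mul, mul_smul, hk.2 _ h2, h1]

/-- The stabiliser of the weight. -/
def stU : Subgroup (sieGroup (restr Q p.W)) where
  carrier := {k | apW k u = u}
  one_mem' := rfl
  mul_mem' {k l} hk hl := (ap_mul k l u).trans (by rw [show ap l u = u from hl]; exact hk)
  inv_mem' {k} hk := inv_app hk

theorem mem_stU {k : sieGroup (restr Q p.W)} : k ∈ stU p u ↔ apW k u = u := Iff.rfl

theorem orbs_image {k : sieGroup (restr Q p.W)} (hk : apW k u = u) {O : Finset X}
    (hO : O ∈ orbs p X u) : O.image (emb hQ p k • ·) ∈ orbs p X u := by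
  obtain ⟨x, hx, rfl⟩ := (mem_orbs p).1 hO
  refine (mem_orbs p).2 ⟨emb hQ p k • x, ?_, orb_map p hQ k x⟩
  have := (Au_map p hQ k x u).2 hx
  rwa [hk] at this

/-- The action on the orbits in which the weight occurs. -/
@[reducible] noncomputable def orbAct (X : Type*) [MulAction (sieGroup Q) X] [Fintype X] :
    MulAction (stU p u) {O : Finset X // O ∈ orbs p X u} where
  smul k O := ⟨O.1.image (emb hQ p k.1 • ·), orbs_image hQ p u k.2 O.2⟩
  one_smul O := Subtype.ext (by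
    show O.1.image (emb hQ p (1 : sieGroup (restr Q p.W)) • ·) = O.1
    simp)
  mul_smul k l O := Subtype.ext (by
    show O.1.image (emb hQ p (k.1 * l.1) • ·) = (O.1.image (emb hQ p l.1 • ·)).image (emb hQ p k.1 • ·)
    rw [Finset.image_image]
    refine Finset.image_congr fun x _ => ?_
    rw [map_mul, mul_smul]
    rfl)

/-- The permutation of the orbits. -/
noncomputable def perU (X : Type*) [MulAction (sieGroup Q) X] [Fintype X] :
    stU p u →* Equiv.Perm {O : Finset X // O ∈ orbs p X u} :=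
  @MulAction.toPermHom _ _ _ (orbAct hQ p u X)

theorem fixes_of_per (k : stU p u) (h : perU hQ p u X k = 1) : Fixes hQ p u X k.1 := by
  refine ⟨k.2, fun x hx => ?_⟩
  have := congrArg (fun σ => (σ ⟨orb p x, (mem_orbs p).2 ⟨x, hx, rfl⟩⟩).1) h
  rw [orb_map p hQ]
  exact this

/-- An element fixing the weight with even action on the orbits. -/
def Ev (X : Type*) [MulAction (sieGroup Q) X] [Fintype X] (k : sieGroup (restr Q p.W)) : Prop :=
  ∃ hk : k ∈ stU p u, Equiv.Perm.sign (perU hQ p u X ⟨k, hk⟩) = 1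

theorem Ev.mul {k l : sieGroup (restr Q p.W)} (hk : Ev hQ p u X k) (hl : Ev hQ p u X l) :
    Ev hQ p u X (k * l) := by
  obtain ⟨h1, e1⟩ := hk
  obtain ⟨h2, e2⟩ := hl
  refine ⟨mul_mem h1 h2, ?_⟩
  rw [show (⟨k * l, mul_mem h1 h2⟩ : stU p u) = ⟨k, h1⟩ * ⟨l, h2⟩ from rfl, map_mul, map_mul, e1, e2,
    one_mul]

theorem sg_stU {a t : p.W} (ha : restr Q p.W a = 0) (hat : polar (restr Q p.W) a t = 0)
    (hau : polar (restr Q p.W) a u = 0) (htu : polar (restr Q p.W) t u = 0) :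
    sg a t ha hat ∈ stU p u :=
  sg_fix ha hat hau htu

theorem sg_half (h2 : (2 : F) ≠ 0) {a t : p.W} (ha : restr Q p.W a = 0)
    (hat : polar (restr Q p.W) a t = 0) :
    sg a t ha hat = sg a ((2 : F)⁻¹ • t) ha (by rw [polar_smul_right', hat, mul_zero]) *
      sg a ((2 : F)⁻¹ • t) ha (by rw [polar_smul_right', hat, mul_zero]) := by
  rw [sg_mul]
  exact sg_congr rfl (by rw [← add_smul, ← two_mul, mul_inv_cancel₀ h2, one_smul])

theorem ev_sg (h2 : (2 : F) ≠ 0) {a t : p.W} (ha : restr Q p.W a = 0)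
    (hat : polar (restr Q p.W) a t = 0) (hau : polar (restr Q p.W) a u = 0)
    (htu : polar (restr Q p.W) t u = 0) : Ev hQ p u X (sg a t ha hat) := by
  have htu' : polar (restr Q p.W) ((2 : F)⁻¹ • t) u = 0 := by rw [polar_smul_left', htu, mul_zero]
  have hh : polar (restr Q p.W) a ((2 : F)⁻¹ • t) = 0 := by rw [polar_smul_right', hat, mul_zero]
  refine ⟨sg_stU p u ha hat hau htu, ?_⟩
  rw [show (⟨sg a t ha hat, sg_stU p u ha hat hau htu⟩ : stU p u) =
    ⟨_, sg_stU p u ha hh hau htu'⟩ * ⟨_, sg_stU p u ha hh hau htu'⟩ from Subtype.ext (sg_half p h2 ha hat),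
    map_mul, map_mul, Int.units_mul_self]

variable (hB : ((2 : F) ≠ 0 ∧ (orbs p X u).card ≤ 4) ∨ ((2 : F) = 0 ∧ (orbs p X u).card ≤ 3))

include hB

/-- Commutators with the axis elements fix the orbits. -/
theorem fixes_of_comm {a : p.W} (ha : restr Q p.W a = 0) (hau : polar (restr Q p.W) a u = 0)
    {k : sieGroup (restr Q p.W)} (hk : apW k u = u) (hev : (2 : F) ≠ 0 → Ev hQ p u X k) {μ : F}
    (hμ : μ ≠ 0) (hka : apW k a = μ • a) {t d : p.W} (hat : polar (restr Q p.W) a t = 0)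
    (htu : polar (restr Q p.W) t u = 0) (had : polar (restr Q p.W) a d = 0)
    (hd : μ • apW k t - t = d) :
    Fixes hQ p u X (sg a d ha had) := by
  let kk : stU p u := ⟨k, hk⟩
  have hcomm : ∀ (t d : p.W) (hat : polar (restr Q p.W) a t = 0)
      (htu : polar (restr Q p.W) t u = 0) (had : polar (restr Q p.W) a d = 0),
      μ • apW k t - t = d → ∃ hm : sg a d ha had ∈ stU p u,
        perU hQ p u X ⟨_, hm⟩ = ⁅perU hQ p u X kk, perU hQ p u X ⟨_, sg_stU p u ha hat hau htu⟩⁆ := by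
    intro t d hat htu had hd
    have e := comm_sg ha hat hμ hka had hd
    have hm : sg a d ha had ∈ stU p u := by
      rw [← e]
      exact (⁅kk, (⟨_, sg_stU p u ha hat hau htu⟩ : stU p u)⁆).2
    refine ⟨hm, ?_⟩
    rw [← map_commutatorElement]
    exact congrArg _ (Subtype.ext e.symm)
  obtain ⟨hm, hper⟩ := hcomm t d hat htu had hd
  refine fixes_of_per hQ p u ⟨_, hm⟩ ?_
  rcases hB with ⟨h2, hc⟩ | ⟨h2, hc⟩
  · have hhd : polar (restr Q p.W) a ((2 : F)⁻¹ • d) = 0 := by rw [polar_smul_right', had, mul_zero]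
    obtain ⟨hm', hper'⟩ := hcomm ((2 : F)⁻¹ • t) ((2 : F)⁻¹ • d)
      (by rw [polar_smul_right', hat, mul_zero]) (by rw [polar_smul_left', htu, mul_zero]) hhd
      (by rw [map_smul, smul_comm, ← smul_sub, hd])
    rw [show (⟨sg a d ha had, hm⟩ : stU p u) = ⟨_, hm'⟩ * ⟨_, hm'⟩ from
      Subtype.ext (sg_half p h2 ha had), map_mul, hper', ← pow_two]
    refine perm_comm_sq (by rw [Fintype.card_coe]; exact hc) ?_ ?_
    · obtain ⟨_, e⟩ := hev h2
      exact e
    · obtain ⟨_, e⟩ := ev_sg hQ p u (X := X) h2 ha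
        (show polar (restr Q p.W) a ((2 : F)⁻¹ • t) = 0 by rw [polar_smul_right', hat, mul_zero]) hau
        (by rw [polar_smul_left', htu, mul_zero])
      exact e
  · rw [hper]
    refine perm_comm_one (by rw [Fintype.card_coe]; exact hc) ?_
    rw [← hper, ← map_pow]
    have : (⟨sg a d ha had, hm⟩ : stU p u) ^ 2 = 1 := by
      refine Subtype.ext ?_
      rw [pow_two, Subgroup.coe_mul, sg_mul, Subgroup.coe_one]
      refine (sg_congr (w' := 0) (hu' := ha) (hw' := polar_zero_right (Q := restr Q p.W) _) rfl ?_).trans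
        (sg_zero_right ha _)
      rw [← two_smul F, h2, zero_smul]
    rw [this, map_one]

/-- Enough translations along a singular axis fix the orbits. -/
theorem exists_fix_pair (hW : 5 ≤ finrank F p.W)
    (hq : 6 ≤ finrank F p.W ∨ ((2 : F) ≠ 0 ∧ ∃ t : F, t ≠ 0 ∧ t ^ 2 ≠ 1))
    (hu : restr Q p.W u ≠ 0) {a : p.W} (ha0 : a ≠ 0) (ha : restr Q p.W a = 0)
    (hau : polar (restr Q p.W) a u = 0) :
    ∃ T₁ T₂ : p.W, polar (restr Q p.W) T₁ T₂ ≠ 0 ∧ ∀ T ∈ ({T₁, T₂} : Set p.W),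
      polar (restr Q p.W) a T = 0 ∧ polar (restr Q p.W) T u = 0 ∧
        ∀ (s : F) (h : polar (restr Q p.W) a (s • T) = 0), Fixes hQ p u X (sg a (s • T) ha h) := by
  have hR := p.nd hQ
  obtain ⟨p₁, rfl, hu₁⟩ := exists_pair_perp hR hu ha0 ha hau
  have hd := p₁.finrank_W hR
  by_cases h6 : 6 ≤ finrank F p.W
  · obtain ⟨p₂, z, hu₂, hz, hκ, huz⟩ := exists_cdz (p₁.nd hR) (by omega) (u := (⟨u, hu₁⟩ : p₁.W)) hu
    have huz' : polar (restr Q p.W) (z : p.W) u = 0 := by
      rw [polar_comm]; rw [polar_restr] at huz; exact huz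
    have key : ∀ q₂ : HP (restr (restr Q p.W) p₁.W), (⟨u, hu₁⟩ : p₁.W) ∈ q₂.W → z ∈ q₂.W →
        ∀ (s : F) (h : polar (restr Q p.W) p₁.e
          (s • ((z : p.W) - restr Q p.W (z : p.W) • (q₂.e : p.W))) = 0),
          Fixes hQ p u X (sg p₁.e (s • ((z : p.W) - restr Q p.W (z : p.W) • (q₂.e : p.W))) ha h) := by
      intro q₂ hq hzq s h
      obtain ⟨he, hf⟩ := (q₂.mem_W).1 hq
      obtain ⟨hze, hzf⟩ := (q₂.mem_W).1 hzq
      rw [polar_restr] at he hf hze hzf
      have hef : polar (restr Q p.W) (q₂.e : p.W) (q₂.f : p.W) = 1 := by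
        rw [← polar_restr]; exact q₂.hef
      have hc : restr Q p.W (q₂.e : p.W) = 0 := q₂.he
      refine fixes_of_comm hQ p u hB ha hau (k := sg (q₂.e : p.W) (-(z : p.W)) hc (by rw [polar_neg_right, hze, neg_zero]))
        (sg_fix _ _ he (by rw [polar_neg_left, huz', neg_zero]))
        (fun h2 => ev_sg hQ p u h2 _ _ he (by rw [polar_neg_left, huz', neg_zero])) one_ne_zero
        ((sg_fix _ _ (p₁.w_e q₂.e) (by rw [polar_neg_left, p₁.w_e z, neg_zero])).trans (one_smul F _).symm)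
        (t := s • (q₂.f : p.W)) ?_ ?_ h ?_
      · rw [polar_smul_right', p₁.e_w q₂.f, mul_zero]
      · rw [polar_smul_left', hf, mul_zero]
      · show (1 : F) • ((sie (q₂.e : p.W) (-(z : p.W)) hc (by rw [polar_neg_right, hze, neg_zero]) : O (restr Q p.W)) : p.W ≃ₗ[F] p.W)
            (s • (q₂.f : p.W)) - _ = _
        rw [sie_app, polar_smul_right', polar_smul_right', hef, polar_neg_left, QuadraticMap.map_neg,
          polar_comm (⇑(restr Q p.W)) (z : p.W), hzf]
        module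
    obtain ⟨he, hf⟩ := (p₂.mem_W).1 hu₂
    obtain ⟨hze, hzf⟩ := (p₂.mem_W).1 hz
    rw [polar_restr] at he hf hze hzf
    have hef : polar (restr Q p.W) (p₂.e : p.W) (p₂.f : p.W) = 1 := by
      rw [← polar_restr]; exact p₂.hef
    have hκ' : restr Q p.W (z : p.W) ≠ 0 := hκ
    have hperp : ∀ y : p₁.W, polar (restr Q p.W) (y : p.W) u = 0 →
        polar (restr Q p.W) p₁.e ((z : p.W) - restr Q p.W (z : p.W) • (y : p.W)) = 0 ∧
          polar (restr Q p.W) ((z : p.W) - restr Q p.W (z : p.W) • (y : p.W)) u = 0 := fun y hy => by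
      simp [polar_sub_right, polar_sub_left, polar_smul_right', polar_smul_left', p₁.e_w, huz', hy]
    by_cases h2 : (2 : F) = 0
    · refine ⟨(z : p.W) - restr Q p.W (z : p.W) • (p₂.e : p.W),
        (z : p.W) - restr Q p.W (z : p.W) • (p₂.f : p.W), ?_, ?_⟩
      · simp only [polar_sub_left, polar_sub_right, polar_smul_left', polar_smul_right', polar_self',
          h2, hzf, hef, polar_comm (⇑(restr Q p.W)) (z : p.W) (p₂.f : p.W), hze, zero_mul, mul_zero,
          sub_zero, zero_sub, mul_one]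
        rw [mul_neg, neg_neg]
        exact mul_ne_zero hκ' hκ'
      · rintro T (rfl | rfl)
        · exact ⟨(hperp _ he).1, (hperp _ he).2, key p₂ hu₂ hz⟩
        · exact ⟨(hperp _ hf).1, (hperp _ hf).2,
            key p₂.swap ((p₂.swap.mem_W).2 ⟨((p₂.mem_W).1 hu₂).2, ((p₂.mem_W).1 hu₂).1⟩)
              ((p₂.swap.mem_W).2 ⟨((p₂.mem_W).1 hz).2, ((p₂.mem_W).1 hz).1⟩)⟩
    · refine ⟨(z : p.W) - restr Q p.W (z : p.W) • (p₂.e : p.W),
        (z : p.W) - restr Q p.W (z : p.W) • (p₂.e : p.W), ?_, ?_⟩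
      · rw [polar_self', qmap_sub, qmap_smul, polar_smul_right', polar_comm (⇑(restr Q p.W)) (z : p.W),
          hze, show restr Q p.W (p₂.e : p.W) = 0 from p₂.he]
        simp only [mul_zero, add_zero, sub_zero]
        exact mul_ne_zero h2 hκ'
      · rintro T (rfl | rfl) <;> exact ⟨(hperp _ he).1, (hperp _ he).2, key p₂ hu₂ hz⟩
  · obtain ⟨h2, t, ht, ht2⟩ := hq.resolve_left h6
    obtain ⟨z, huz, hκ⟩ := exists_perp_nonsing (p₁.nd hR) h2 (by omega) (u := (⟨u, hu₁⟩ : p₁.W)) hu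
    rw [polar_restr] at huz
    have hκ' : restr Q p.W (z : p.W) ≠ 0 := hκ
    have hzu : polar (restr Q p.W) (z : p.W) u = 0 := by rw [polar_comm]; exact huz
    refine ⟨z, z, by rw [polar_self']; exact mul_ne_zero h2 hκ', ?_⟩
    rintro T (rfl | rfl) <;> refine ⟨p₁.e_w z, hzu, fun s h => ?_⟩ <;>
    · have hev : Ev hQ p u X (hEl p₁ z.2 t) := by
        have he1 : polar (restr Q p.W) p₁.e u = 0 := (p₁.mem_W.1 hu₁).1
        have hf1 : polar (restr Q p.W) p₁.f u = 0 := (p₁.mem_W.1 hu₁).2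
        have hs : ∀ c : F, polar (restr Q p.W) (c • (z : p.W)) u = 0 := fun c => by
          rw [polar_smul_left', hzu, mul_zero]
        have hw : ∀ c : F, Ev hQ p u X (wEl p₁ z.2 c) := fun c =>
          ((ev_sg hQ p u h2 _ _ he1 (hs _)).mul hQ p u (ev_sg hQ p u h2 _ _ hf1 (hs _))).mul hQ p u
            (ev_sg hQ p u h2 _ _ he1 (hs _))
        exact (hw t).mul hQ p u (hw 1)
      have ht1 : t ^ 2 - 1 ≠ 0 := sub_ne_zero.2 ht2
      refine fixes_of_comm hQ p u hB ha hau (k := hEl p₁ z.2 t) (hEl_perp p₁ z.2 hκ' ht hu₁)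
        (fun _ => hev) (pow_ne_zero 2 ht) (hEl_e p₁ z.2 hκ' ht)
        (t := (s * (t ^ 2 - 1)⁻¹) • (z : p.W)) ?_ ?_ h ?_
      · rw [polar_smul_right', p₁.e_w z, mul_zero]
      · rw [polar_smul_left', hzu, mul_zero]
      · show t ^ 2 • ap (hEl p₁ z.2 t) _ - _ = _
        rw [hEl_perp p₁ z.2 hκ' ht (p₁.W.smul_mem _ z.2)]
        match_scalars
        field_simp

end Cfsg.Agent.H53.OmIdx
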