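import Cfsg.Agent.H53.OmIdx.Perm

/-!
Comparing the weights of the fixed space of the radical with those of the whole permutation module.
-/

set_option autoImplicit false
set_option linter.unusedSectionVars false

namespace Cfsg.Agent.H53.OmIdx

open QuadraticMap Module Finset
open Cfsg.Agent.Orthogonal
open Cfsg.Agent.H53.OmLow

attribute [local instance] Fintype.ofFinite Classical.propDecidable

variable {F V : Type*} [Field F] [Finite F] [AddCommGroup V] [Module F V] [FiniteDimensional F V]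
variable {Q : QuadraticForm F V} (hQ : Nondeg Q) (p : HP Q) (p' : HP (restr Q p.W))

/-- A translation moving a weight along the axis. -/
theorem apW_xr (t : p'.W) (y : p.W) :
    apW (xr p' t) y = y + polar (restr Q p.W) (t : p.W) y • p'.e -
      polar (restr Q p.W) p'.e y • (t : p.W) -
      (restr Q p.W (t : p.W) * polar (restr Q p.W) p'.e y) • p'.e := by
  show ((sie p'.e (t : p.W) p'.he (p'.e_w t) : O (restr Q p.W)) : p.W ≃ₗ[F] p.W) y = _
  rw [sie_app]
  module

/-- Weights of the fixed space are no more frequent than those of the module. -/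
theorem mult_cRep_le {M : Type*} [AddCommGroup M] [Module ℂ M] [FiniteDimensional ℂ M]
    (ρ : Representation ℂ (sieGroup Q) M) {w : p'.W} (hw : w ≠ 0) :
    mult (cRep ρ hQ p) p' w ≤ mult ρ p (w : p.W) := by
  set g := p.gg p'
  obtain ⟨z0, hz0⟩ := (p'.nd (p.nd hQ)).exists_polar_eq hw 1
  rw [polar_restr] at hz0
  let L : LinearMap.range (wP (cRep ρ hQ p) p' w) →ₗ[ℂ] LinearMap.range (wP ρ p (w : p.W)) :=
    LinearMap.codRestrict _
      ((wP ρ p (w : p.W)).comp ((ρ g⁻¹).comp ((Cs ρ p).subtype.comp (Submodule.subtype _))))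
      fun z => LinearMap.mem_range_self _ _
  refine LinearMap.finrank_le_finrank_of_injective (f := L)
    (LinearMap.ker_eq_bot.1 (LinearMap.ker_eq_bot'.2 fun z hz => ?_))
  obtain ⟨y, hy⟩ := z.2
  have hz' : wP ρ p (w : p.W) (ρ g⁻¹ ((z : Cs ρ p) : M)) = 0 := congrArg Subtype.val hz
  obtain ⟨hs, hfix⟩ := inherit_back ρ hQ p p' (z : Cs ρ p)
    (fun t => by rw [← hy]; exact xr_mul_wP_apply _ p' w t y)
  set m := ρ g⁻¹ ((z : Cs ρ p) : M) with hm
  have hall : ∀ x : F, wP ρ p ((w : p.W) + x • p'.e) m = 0 := fun x => by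
    have hk : apW (xr p' (x • z0)) (w : p.W) = (w : p.W) + x • p'.e := by
      rw [apW_xr, p'.e_w w, Submodule.coe_smul, polar_smul_left',
        polar_comm (⇑(restr Q p.W)) (z0 : p.W), hz0]
      module
    have e := LinearMap.congr_fun (emb_conj_wP ρ p hQ (xr p' (x • z0)) (w : p.W)) m
    rw [Module.End.mul_apply, Module.End.mul_apply,
      show ((xr p' (x • z0) : O (restr Q p.W)) : p.W ≃ₗ[F] p.W) (w : p.W) = (w : p.W) + x • p'.e from hk,
      hz', map_zero] at e
    have e2 : ρ (emb hQ p (xr p' (x • z0))) m = m := by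
      have h1 := hfix (x • z0)
      rw [xr, emb_sg]
      exact h1
    rw [e2] at e
    exact e.symm
  have h0 : m = 0 := by
    rw [← sum_wP_apply ρ p hQ m]
    refine Finset.sum_eq_zero fun u _ => ?_
    by_contra hu
    obtain ⟨x, rfl⟩ := hs u hu
    exact hu (hall x)
  refine Subtype.ext (Subtype.ext ?_)
  rw [← map_apply_inv_eq ρ g ((z : Cs ρ p) : M), ← hm, h0, map_zero]
  rfl

variable {X : Type*} [MulAction (sieGroup Q) X] [Fintype X]

/-- The translations along the axis preserving an orbit. -/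
def Tt (x : X) : AddSubgroup p'.W where
  carrier := {t | orb p (emb hQ p (xr p' t) • x) = orb p x}
  zero_mem' := by simp [xr_zero]
  add_mem' {s t} hs ht := by
    simp only [Set.mem_ofPred_eq] at hs ht ⊢
    rw [xr_add, map_mul, mul_smul, orb_map p hQ, ht, ← orb_map p hQ, hs]
  neg_mem' {s} hs := by
    simp only [Set.mem_ofPred_eq] at hs ⊢
    have h0 : orb p (emb hQ p (xr p' (-s + s)) • x) = orb p x := by
      rw [neg_add_cancel, xr_zero, map_one, one_smul]
    rwa [xr_add, map_mul, mul_smul, orb_map p hQ, hs, ← orb_map p hQ] at h0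

theorem Tt_Au {x : X} {t : p'.W} (ht : t ∈ Tt hQ p p' x) {y : p.W} (hy : y ∈ Au p x) :
    apW (xr p' t) y ∈ Au p x := by
  have ht' : orb p (emb hQ p (xr p' t) • x) = orb p x := ht
  rw [← Au_eq_of_mem p (x := x) (y := emb hQ p (xr p' t) • x) (ht' ▸ self_mem_orb p _)]
  exact (Au_map p hQ _ x y).2 hy

theorem mult_cRep_mul (w : p'.W) :
    mult (cRep (prm Q X) hQ p) p' w * Fintype.card p'.W * Fintype.card p.W =
      ∑ x ∈ Finset.univ.filter (fun x : X => ∀ t ∈ Tt hQ p p' x, chi p' w t = 1),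
        Nat.card (Ru p x) * Nat.card (Tt hQ p p' x) := by
  set ρ := prm Q X
  set ρ' : Representation ℂ (sieGroup (restr Q p.W)) (X → ℂ) := MonoidHom.comp ρ (emb hQ p)
  set σ := cRep ρ hQ p
  set T := wP ρ' p' w * wP ρ p 0 with hT
  have hcoe : ∀ z : Cs ρ p, ((wP σ p' w z : Cs ρ p) : X → ℂ) = wP ρ' p' w (z : X → ℂ) := fun z => by
    simp only [wP, LinearMap.smul_apply, LinearMap.sum_apply, Submodule.coe_smul, Submodule.coe_sum]
    rfl
  have hid : T * T = T := by
    refine LinearMap.ext fun z => ?_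
    have h2 : wP ρ p 0 (wP ρ' p' w (wP ρ p 0 z)) = wP ρ' p' w (wP ρ p 0 z) := by
      have := hcoe ⟨_, LinearMap.mem_range_self (wP ρ p 0) z⟩
      rw [← this]
      exact (mem_Cs ρ).1 (Subtype.prop _)
    simp only [hT, Module.End.mul_apply, h2, wP_idem_apply]
  have hrange : LinearMap.range T = (LinearMap.range (wP σ p' w)).map (Cs ρ p).subtype := by
    ext z
    simp only [Submodule.mem_map, LinearMap.mem_range]
    constructor
    · rintro ⟨y, rfl⟩
      exact ⟨_, ⟨⟨_, LinearMap.mem_range_self _ y⟩, rfl⟩, hcoe _⟩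
    · rintro ⟨_, ⟨y, rfl⟩, rfl⟩
      refine ⟨(y : X → ℂ), ?_⟩
      rw [hT, Module.End.mul_apply, (mem_Cs ρ).1 y.2]
      exact (hcoe y).symm
  have h1 : (mult σ p' w : ℂ) = LinearMap.trace ℂ (X → ℂ) T := by
    rw [LinearMap.IsProj.trace (LinearMap.IsIdempotentElem.isProj_range _ hid), hrange,
      Submodule.finrank_map_subtype_eq]
    rfl
  have h2 : T = ((Fintype.card p'.W : ℂ)⁻¹ * (Fintype.card p.W : ℂ)⁻¹) •
      ∑ t, ∑ v, chi p' w (-t) • ρ (emb hQ p (xr p' t) * xr p v) := by
    simp only [hT, wP, smul_mul_assoc, mul_smul_comm, smul_smul, Finset.sum_mul, Finset.mul_sum,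
      Finset.smul_sum, chi_zero, AddChar.zero_apply, one_smul, map_mul]
    rw [Finset.sum_comm]
    refine Finset.sum_congr rfl fun t _ => Finset.sum_congr rfl fun v _ => ?_
    congr 1
    ring
  rw [h2, map_smul, map_sum] at h1
  simp only [map_sum, map_smul, ρ, trace_prm, smul_eq_mul] at h1
  refine Nat.cast_injective (R := ℂ) ?_
  push_cast
  rw [h1]
  field_simp [card_W_ne_zero p, card_W_ne_zero p']
  rw [Finset.sum_filter]
  have e : ∀ t : p'.W, ∑ v : p.W,
      chi p' w (-t) * ((Finset.univ.filter fun x : X => (emb hQ p (xr p' t) * xr p v) • x = x).card : ℂ) =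
        ∑ x : X, if t ∈ Tt hQ p p' x then (Nat.card (Ru p x) : ℂ) * chi p' w (-t) else 0 := by
    intro t
    simp only [← Finset.mul_sum, Finset.card_filter, Nat.cast_sum]
    rw [Finset.sum_comm, Finset.mul_sum]
    refine Finset.sum_congr rfl fun x _ => ?_
    by_cases ht : t ∈ Tt hQ p p' x
    · rw [if_pos ht, mul_comm]
      congr 1
      rw [← Nat.cast_sum, ← Finset.card_filter]
      congr 1
      have ht' : orb p (emb hQ p (xr p' t) • x) = orb p x := ht
      obtain ⟨v₀, hv₀⟩ : ∃ v₀, xr p v₀ • (emb hQ p (xr p' t) • x) = x :=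
        (mem_orb p).1 (ht' ▸ self_mem_orb p x)
      obtain ⟨v₁, rfl⟩ := (apW (xr p' t)).surjective v₀
      rw [← mul_smul, ← emb_xr p hQ] at hv₀
      rw [← Fintype.card_subtype, Nat.card_eq_fintype_card]
      refine Fintype.card_congr (Equiv.subtypeEquiv (Equiv.subRight v₁) fun v => ?_)
      show (emb hQ p (xr p' t) * xr p v) • x = x ↔ v - v₁ ∈ Ru p x
      rw [mem_Ru, sub_eq_add_neg, add_comm, xr_add, mul_smul (xr p (-v₁)), xr_neg, inv_smul_eq_iff]
      conv_lhs => arg 2; rw [← hv₀]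
      rw [mul_smul, mul_smul, smul_left_cancel_iff]
    · rw [if_neg ht]
      refine mul_eq_zero_of_right _ (Finset.sum_eq_zero fun v _ => ?_)
      rw [Nat.cast_eq_zero, if_neg]
      intro hv
      refine ht ?_
      show orb p (emb hQ p (xr p' t) • x) = orb p x
      conv_rhs => rw [← hv, mul_smul, orb_map p hQ, orb_xr, ← orb_map p hQ]
  rw [Finset.sum_congr rfl fun t _ => e t, Finset.sum_comm]
  refine Finset.sum_congr rfl fun x _ => ?_
  rw [← Finset.sum_filter, ← Finset.mul_sum]
  have h3 : ∑ t ∈ Finset.univ.filter (fun t : p'.W => t ∈ Tt hQ p p' x), chi p' w (-t) =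
      ∑ t : Tt hQ p p' x, chi p' w t := by
    rw [Finset.sum_subtype (p := fun t => t ∈ Tt hQ p p' x) _ (by simp)]
    exact Fintype.sum_equiv (Equiv.neg (Tt hQ p p' x)) _ _ fun t => by simp
  rw [h3, sum_chi_sub]
  push_cast
  split_ifs <;> ring

include hQ in
/-- If every orbit's weights lie on one line, only the zero weight occurs. -/
theorem no_weights_of_lines (hW : 5 ≤ finrank F p.W)
    (hline : ∀ x : X, ∃ l : p.W, ∀ v ∈ Au p x, v ∈ Submodule.span F {l}) (u : p.W) (hu : u ≠ 0) :
    mult (prm Q X) p u = 0 := by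
  obtain ⟨p'⟩ := exists_hp (p.nd hQ) (by omega)
  have hR := p.nd hQ
  have hd := p'.finrank_W hR
  obtain ⟨w, hw0, hQw⟩ := (p'.nd hR).exists_singular (by omega)
  set ρ := prm Q X
  set a := p'.e
  set fam : Finset X := Finset.univ.filter fun x : X => ∃ y ∈ Au p x, polar (restr Q p.W) a y ≠ 0
  have hT0 : ∀ x ∈ fam, ∀ t ∈ Tt hQ p p' x, t = 0 := by
    intro x hx t ht
    obtain ⟨y, hy, hay⟩ := (Finset.mem_filter.1 hx).2
    obtain ⟨l, hl⟩ := hline x
    obtain ⟨c, hc⟩ := Submodule.mem_span_singleton.1 (hl y hy)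
    obtain ⟨c', hc'⟩ := Submodule.mem_span_singleton.1 (hl _ (Tt_Au hQ p p' ht hy))
    have e := apW_xr p p' t y
    have hal : c' = c := by
      have h1 := congrArg (polar (restr Q p.W) a) hc'
      rw [e] at h1
      simp only [polar_add_right, polar_sub_right, polar_smul_right', polar_self', a, p'.he, p'.e_w t,
        mul_zero, add_zero, sub_zero] at h1
      rw [← hc, polar_smul_right'] at h1
      have hl0 : polar (restr Q p.W) p'.e l ≠ 0 := fun h => hay (by
        rw [← hc, polar_smul_right', show polar (restr Q p.W) a l = 0 from h, mul_zero])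
      exact mul_right_cancel₀ hl0 h1
    rw [← hc', hal, hc] at e
    have h2 := congrArg (fun z => z - polar (restr Q p.W) p'.f z • p'.e -
      polar (restr Q p.W) p'.e z • p'.f) e
    simp only [polar_add_right, polar_sub_right, polar_smul_right', polar_self', p'.he, p'.f_w t,
      p'.e_w t, p'.hfe] at h2
    have h3 : polar (restr Q p.W) p'.e y • (t : p.W) = 0 := by
      rw [← sub_eq_zero] at h2
      rw [← h2]
      module
    exact Subtype.ext ((smul_eq_zero.1 h3).resolve_left hay)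
  have hup := mult_cRep_le hQ p p' ρ hw0
  have heq := mult_cRep_mul hQ p p' (X := X) w
  set G := Finset.univ.filter (fun x : X => ∀ t ∈ Tt hQ p p' x, chi p' w t = 1)
  have hfam : fam ⊆ G := fun x hx => Finset.mem_filter.2
    ⟨Finset.mem_univ _, fun t ht => by rw [hT0 x hx t ht, AddChar.map_zero_eq_one]⟩
  have hterm : ∀ x : X, Nat.card (Ru p x) ≤ Nat.card (Ru p x) * Nat.card (Tt hQ p p' x) :=
    fun x => Nat.le_mul_of_pos_right _ Nat.card_pos
  by_cases hms : mult ρ p (w : p.W) = 0
  · by_contra hmu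
    set y := p'.f + restr Q p.W u • p'.e with hy
    have hay : polar (restr Q p.W) a y = 1 := by
      rw [hy, polar_add_right, polar_smul_right', p'.hef, polar_self', p'.he]; ring
    have hQy : Q (y : V) = Q (u : V) := by
      rw [← restr_apply, ← restr_apply, hy, map_add_polar, qmap_smul, polar_smul_right', p'.he, p'.hf,
        p'.hfe]
      ring
    have hy0 : y ≠ 0 := fun h => by rw [h, polar_zero_right] at hay; exact zero_ne_one hay
    have hmy : mult ρ p y ≠ 0 := by rwa [mult_eq_of_norm ρ p hQ hW hy0 hu hQy]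
    rw [mult_eq_card_orbs] at hmy
    obtain ⟨O, hO⟩ := Finset.card_ne_zero.1 hmy
    obtain ⟨x, hx, -⟩ := (mem_orbs p).1 hO
    have hxf : x ∈ fam :=
      Finset.mem_filter.2 ⟨Finset.mem_univ _, y, hx, by rw [hay]; exact one_ne_zero⟩
    have hσ0 : mult (cRep (prm Q X) hQ p) p' w = 0 := Nat.le_zero.1 (hup.trans hms.le)
    rw [hσ0, zero_mul, zero_mul] at heq
    have := (Finset.sum_eq_zero_iff.1 heq.symm) x (hfam hxf)
    exact absurd this (Nat.mul_ne_zero Nat.card_pos.ne' Nat.card_pos.ne')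
  exfalso
  set S : Finset p.W :=
    Finset.univ.filter fun v => restr Q p.W v = 0 ∧ polar (restr Q p.W) a v ≠ 0
  have hS : (Nat.card F - 1) * Fintype.card p'.W ≤ S.card := by
    let f : {l : F // l ≠ 0} × p'.W → p.W := fun lt =>
      (lt.1 : F) • (p'.f + (lt.2 : p.W) + (-restr Q p.W (lt.2 : p.W)) • p'.e)
    have hf1 : ∀ lt, polar (restr Q p.W) a (f lt) = lt.1 := fun lt => by
      simp [f, a, polar_smul_right', polar_add_right, p'.hef, p'.e_w, polar_self', p'.he]
    have hinj : Function.Injective f := fun lt lt' h => by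
      have e1 : (lt.1 : F) = lt'.1 := by rw [← hf1 lt, h, hf1 lt']
      have e2 := congrArg (fun z => z - polar (restr Q p.W) p'.f z • p'.e -
        polar (restr Q p.W) p'.e z • p'.f) h
      simp only [f, polar_smul_right', polar_add_right, p'.hef, p'.hfe, p'.e_w, p'.f_w, polar_self',
        p'.he, p'.hf] at e2
      refine Prod.ext (Subtype.ext e1) (Subtype.ext (smul_right_injective _ lt.1.2 ?_))
      show (lt.1 : F) • (lt.2 : p.W) = (lt.1 : F) • (lt'.2 : p.W)
      rw [← e1] at e2
      rw [← sub_eq_zero] at e2 ⊢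
      rw [← e2]
      module
    have hc : Fintype.card ({l : F // l ≠ 0} × p'.W) = (Nat.card F - 1) * Fintype.card p'.W := by
      rw [Fintype.card_prod, Fintype.card_subtype_compl, Fintype.card_subtype_eq,
        Nat.card_eq_fintype_card]
    rw [← hc, ← Finset.card_univ, ← Finset.card_image_of_injective _ hinj]
    refine Finset.card_le_card fun v hv => ?_
    obtain ⟨lt, -, rfl⟩ := Finset.mem_image.1 hv
    refine Finset.mem_filter.2 ⟨Finset.mem_univ _, ?_, by rw [hf1]; exact lt.1.2⟩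
    simp [f, qmap_smul, map_add_polar, polar_add_left, polar_smul_right', p'.he, p'.hf, p'.hfe,
      p'.f_w, polar_comm (⇑(restr Q p.W)) ((lt.2 : p.W)) p'.e, p'.e_w]
    ring
  have hS1 : (∑ v ∈ S, mult ρ p v) * Fintype.card p.W ≤
      (Nat.card F - 1) * ∑ x ∈ fam, Nat.card (Ru p x) := by
    rw [sum_mult_mul, Finset.mul_sum]
    rw [← Finset.sum_subset (Finset.subset_univ fam) fun x _ hx => by
      rw [Finset.card_eq_zero.2 (Finset.filter_eq_empty_iff.2 fun v hv hvx => hx
        (Finset.mem_filter.2 ⟨Finset.mem_univ _, v, hvx, (Finset.mem_filter.1 hv).2.2⟩)), zero_mul]]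
    refine Finset.sum_le_sum fun x _ => Nat.mul_le_mul_right _ ?_
    obtain ⟨l, hl⟩ := hline x
    have hc : Fintype.card {c : F // c ≠ 0} = Nat.card F - 1 := by
      rw [Fintype.card_subtype_compl, Fintype.card_subtype_eq, Nat.card_eq_fintype_card]
    rw [← hc, ← Finset.card_univ]
    refine (Finset.card_le_card (t := Finset.univ.image fun c : {c : F // c ≠ 0} => (c : F) • l)
      fun v hv => ?_).trans Finset.card_image_le
    obtain ⟨hvS, hvA⟩ := Finset.mem_filter.1 hv
    obtain ⟨c, rfl⟩ := Submodule.mem_span_singleton.1 (hl v hvA)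
    refine Finset.mem_image.2 ⟨⟨c, fun hc => (Finset.mem_filter.1 hvS).2.2 ?_⟩, Finset.mem_univ _, rfl⟩
    rw [hc, zero_smul, polar_zero_right]
  have hSm : ∑ v ∈ S, mult ρ p v = S.card * mult ρ p (w : p.W) := by
    rw [← smul_eq_mul, ← Finset.sum_const]
    refine Finset.sum_congr rfl fun v hv => ?_
    obtain ⟨hv1, hv2⟩ := (Finset.mem_filter.1 hv).2
    exact mult_eq_of_norm ρ p hQ hW (fun h => hv2 (by rw [h, polar_zero_right]))
      (fun h => hw0 (Subtype.ext h)) (hv1.trans hQw.symm)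
  have hfsum : Fintype.card p'.W * mult ρ p (w : p.W) * Fintype.card p.W ≤
      ∑ x ∈ fam, Nat.card (Ru p x) := by
    have hq1 : 0 < Nat.card F - 1 := by
      have : 1 < Nat.card F := Finite.one_lt_card
      omega
    refine Nat.le_of_mul_le_mul_left ?_ hq1
    refine le_trans ?_ hS1
    rw [hSm, ← mul_assoc, ← mul_assoc]
    exact Nat.mul_le_mul_right _ (Nat.mul_le_mul_right _ hS)
  rw [mult_eq_card_orbs] at hms
  obtain ⟨O, hO⟩ := Finset.card_ne_zero.1 hms
  obtain ⟨x, hx, -⟩ := (mem_orbs p).1 hO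
  obtain ⟨l, hl⟩ := hline x
  obtain ⟨c, hc⟩ := Submodule.mem_span_singleton.1 (hl _ hx)
  have hw' : (w : p.W) ≠ 0 := fun h => hw0 (Subtype.ext h)
  have hc0 : c ≠ 0 := fun h => hw' (by rw [← hc, h, zero_smul])
  have hlw : ∀ v ∈ Au p x, ∃ s : F, v = s • (w : p.W) := fun v hv => by
    obtain ⟨s, hs⟩ := Submodule.mem_span_singleton.1 (hl v hv)
    exact ⟨s * c⁻¹, by rw [← hc, smul_smul, inv_mul_cancel_right₀ hc0, hs]⟩
  have hxf : x ∉ fam := fun h => by
    obtain ⟨y, hy, hay⟩ := (Finset.mem_filter.1 h).2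
    obtain ⟨s, rfl⟩ := hlw y hy
    exact hay (by rw [polar_smul_right', p'.e_w w, mul_zero])
  have hxG : x ∈ G := by
    refine Finset.mem_filter.2 ⟨Finset.mem_univ _, fun t ht => ?_⟩
    obtain ⟨s, hs⟩ := hlw _ (Tt_Au hQ p p' ht hx)
    rw [apW_xr, p'.e_w w] at hs
    have hf := congrArg (polar (restr Q p.W) p'.f) hs
    simp only [polar_add_right, polar_sub_right, polar_smul_right', p'.f_w w, p'.hfe, zero_add,
      mul_one, zero_mul, mul_zero, sub_zero] at hf
    rw [chi_comm, chi_apply, hf, AddChar.map_zero_eq_one]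
  have hlt : ∑ x ∈ fam, Nat.card (Ru p x) <
      ∑ x ∈ G, Nat.card (Ru p x) * Nat.card (Tt hQ p p' x) := by
    refine lt_of_le_of_lt (Finset.sum_le_sum fun x _ => hterm x) ?_
    exact Finset.sum_lt_sum_of_subset hfam hxG hxf (Nat.mul_pos Nat.card_pos Nat.card_pos)
      fun _ _ _ => Nat.zero_le _
  rw [← heq] at hlt
  refine absurd (lt_of_le_of_lt hfsum hlt) (not_lt.2 ?_)
  rw [mul_comm (Fintype.card p'.W)]
  exact Nat.mul_le_mul_right _ (Nat.mul_le_mul_right _ hup)

end Cfsg.Agent.H53.OmIdx
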