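import Cfsg.Agent.H53.OmIdx.Torus
import Cfsg.Agent.H53.OmLow.Final

/-!
A stabiliser of a point and a totally singular subspace through it has no characters of
`p`-power order.
-/

set_option autoImplicit false
set_option linter.unusedSectionVars false

namespace Cfsg.Agent.H53.OmIdx

open QuadraticMap Module
open Cfsg.Agent.Orthogonal
open Cfsg.Agent.H53.OmLow
open scoped commutatorElement

attribute [local instance] Fintype.ofFinite Classical.propDecidable

variable {F V : Type*} [Field F] [Finite F] [AddCommGroup V] [Module F V] [FiniteDimensional F V]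
variable {R : QuadraticForm F V}

theorem sg_mapsTo {M : Submodule F V} (hM : TotSing R M) {a t v : V} (ha : R a = 0)
    (hat : polar R a t = 0) (haM : a ∈ M) (hv : v ∈ M) : ap (sg a t ha hat) v ∈ M := by
  show ((sie a t ha hat : O R) : V ≃ₗ[F] V) v ∈ M
  rw [sie_app, hM.polar_eq haM hv, zero_smul, sub_zero, mul_zero, sub_zero]
  exact M.add_mem hv (M.smul_mem _ haM)

/-- A power of the characteristic annihilating an element makes it unipotent. -/
theorem exists_fixed_mod {p j : ℕ} [Fact p.Prime] [CharP F p] (T : V →ₗ[F] V) (hT : T ^ p ^ j = 1)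
    {M₀ M : Submodule F V} (hTM : ∀ v ∈ M, T v ∈ M) (hne : ∃ v ∈ M, v ∉ M₀) :
    ∃ c ∈ M, c ∉ M₀ ∧ T c - c ∈ M₀ := by
  obtain ⟨v, hvM, hv0⟩ := hne
  have : Nontrivial V := ⟨v, 0, fun h => hv0 (h ▸ M₀.zero_mem)⟩
  have hch : CharP (Module.End F V) p := charP_of_injective_algebraMap' F p
  set N : Module.End F V := (T : Module.End F V) - 1 with hN
  have hnil : N ^ p ^ j = 0 := by
    rw [hN, sub_pow_char_pow_of_commute p j (Commute.one_right (T : Module.End F V)), hT, one_pow, sub_self]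
  have hmem : ∀ i, (N ^ i) v ∈ M := fun i => by
    induction i with
    | zero => simpa using hvM
    | succ i ih =>
      rw [pow_succ', Module.End.mul_apply, hN, LinearMap.sub_apply, Module.End.one_apply]
      exact M.sub_mem (hTM _ ih) ih
  obtain ⟨i, hi, hi'⟩ : ∃ i, (N ^ i) v ∉ M₀ ∧ (N ^ (i + 1)) v ∈ M₀ := by
    by_contra hne
    push Not at hne
    have : ∀ i, (N ^ i) v ∉ M₀ := fun i => by
      induction i with
      | zero => simpa using hv0
      | succ i ih => exact hne i ih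
    exact this (p ^ j) (by rw [hnil]; exact M₀.zero_mem)
  refine ⟨_, hmem i, hi, ?_⟩
  rwa [pow_succ', Module.End.mul_apply] at hi'

/-- An isometry of a hyperbolic plane fixing a singular vector, or a line and of determinant one. -/
theorem eq_one_of_small (hR : Nondeg R) (p₁ : HP R) (p₂ : HP (restr R p₁.W)) {k : sieGroup R}
    (h1 : ap k p₁.e = p₁.e) (h2 : ap k p₁.f = p₁.f) (h3 : ap k (p₂.e : V) = (p₂.e : V))
    (h4 : ap k (p₂.f : V) = (p₂.f : V))
    (hrest : (finrank F p₂.W = 1 ∧ (2 : F) ≠ 0) ∨ (finrank F p₂.W = 2 ∧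
      ∃ c : p₂.W, c ≠ 0 ∧ restr (restr R p₁.W) p₂.W c = 0 ∧
        ap k ((c : p₁.W) : V) = ((c : p₁.W) : V))) :
    k = 1 := by
  have hR1 := p₁.nd hR
  have hR2 := p₂.nd hR1
  have hW : ∀ w : p₂.W, ∃ w' : p₂.W, ap k ((w : p₁.W) : V) = ((w' : p₁.W) : V) := by
    intro w
    have e : ∀ y : V, ap k y = y → polar R y ((w : p₁.W) : V) = 0 →
        polar R y (ap k ((w : p₁.W) : V)) = 0 := fun y hy h => by
      conv_lhs => arg 2; rw [← hy]
      exact (O.polar_app _ _ _).trans h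
    have hm : ap k ((w : p₁.W) : V) ∈ p₁.W :=
      p₁.mem_W.2 ⟨e _ h1 (p₁.e_w _), e _ h2 (p₁.f_w _)⟩
    refine ⟨⟨⟨_, hm⟩, p₂.mem_W.2 ⟨?_, ?_⟩⟩, rfl⟩
    · rw [polar_restr]; exact e _ h3 (by rw [← polar_restr]; exact p₂.e_w w)
    · rw [polar_restr]; exact e _ h4 (by rw [← polar_restr]; exact p₂.f_w w)
  have key : (∀ w : p₂.W, ap k ((w : p₁.W) : V) = ((w : p₁.W) : V)) → k = 1 := by
    intro hfix
    refine Subtype.ext (p₁.ext_hp h1 h2 fun x hx => ?_)
    show ap k x = x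
    obtain ⟨w, hw⟩ : ∃ w : p₂.W, x = ((w : p₁.W) : V) +
        polar (restr R p₁.W) p₂.f ⟨x, hx⟩ • (p₂.e : V) + polar (restr R p₁.W) p₂.e ⟨x, hx⟩ • (p₂.f : V) :=
      ⟨⟨_, p₂.split ⟨x, hx⟩⟩, by simp only [Submodule.coe_sub, Submodule.coe_smul]; abel⟩
    rw [hw, map_add, map_add, map_smul, map_smul, hfix, h3, h4]
  refine key ?_
  rcases hrest with ⟨hd, h20⟩ | ⟨hd, c, hc0, hc, hkc⟩
  · obtain ⟨w₀, hw₀, hspan⟩ := finrank_eq_one_iff'.1 hd
    obtain ⟨w', hw'⟩ := hW w₀
    obtain ⟨s, rfl⟩ := hspan w'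
    rw [Submodule.coe_smul, Submodule.coe_smul] at hw'
    set z : V := ((w₀ : p₁.W) : V)
    have hq0 : R z ≠ 0 := by
      intro h0
      refine hw₀ (hR2 w₀ fun y => ?_)
      obtain ⟨t, rfl⟩ := hspan y
      rw [polar_smul_right', polar_self', show restr (restr R p₁.W) p₂.W w₀ = 0 from h0]
      ring
    have hs2 : s ^ 2 = 1 := by
      have := O.map_app (k : O R) z
      rw [show ((k : O R) : V ≃ₗ[F] V) z = s • z from hw', qmap_smul] at this
      exact mul_right_cancel₀ hq0 (this.trans (one_mul _).symm)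
    rcases sq_eq_one_iff.1 hs2 with rfl | rfl
    · intro w
      obtain ⟨t, rfl⟩ := hspan w
      rw [Submodule.coe_smul, Submodule.coe_smul, map_smul, hw', one_smul]
    · exfalso
      have hk : (k : O R) = rO R z := by
        have he : ∀ y : V, polar R z y = 0 → (rO R z : V ≃ₗ[F] V) y = y := fun y hy => by
          rw [rO_app, hy, mul_zero, zero_smul, sub_zero]
        have hz1 : polar R z p₁.e = 0 := p₁.w_e _
        have hz2 : polar R z p₁.f = 0 := p₁.w_f _
        refine p₁.ext_hp (h1.trans (he _ hz1).symm) (h2.trans (he _ hz2).symm) fun x hx => ?_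
        obtain ⟨t, ht⟩ := hspan ⟨_, p₂.split ⟨x, hx⟩⟩
        have hx' : x = t • z + polar (restr R p₁.W) p₂.f ⟨x, hx⟩ • (p₂.e : V) +
            polar (restr R p₁.W) p₂.e ⟨x, hx⟩ • (p₂.f : V) := by
          have := congrArg (fun w : p₂.W => ((w : p₁.W) : V)) ht
          simp only [Submodule.coe_smul, Submodule.coe_sub] at this
          rw [this]; abel
        have hz3 : polar R z (p₂.e : V) = 0 := by rw [← polar_restr]; exact p₂.w_e w₀
        have hz4 : polar R z (p₂.f : V) = 0 := by rw [← polar_restr]; exact p₂.w_f w₀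
        show ap k x = _
        rw [hx', map_add, map_add, map_smul, map_smul, map_smul, h3, h4, hw', map_add, map_add, map_smul,
          map_smul, map_smul, he _ hz3, he _ hz4, rO_self hq0, neg_one_smul]
      have := hom_sieGroup_eq_one h20 (detSign R hR h20) k.2
      rw [hk, detSign_rO hR h20 hq0] at this
      exact absurd this (by decide)
  · obtain ⟨d, hd', hcd⟩ := hR2.exists_partner hc0 hc
    let q₃ : HP (restr (restr R p₁.W) p₂.W) := ⟨c, d, hc, hd', hcd⟩
    have hbot : q₃.W = ⊥ := by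
      refine Submodule.finrank_eq_zero.1 ?_
      have := q₃.finrank_W hR2
      omega
    have hrep : ∀ w : p₂.W, w = polar (restr (restr R p₁.W) p₂.W) d w • c +
        polar (restr (restr R p₁.W) p₂.W) c w • d := fun w => by
      have := q₃.split w
      rw [hbot, Submodule.mem_bot, sub_sub, sub_eq_zero] at this
      exact this
    obtain ⟨d', hkd⟩ := hW d
    have hq' : restr (restr R p₁.W) p₂.W d' = 0 := by
      show R ((d' : p₁.W) : V) = 0
      rw [← hkd, O.map_app]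
      exact hd'
    have hcd' : polar (restr (restr R p₁.W) p₂.W) c d' = 1 := by
      rw [polar_restr, polar_restr, ← hkc, ← hkd]
      rw [polar_restr, polar_restr] at hcd
      exact (O.polar_app _ _ _).trans hcd
    have hdd : d' = d := by
      have e := hrep d'
      rw [hcd', one_smul] at e
      have h0 := hq'
      rw [e, map_add_polar, qmap_smul, hc, hd', polar_smul_left', hcd, mul_zero, add_zero, zero_add,
        mul_one] at h0
      rw [e, h0, zero_smul, zero_add]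
    intro w
    rw [hrep w, Submodule.coe_add, Submodule.coe_add, Submodule.coe_smul, Submodule.coe_smul,
      Submodule.coe_smul, Submodule.coe_smul, map_add, map_smul, map_smul, hkc, hkd, hdd]

section Gen

variable (hR : Nondeg R) {p : ℕ} [Fact p.Prime] [CharP F p]
variable (p₁ : HP R) {M : Submodule F V} (hM : TotSing R M) (haM : p₁.e ∈ M)
variable {S : Subgroup (sieGroup R)}
  (hS : ∀ k : sieGroup R, k ∈ S ↔ ap k p₁.e = p₁.e ∧ ∀ v ∈ M, ap k v ∈ M)
variable (φ : S →* ℂˣ) (hφ : ∀ k, φ k ^ p = 1)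

include hR hM haM hS hφ

theorem comm_eq_one {k l : sieGroup R} (hk : k ∈ S) (hl : l ∈ S) :
    ∃ h : ⁅k, l⁆ ∈ S, φ ⟨_, h⟩ = 1 := by
  refine ⟨(⁅(⟨k, hk⟩ : S), (⟨l, hl⟩ : S)⁆).2, ?_⟩
  show φ ⁅(⟨k, hk⟩ : S), (⟨l, hl⟩ : S)⁆ = 1
  rw [map_commutatorElement, commutatorElement_eq_one_iff_mul_comm, mul_comm]

set_option maxHeartbeats 4000000 in
/-- The character is trivial. -/
theorem char_eq_one (hq : ∃ t : F, t ≠ 0 ∧ t ^ 2 ≠ 1) (hWd : 3 ≤ finrank F p₁.W)
    (hsmall : (finrank F p₁.W = 3 ∧ finrank F M = 2 ∧ (2 : F) ≠ 0) ∨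
      (finrank F p₁.W = 4 ∧ finrank F M = 3))
    (k : S) : φ k = 1 := by
  -- reduce to an element of prime power order
  have : Finite (sieGroup R) := finite_sie R
  suffices hpow : ∀ (k : S) (j : ℕ), k ^ p ^ j = 1 → φ k = 1 by
    obtain ⟨j, m, hm, hkm⟩ : ∃ j m : ℕ, ¬ p ∣ m ∧ orderOf k = p ^ j * m := by
      obtain ⟨j, m, hm, e⟩ := Nat.exists_eq_pow_mul_and_not_dvd
        (orderOf_pos_iff.2 (isOfFinOrder_of_finite k)).ne' p (Fact.out (p := p.Prime)).ne_one
      exact ⟨j, m, hm, e⟩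
    have h1 : (φ k) ^ m = 1 := by
      rw [← map_pow]
      refine hpow _ j ?_
      rw [← pow_mul, mul_comm, ← hkm, pow_orderOf_eq_one]
    exact orderOf_eq_one_iff.1 (Nat.eq_one_of_dvd_coprimes
      ((Nat.Prime.coprime_iff_not_dvd (Fact.out (p := p.Prime))).2 hm) (orderOf_dvd_of_pow_eq_one (hφ k))
      (orderOf_dvd_of_pow_eq_one h1))
  rintro ⟨k, hk⟩ j hkj
  obtain ⟨hka, hkM⟩ := (hS k).1 hk
  set T : V →ₗ[F] V := (ap k : V →ₗ[F] V)
  have hTj : T ^ p ^ j = 1 := by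
    have e : ∀ (i : ℕ) (v : V), (T ^ i) v = ap (k ^ i) v := fun i => by
      induction i with
      | zero => intro v; rfl
      | succ i ih => intro v; rw [pow_succ', Module.End.mul_apply, pow_succ' k, ap_mul, ih]; rfl
    refine LinearMap.ext fun v => ?_
    rw [e, show k ^ p ^ j = 1 from congrArg Subtype.val hkj]
    rfl
  obtain ⟨t₀, ht0, ht1⟩ := hq
  have hM2 : 2 ≤ finrank F M := by rcases hsmall with h | h <;> omega
  obtain ⟨c', hcM', hca, hkc'⟩ := exists_fixed_mod (p := p) T hTj (M₀ := Submodule.span F {p₁.e}) hkM (by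
    by_contra hne
    push Not at hne
    have := Submodule.finrank_mono (show M ≤ Submodule.span F {p₁.e} from hne)
    rw [finrank_span_singleton p₁.e_ne] at this
    omega)
  have hperp : ∀ v ∈ M, polar R p₁.e v = 0 := fun v hv => hM.polar_eq haM hv
  have hsplit := p₁.split c'
  rw [hperp c' hcM', zero_smul, sub_zero] at hsplit
  set c : p₁.W := ⟨_, hsplit⟩
  have hcM : (c : V) ∈ M := M.sub_mem hcM' (M.smul_mem _ haM)
  have hc0 : c ≠ 0 := fun h => hca (Submodule.mem_span_singleton.2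
    ⟨polar R p₁.f c', (sub_eq_zero.1 (congrArg Subtype.val h : (c : V) = 0)).symm⟩)
  obtain ⟨x, hkc⟩ : ∃ x : F, ap k (c : V) = (c : V) + x • p₁.e := by
    obtain ⟨x, hx⟩ := Submodule.mem_span_singleton.1 hkc'
    refine ⟨x, ?_⟩
    show ap k (c' - _) = c' - _ + _
    rw [map_sub, map_smul, hka]
    have : ap k c' = c' + x • p₁.e := by rw [hx]; show ap k c' = c' + (T c' - c'); rw [add_sub_cancel]; rfl
    rw [this]; abel
  obtain ⟨d, hd, hcd⟩ := (p₁.nd hR).exists_partner hc0 (hM _ hcM)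
  let p₂ : HP (restr R p₁.W) := ⟨c, d, hM _ hcM, hd, hcd⟩
  have hd2 := p₂.finrank_W (p₁.nd hR)
  -- a third vector of the subspace
  have hc2 : finrank F M = 3 → ∃ c₂ : p₂.W, c₂ ≠ 0 ∧ ((c₂ : p₁.W) : V) ∈ M ∧
      ∃ α β : F, ap k ((c₂ : p₁.W) : V) = ((c₂ : p₁.W) : V) + α • p₁.e + β • (c : V) := by
    intro h3
    obtain ⟨y, hyM, hy0, hky⟩ := exists_fixed_mod (p := p) T hTj
      (M₀ := Submodule.span F {p₁.e, (c : V)}) hkM (by
      by_contra hne
      push Not at hne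
      have h1 := Submodule.finrank_mono (show M ≤ Submodule.span F {p₁.e, (c : V)} from hne)
      have h2 : finrank F (Submodule.span F ({p₁.e, (c : V)} : Set V)) ≤ 2 := by
        classical
        refine (finrank_span_le_card _).trans ?_
        rw [Set.toFinset_insert, Set.toFinset_singleton]
        exact Finset.card_le_two
      omega)
    have hys := p₁.split y
    rw [hperp y hyM, zero_smul, sub_zero] at hys
    have hy2 := p₂.split ⟨_, hys⟩
    have hcy : polar (restr R p₁.W) c ⟨_, hys⟩ = 0 := by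
      rw [polar_restr]
      exact hM.polar_eq hcM (M.sub_mem hyM (M.smul_mem _ haM))
    rw [show polar (restr R p₁.W) p₂.e ⟨_, hys⟩ = 0 from hcy, zero_smul, sub_zero] at hy2
    set σ := polar (restr R p₁.W) p₂.f ⟨_, hys⟩
    refine ⟨⟨_, hy2⟩, fun h => hy0 ?_, ?_, ?_⟩
    · have h' : y - polar R p₁.f y • p₁.e - σ • (c : V) = 0 :=
        congrArg (fun w : p₂.W => ((w : p₁.W) : V)) h
      exact Submodule.mem_span_pair.2 ⟨polar R p₁.f y, σ, by
        rw [sub_sub, sub_eq_zero] at h'; exact h'.symm⟩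
    · exact M.sub_mem (M.sub_mem hyM (M.smul_mem _ haM)) (M.smul_mem _ hcM)
    · obtain ⟨α, β, hαβ⟩ := Submodule.mem_span_pair.1 hky
      refine ⟨α - σ * x, β, ?_⟩
      show ap k (y - polar R p₁.f y • p₁.e - σ • (c : V)) = y - polar R p₁.f y • p₁.e - σ • (c : V) + _ + _
      have : ap k y = y + α • p₁.e + β • (c : V) := by
        rw [add_assoc, hαβ]; show ap k y = y + (T y - y); rw [add_sub_cancel]; rfl
      rw [map_sub, map_sub, map_smul, map_smul, hka, hkc, this]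
      module
  have hWd2 : finrank F p₂.W = 1 ∨ finrank F p₂.W = 2 := by rcases hsmall with h | h <;> omega
  obtain ⟨z, hz⟩ : ∃ z : p₂.W, restr (restr R p₁.W) p₂.W z ≠ 0 := by
    have : Nontrivial p₂.W := Module.finrank_pos_iff.1 (by omega : 0 < finrank F p₂.W)
    obtain ⟨y, hy⟩ := exists_ne (0 : p₂.W)
    exact exists_anisotropic (p₂.nd (p₁.nd hR)) hy
  -- membership
  have hsgm : ∀ (a t : V) (ha : R a = 0) (hat : polar R a t = 0), a ∈ M → polar R a p₁.e = 0 →
      polar R t p₁.e = 0 → sg a t ha hat ∈ S := fun a t ha hat haM' h1 h2 =>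
    (hS _).2 ⟨sg_fix ha hat h1 h2, fun v hv => sg_mapsTo hM ha hat haM' hv⟩
  set Pl : HP R := p₁.lift p₂
  have hPW : ∀ w : p₂.W, ((w : p₁.W) : V) ∈ Pl.W := fun w => Pl.mem_W.2
    ⟨by show polar R ((c : p₁.W) : V) _ = 0; rw [← polar_restr]; exact p₂.e_w w,
      by show polar R ((d : p₁.W) : V) _ = 0; rw [← polar_restr]; exact p₂.f_w w⟩
  have hz' : R ((z : p₁.W) : V) ≠ 0 := hz
  set H := hEl Pl (hPW z) t₀
  have haPl : p₁.e ∈ Pl.W := Pl.mem_W.2 ⟨p₁.w_e c, p₁.w_e d⟩
  have hHc : ap H (c : V) = t₀ ^ 2 • (c : V) := hEl_e Pl (hPW z) hz' ht0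
  have hHd : ap H (d : V) = (t₀ ^ 2)⁻¹ • (d : V) := hEl_f Pl (hPW z) hz' ht0
  have hHS : H ∈ S := by
    refine (hS _).2 ⟨hEl_perp Pl (hPW z) hz' ht0 haPl, fun v hv => ?_⟩
    have hvc : polar R (c : V) v = 0 := hM.polar_eq hcM hv
    have hm : v - polar R (d : V) v • (c : V) ∈ Pl.W := by
      have := Pl.split v
      rwa [show polar R Pl.e v = 0 from hvc, zero_smul, sub_zero] at this
    have e : v = (v - polar R (d : V) v • (c : V)) + polar R (d : V) v • (c : V) := by abel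
    rw [e, map_add, hEl_perp Pl (hPW z) hz' ht0 hm, map_smul, hHc]
    exact M.add_mem (M.sub_mem hv (M.smul_mem _ hcM)) (M.smul_mem _ (M.smul_mem _ hcM))
  -- the killed translations
  set Kd : Subgroup (sieGroup R) := (φ.ker).map S.subtype with hKd
  have hμ : t₀ ^ 2 ≠ 0 := pow_ne_zero 2 ht0
  have hμ1 : t₀ ^ 2 - 1 ≠ 0 := sub_ne_zero.2 ht1
  have hcomm : ∀ {k l g : sieGroup R}, k ∈ S → l ∈ S → ⁅k, l⁆ = g → g ∈ Kd := fun {k l g} hk hl e => by
    obtain ⟨h, h1⟩ := comm_eq_one hR p₁ hM haM hS φ hφ hk hl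
    exact e ▸ Subgroup.mem_map.2 ⟨⟨_, h⟩, h1, rfl⟩
  have hcs : ∀ (w : p₂.W) (h : polar R (c : V) ((w : p₁.W) : V) = 0),
      sg (c : V) ((w : p₁.W) : V) (hM _ hcM) h ∈ Kd := by
    intro w h
    have hw' : polar R (c : V) ((t₀ ^ 2 - 1)⁻¹ • ((w : p₁.W) : V)) = 0 := by
      rw [polar_smul_right', h, mul_zero]
    refine hcomm hHS (hsgm _ _ (hM _ hcM) hw' hcM (p₁.w_e c) (by
      rw [polar_smul_left', p₁.w_e, mul_zero])) (comm_sg (hM _ hcM) hw' hμ hHc h ?_)
    rw [map_smul, hEl_perp Pl (hPW z) hz' ht0 (hPW w), smul_smul, ← sub_smul,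
      show t₀ ^ 2 * (t₀ ^ 2 - 1)⁻¹ - (t₀ ^ 2 - 1)⁻¹ = 1 by field_simp, one_smul]
  have hae : polar R p₁.e p₁.e = 0 := by rw [polar_self', p₁.he, mul_zero]
  have has : ∀ (t : p₁.W), sg p₁.e (t : V) p₁.he (p₁.e_w t) ∈ Kd := by
    intro t
    -- multiples of the two axes
    have haxis : ∀ (s : F) (y : p₁.W) (ν : F), ν ≠ 1 → ap H (y : V) = ν • (y : V) →
        sg p₁.e ((s • y : p₁.W) : V) p₁.he (p₁.e_w _) ∈ Kd := by
      intro s y ν hν hy
      have hy' : polar R p₁.e ((s * (ν - 1)⁻¹) • (y : V)) = 0 := by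
        rw [polar_smul_right', p₁.e_w, mul_zero]
      refine hcomm hHS (hsgm _ _ p₁.he hy' haM hae (by rw [polar_smul_left', p₁.w_e, mul_zero]))
        (comm_sg p₁.he hy' one_ne_zero ((hEl_perp Pl (hPW z) hz' ht0 haPl).trans (one_smul F _).symm)
          (p₁.e_w _) ?_)
      rw [one_smul, map_smul, hy, smul_smul, ← sub_smul, Submodule.coe_smul]
      congr 1
      field_simp [sub_ne_zero.2 hν]
    have hc' : ∀ s : F, sg p₁.e ((s • c : p₁.W) : V) p₁.he (p₁.e_w _) ∈ Kd := fun s =>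
      haxis s c _ ht1 hHc
    have hd' : ∀ s : F, sg p₁.e ((s • d : p₁.W) : V) p₁.he (p₁.e_w _) ∈ Kd := fun s =>
      haxis s d _ (fun e => ht1 (inv_eq_one.1 e)) hHd
    have hw3 : ∀ w : p₂.W, sg p₁.e ((w : p₁.W) : V) p₁.he (p₁.e_w _) ∈ Kd := by
      intro w
      set σ := restr (restr R p₁.W) p₂.W w
      have h1 : polar R (c : V) (-((w : p₁.W) : V)) = 0 := by
        rw [polar_neg_right, ← polar_restr]
        rw [show polar (restr R p₁.W) c (w : p₁.W) = 0 from p₂.e_w w, neg_zero]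
      have e : sg p₁.e (((w : p₁.W) - σ • c : p₁.W) : V) p₁.he (p₁.e_w _) ∈ Kd := by
        refine hcomm (hsgm _ _ (hM _ hcM) h1 hcM (p₁.w_e c) (by rw [polar_neg_left, p₁.w_e, neg_zero]))
          (hsgm _ _ p₁.he (p₁.e_w d) haM hae (p₁.w_e d))
          (comm_sg p₁.he (p₁.e_w d) one_ne_zero ((sg_fix _ _ (p₁.w_e c)
            (by rw [polar_neg_left, p₁.w_e, neg_zero])).trans (one_smul F _).symm) (p₁.e_w _) ?_)
        show (1 : F) • ((sie (c : V) (-((w : p₁.W) : V)) (hM _ hcM) h1 : O R) : V ≃ₗ[F] V) (d : V) - _ = _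
        rw [sie_app, show polar R (c : V) (d : V) = 1 by rw [← polar_restr]; exact hcd, polar_neg_left,
          show polar R ((w : p₁.W) : V) (d : V) = 0 by rw [← polar_restr]; exact p₂.w_f w,
          QuadraticMap.map_neg, show R ((w : p₁.W) : V) = σ from rfl, Submodule.coe_sub, Submodule.coe_smul]
        module
      have := Kd.mul_mem e (hc' σ)
      rw [sg_mul] at this
      rwa [sg_congr (hu' := p₁.he) (hw' := p₁.e_w (w : p₁.W)) rfl
        (by rw [← Submodule.coe_add, sub_add_cancel])] at this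
    have := Kd.mul_mem (Kd.mul_mem (hw3 ⟨_, p₂.split t⟩) (hc' (polar (restr R p₁.W) p₂.f t)))
      (hd' (polar (restr R p₁.W) p₂.e t))
    rw [sg_mul, sg_mul] at this
    rwa [sg_congr (hu' := p₁.he) (hw' := p₁.e_w t) rfl (by
      simp only [Submodule.coe_sub, Submodule.coe_smul]
      show (t : V) - _ • (c : V) - _ • (d : V) + _ + _ = _
      abel)] at this
  -- strip the translations
  have hk1 : ∃ k₁ : sieGroup R, k₁ = sg p₁.e ((-x) • d : p₁.W) p₁.he (p₁.e_w _) * k ∧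
      k₁ * k⁻¹ ∈ Kd ∧ ap k₁ p₁.e = p₁.e ∧ ap k₁ (c : V) = (c : V) := by
    refine ⟨_, rfl, ?_, ?_, ?_⟩
    · rw [mul_inv_cancel_right]; exact has _
    · rw [ap_mul, hka]; exact sg_fix _ _ hae (p₁.w_e _)
    · rw [ap_mul, hkc, map_add, map_smul,
        show ap (sg p₁.e ((-x) • d : p₁.W) p₁.he (p₁.e_w _)) p₁.e = p₁.e from sg_fix _ _ hae (p₁.w_e _)]
      show ((sie p₁.e (((-x) • d : p₁.W) : V) p₁.he (p₁.e_w _) : O R) : V ≃ₗ[F] V) (c : V) + _ = _
      rw [sie_app, p₁.e_w c, Submodule.coe_smul, polar_smul_left',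
        show polar R (d : V) (c : V) = 1 by rw [← polar_restr]; exact p₂.hfe]
      module
  obtain ⟨k₁, hk₁', hk₁, h1a, h1c⟩ := hk1
  set b' := ap k₁ p₁.f with hb'
  have hab' : polar R p₁.e b' = 1 := by
    conv_lhs => arg 2; rw [← h1a]
    exact (O.polar_app _ _ _).trans p₁.hef
  have htb : polar R p₁.e (p₁.f - b') = 0 := by rw [polar_sub_right, p₁.hef, hab', sub_self]
  have hcb : polar R (p₁.f - b') (c : V) = 0 := by
    have : polar R b' (c : V) = 0 := by
      rw [hb', ← h1c]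
      exact (O.polar_app _ _ _).trans (p₁.f_w c)
    rw [polar_sub_left, p₁.f_w c, this, sub_zero]
  set t₁ := sg p₁.e (p₁.f - b') p₁.he htb with ht₁
  have ht₁K : t₁ ∈ Kd := by
    have hz := p₁.split (p₁.f - b')
    rw [htb, zero_smul, sub_zero] at hz
    rw [ht₁, show sg p₁.e (p₁.f - b') p₁.he htb = sg p₁.e _ p₁.he (p₁.e_w ⟨_, hz⟩) from
      ((sg_add_smul p₁.he htb (-polar R p₁.f (p₁.f - b'))).symm.trans
        (sg_congr rfl (by rw [neg_smul, ← sub_eq_add_neg])))]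
    exact has ⟨_, hz⟩
  have ht₁b : ap t₁ p₁.f = b' := by
    show ((sie p₁.e (p₁.f - b') p₁.he htb : O R) : V ≃ₗ[F] V) p₁.f = b'
    rw [sie_app, p₁.hef, qmap_sub, p₁.hf, polar_sub_left, polar_self', p₁.hf,
      show R b' = 0 by rw [hb', O.map_app]; exact p₁.hf, polar_comm (⇑R) b' p₁.f]
    match_scalars <;> ring
  set k₂ := t₁⁻¹ * k₁ with hk₂
  have h2a : ap k₂ p₁.e = p₁.e := by
    rw [hk₂, ap_mul, h1a]; exact inv_app (sie_fix p₁.he htb)
  have h2b : ap k₂ p₁.f = p₁.f := by rw [hk₂, ap_mul]; exact inv_app ht₁b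
  have h2c : ap k₂ (c : V) = (c : V) := by
    rw [hk₂, ap_mul, h1c]; exact inv_app (sg_fix _ _ (p₁.e_w c) hcb)
  set d' := ap k₂ (d : V) with hd''
  have hd'W : d' ∈ p₁.W := by
    refine p₁.mem_W.2 ⟨?_, ?_⟩
    · conv_lhs => arg 2; rw [← h2a]
      exact (O.polar_app _ _ _).trans (p₁.e_w d)
    · conv_lhs => arg 2; rw [← h2b]
      exact (O.polar_app _ _ _).trans (p₁.f_w d)
  have hcd' : polar R (c : V) d' = 1 := by
    conv_lhs => arg 2; rw [← h2c]
    exact (O.polar_app _ _ _).trans (by rw [← polar_restr]; exact hcd)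
  have hcd0 : polar R (c : V) ((d : V) - d') = 0 := by
    rw [polar_sub_right, hcd', ← polar_restr, show polar (restr R p₁.W) c d = 1 from hcd, sub_self]
  set t₂ := sg (c : V) ((d : V) - d') (hM _ hcM) hcd0 with ht₂
  have ht₂K : t₂ ∈ Kd := by
    set y : p₁.W := ⟨(d : V) - d', p₁.W.sub_mem d.2 hd'W⟩
    have hy := p₂.split y
    rw [show polar (restr R p₁.W) p₂.e y = 0 by rw [polar_restr]; exact hcd0, zero_smul, sub_zero] at hy
    have h' : polar R (c : V) (((y - polar (restr R p₁.W) p₂.f y • c : p₁.W)) : V) = 0 := by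
      rw [← polar_restr]; exact p₂.e_w ⟨_, hy⟩
    rw [ht₂, show sg (c : V) ((d : V) - d') (hM _ hcM) hcd0 = sg (c : V) _ (hM _ hcM) h' from
      ((sg_add_smul (hM _ hcM) hcd0 (-polar (restr R p₁.W) p₂.f y)).symm.trans
        (sg_congr rfl (by rw [Submodule.coe_sub, Submodule.coe_smul, neg_smul, ← sub_eq_add_neg])))]
    exact hcs ⟨_, hy⟩ _
  have ht₂d : ap t₂ (d : V) = d' := by
    show ((sie (c : V) ((d : V) - d') (hM _ hcM) hcd0 : O R) : V ≃ₗ[F] V) (d : V) = d'
    rw [sie_app, qmap_sub, polar_sub_left, polar_self', show R (d : V) = 0 from hd,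
      show R d' = 0 by rw [hd'', O.map_app]; exact hd, polar_comm (⇑R) d' (d : V),
      show polar R (c : V) (d : V) = 1 by rw [← polar_restr]; exact hcd]
    match_scalars <;> ring
  set k₃ := t₂⁻¹ * k₂ with hk₃
  have hdd0 : polar R ((d : V) - d') p₁.e = 0 := by
    rw [polar_sub_left, p₁.w_e d, polar_comm, (p₁.mem_W.1 hd'W).1, sub_self]
  have hdd1 : polar R ((d : V) - d') p₁.f = 0 := by
    rw [polar_sub_left, p₁.w_f d, polar_comm, (p₁.mem_W.1 hd'W).2, sub_self]
  have h3a : ap k₃ p₁.e = p₁.e := by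
    rw [hk₃, ap_mul, h2a]; exact inv_app (sg_fix _ _ (p₁.w_e c) hdd0)
  have h3b : ap k₃ p₁.f = p₁.f := by
    rw [hk₃, ap_mul, h2b]; exact inv_app (sg_fix _ _ (p₁.w_f c) hdd1)
  have h3c : ap k₃ (c : V) = (c : V) := by
    rw [hk₃, ap_mul, h2c]; exact inv_app (sie_fix (hM _ hcM) hcd0)
  have h3d : ap k₃ (d : V) = (d : V) := by rw [hk₃, ap_mul]; exact inv_app ht₂d
  have hKk : k₃ * k⁻¹ ∈ Kd := by
    rw [hk₃, hk₂, mul_assoc, mul_assoc]
    exact mul_mem (inv_mem ht₂K) (mul_mem (inv_mem ht₁K) hk₁)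
  have hk3 : k₃ = 1 := by
    refine eq_one_of_small hR p₁ p₂ h3a h3b h3c h3d ?_
    rcases hsmall with ⟨h3, -, h20⟩ | ⟨h4, hM3⟩
    · exact Or.inl ⟨by omega, h20⟩
    obtain ⟨c₂, hc₂0, hc₂M, α, β, hkc₂⟩ := hc2 hM3
    refine Or.inr ⟨by omega, c₂, hc₂0, hM _ hc₂M, ?_⟩
    -- the element agrees with the given one modulo the two axes
    obtain ⟨kd, hkd, e⟩ := Subgroup.mem_map.1 hKk
    have hkk : k₃ = ((kd : S) : sieGroup R) * k := by rw [show ((kd : S) : sieGroup R) = k₃ * k⁻¹ from e,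
      inv_mul_cancel_right]
    have hmem : ap k₃ ((c₂ : p₁.W) : V) ∈ M := by
      rw [hkk, ap_mul]; exact ((hS _).1 kd.2).2 _ (hkM _ hc₂M)
    obtain ⟨w', hw'⟩ : ∃ w' : p₂.W, ap k₃ ((c₂ : p₁.W) : V) = ((w' : p₁.W) : V) := by
      have e : ∀ y : V, ap k₃ y = y → polar R y ((c₂ : p₁.W) : V) = 0 →
          polar R y (ap k₃ ((c₂ : p₁.W) : V)) = 0 := fun y hy h => by
        conv_lhs => arg 2; rw [← hy]
        exact (O.polar_app _ _ _).trans h
      refine ⟨⟨⟨_, p₁.mem_W.2 ⟨e _ h3a (p₁.e_w _), e _ h3b (p₁.f_w _)⟩⟩, p₂.mem_W.2 ⟨?_, ?_⟩⟩, rfl⟩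
      · rw [polar_restr]; exact e _ h3c (by rw [← polar_restr]; exact p₂.e_w c₂)
      · rw [polar_restr]; exact e _ h3d (by rw [← polar_restr]; exact p₂.f_w c₂)
    -- translations only add multiples of the axes
    have hmod : ∀ (a t v : V) (ha : R a = 0) (hat : polar R a t = 0), polar R a v = 0 →
        ap (sg a t ha hat) v = v + polar R t v • a := fun a t v ha hat h => by
      show ((sie a t ha hat : O R) : V ≃ₗ[F] V) v = _
      rw [sie_app, h, zero_smul, sub_zero, mul_zero, sub_zero]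
    obtain ⟨A, hA⟩ : ∃ A : Submodule F V, A = Submodule.span F {p₁.e, (c : V)} := ⟨_, rfl⟩
    have hAM : A ≤ M := by
      rw [hA, Submodule.span_le]
      rintro y (rfl | rfl)
      · exact haM
      · exact hcM
    have hac : ∀ a t (ha : R a = 0) (hat : polar R a t = 0), a ∈ A → ∀ v ∈ M, ap (sg a t ha hat) v - v ∈ A := by
      intro a t ha hat haA v hv
      rw [hmod a t v ha hat (hM.polar_eq (hAM haA) hv), add_sub_cancel_left]
      exact A.smul_mem _ haA
    have haA : p₁.e ∈ A := hA ▸ Submodule.subset_span (Set.mem_insert _ _)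
    have hcA : (c : V) ∈ A := hA ▸ Submodule.subset_span (Or.inr rfl)
    have hdiff : ap k₃ ((c₂ : p₁.W) : V) - ((c₂ : p₁.W) : V) ∈ A := by
      have s0 : ap k ((c₂ : p₁.W) : V) - ((c₂ : p₁.W) : V) ∈ A := by
        rw [hkc₂, add_assoc, add_sub_cancel_left]
        exact A.add_mem (A.smul_mem _ haA) (A.smul_mem _ hcA)
      have hk1M : ap k₁ ((c₂ : p₁.W) : V) ∈ M ∧ ap k₁ ((c₂ : p₁.W) : V) - ((c₂ : p₁.W) : V) ∈ A := by
        obtain ⟨kd1, -, e1⟩ := Subgroup.mem_map.1 hk₁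
        have : k₁ = ((kd1 : S) : sieGroup R) * k := by
          rw [show ((kd1 : S) : sieGroup R) = k₁ * k⁻¹ from e1, inv_mul_cancel_right]
        refine ⟨by rw [this, ap_mul]; exact ((hS _).1 kd1.2).2 _ (hkM _ hc₂M), ?_⟩
        rw [hk₁', ap_mul]
        have := A.add_mem (hac _ _ p₁.he (p₁.e_w ((-x) • d : p₁.W)) haA _ (hkM _ hc₂M)) s0
        rwa [sub_add_sub_cancel] at this
      obtain ⟨hm1, s1⟩ := hk1M
      have e1 : k₂ = sg p₁.e (-(p₁.f - b')) p₁.he (by rw [polar_neg_right, htb, neg_zero]) * k₁ := by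
        rw [hk₂, ht₁, sg_inv]
      have hm2 : ap k₂ ((c₂ : p₁.W) : V) ∈ M := by
        rw [e1, ap_mul]; exact sg_mapsTo hM _ _ haM hm1
      have s2 : ap k₂ ((c₂ : p₁.W) : V) - ((c₂ : p₁.W) : V) ∈ A := by
        rw [e1, ap_mul]
        have := A.add_mem (hac _ (-(p₁.f - b')) p₁.he (by rw [polar_neg_right, htb, neg_zero]) haA _ hm1) s1
        rwa [sub_add_sub_cancel] at this
      have e2 : k₃ = sg (c : V) (-((d : V) - d')) (hM _ hcM) (by rw [polar_neg_right, hcd0, neg_zero]) * k₂ := by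
        rw [hk₃, ht₂, sg_inv]
      rw [e2, ap_mul]
      have := A.add_mem (hac _ (-((d : V) - d')) (hM _ hcM) (by rw [polar_neg_right, hcd0, neg_zero]) hcA _ hm2) s2
      rwa [sub_add_sub_cancel] at this
    rw [hw', hA, Submodule.mem_span_pair] at hdiff
    obtain ⟨u, v, huv⟩ := hdiff
    have hu : u = 0 := by
      have := congrArg (polar R p₁.f) huv
      simpa [polar_add_right, polar_smul_right', polar_sub_right, p₁.hfe, p₁.f_w] using this
    have hv : v = 0 := by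
      have := congrArg (polar R (d : V)) huv
      rw [hu, zero_smul, zero_add, polar_smul_right',
        show polar R (d : V) (c : V) = 1 by rw [← polar_restr]; exact p₂.hfe, mul_one, polar_sub_right,
        show polar R (d : V) ((w' : p₁.W) : V) = 0 by rw [← polar_restr]; exact p₂.f_w w',
        show polar R (d : V) ((c₂ : p₁.W) : V) = 0 by rw [← polar_restr]; exact p₂.f_w c₂, sub_zero] at this
      exact this
    rw [hu, hv, zero_smul, zero_smul, add_zero, eq_comm, sub_eq_zero] at huv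
    rw [hw', huv]
  rw [hk3, one_mul] at hKk
  obtain ⟨kd, hkd, e⟩ := Subgroup.mem_map.1 (inv_mem hKk)
  rw [inv_inv] at e
  rw [← show (kd : S) = ⟨k, hk⟩ from Subtype.ext e]
  exact hkd

end Gen

end Cfsg.Agent.H53.OmIdx
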