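import Cfsg.Agent.H53.OmIdx.Points
import Cfsg.Agent.Orthogonal.POmega

/-!
Passing to the projective group, and the stabiliser of a singular point.
-/

set_option autoImplicit false
set_option linter.unusedSectionVars false

namespace Cfsg.Agent.H53.OmIdx

open QuadraticMap Module
open Cfsg.Agent.Orthogonal
open Cfsg.Agent.H53.OmLow

attribute [local instance] Fintype.ofFinite

variable {F : Type*} [Field F] [Finite F] {ι : Type} [Fintype ι] [DecidableEq ι]

/-- The index statement for the projective group. -/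
theorem pomega_min_index (Q : QuadraticForm F (ι → F)) (hQ : Nondeg Q) (hn : 5 ≤ finrank F (ι → F))
    (hbound : ∀ H : Subgroup (sieGroup Q), H ≠ ⊤ → Nat.card (Pt Q) ≤ H.index) :
    (∀ H : Subgroup (Cfsg.POmega F (⇑Q)), H ≠ ⊤ → Nat.card (Pt Q) ≤ H.index) ∧
      ∃ H : Subgroup (Cfsg.POmega F (⇑Q)), H.index = Nat.card (Pt Q) := by
  let e : sieGroup Q ≃* Cfsg.Omega F (⇑Q) :=
    (MulEquiv.subgroupCongr (sieGroup_eq_commutator hQ hn)).trans (omegaEquiv Q).symm
  let f : sieGroup Q →* Cfsg.POmega F (⇑Q) := (QuotientGroup.mk' _).comp e.toMonoidHom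
  have hf : Function.Surjective f := (QuotientGroup.mk'_surjective _).comp e.surjective
  constructor
  · intro H hH
    rw [← Subgroup.index_comap_of_surjective H hf]
    refine hbound _ fun h => hH ?_
    rw [eq_top_iff]
    intro y _
    obtain ⟨x, rfl⟩ := hf y
    exact (Subgroup.mem_comap (f := f) (K := H)).1 (h ▸ Subgroup.mem_top x)
  · obtain ⟨u, hu0, hu⟩ := hQ.exists_singular (by omega)
    have := Pt.isPretransitive hQ (show 3 ≤ finrank F (ι → F) by omega)
    refine ⟨(MulAction.stabilizer (sieGroup Q) (Pt.mk hu0 hu)).map f, ?_⟩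
    rw [Subgroup.index_map_eq _ hf, MulAction.index_stabilizer_of_transitive]
    intro g hg
    rw [MonoidHom.mem_ker, MonoidHom.comp_apply, QuotientGroup.mk'_apply,
      QuotientGroup.eq_one_iff] at hg
    have key : ∀ x : ι → F, ap g x =
        ((((e g : Cfsg.Omega F (⇑Q)) : Cfsg.isometryGroup F (⇑Q)) : Matrix.GeneralLinearGroup ι F) :
          Matrix ι ι F).mulVec x := fun x => by
      rw [← toO_apply, ← coe_omegaEquiv]
      simp only [e, MulEquiv.trans_apply, MulEquiv.apply_symm_apply]
      rfl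
    rw [MulAction.mem_stabilizer_iff, Pt.smul_mk]
    rcases center_omega_cases hQ hn hg with h | h
    · exact Pt.mk_smul_vec _ _ _ _ one_ne_zero (by rw [key]; erw [h]; rw [Matrix.one_mulVec, one_smul])
    · refine Pt.mk_smul_vec _ _ _ _ (neg_ne_zero.2 (one_ne_zero (α := F))) ?_
      rw [key]; erw [h]
      rw [Matrix.neg_mulVec, Matrix.one_mulVec, neg_one_smul]

end Cfsg.Agent.H53.OmIdx
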