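import Cfsg.Agent.H53.OmIdx.Class
import Cfsg.Agent.H53.OmIdx.Transfer

/-!
The smallest index in the minus type.
-/

set_option autoImplicit false
set_option linter.unusedSectionVars false

namespace Cfsg.Agent.H53.OmIdx

open QuadraticMap Module Finset
open Cfsg.Agent.Orthogonal
open Cfsg.Agent.H53.OmLow

attribute [local instance] Fintype.ofFinite Classical.propDecidable

theorem minus_sing_arith {q Y Z : ℕ} (hq : 2 ≤ q) (hY : q ^ 2 ≤ Y)
    (hZ : Z + q * Y = q * Y ^ 2 + Y) {W : ℕ} (hW : W = q ^ 2 * Y ^ 2) :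
    q * Z + (q - 1) * W ≤ (q - 1) * ((q ^ 2 + 1) * (Z - 1)) := by
  have hY4 : 4 ≤ Y := le_trans (by nlinarith) hY
  have h1 : q * Y ≤ q * Y ^ 2 := Nat.mul_le_mul_left q (Nat.le_self_pow two_ne_zero Y)
  obtain ⟨s, rfl⟩ : ∃ s, Z = s + 1 := ⟨Z - 1, by omega⟩
  obtain ⟨r, rfl⟩ : ∃ r, q = r + 2 := ⟨q - 2, by omega⟩
  rw [Nat.add_sub_cancel, show r + 2 - 1 = r + 1 by omega, hW]
  zify at *
  have hs : (s : ℤ) = (r + 2) * (Y : ℤ) ^ 2 - (r + 2) * Y + Y - 1 := by linarith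
  rw [hs]
  have hr : (0 : ℤ) ≤ r := Int.natCast_nonneg r
  have y4 : (0 : ℤ) ≤ (Y : ℤ) - 4 := by linarith
  have yy : (0 : ℤ) ≤ (Y : ℤ) * Y - 4 * Y := by nlinarith
  nlinarith [mul_nonneg hr yy, mul_nonneg (pow_nonneg hr 2) yy, mul_nonneg (pow_nonneg hr 3) yy,
    mul_nonneg (pow_nonneg hr 4) yy, mul_nonneg hr y4, mul_nonneg (pow_nonneg hr 2) y4,
    mul_nonneg (pow_nonneg hr 3) y4, mul_nonneg (pow_nonneg hr 4) y4, pow_nonneg hr 2, pow_nonneg hr 3,
    pow_nonneg hr 4]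

theorem minus_few_arith {q Y Z : ℕ} (hq : 2 ≤ q) (hZ : Z + q * Y = q * Y ^ 2 + Y) (j : ℕ) (hj : 4 ≤ j)
    (hj3 : q = 3 → j = 5) :
    q * Z + (q - 1) * (q ^ 2 * Y ^ 2) ≤ (q - 1) * (j * (q / 2 * (q * Y ^ 2 + Y))) := by
  have hYq : Y ≤ q * Y := Nat.le_mul_of_pos_left Y (by omega)
  have hZ' : Z ≤ q * Y ^ 2 := by omega
  have hl : q * Z + (q - 1) * (q ^ 2 * Y ^ 2) ≤ q ^ 2 * (q * Y ^ 2) := by
    have := Nat.mul_le_mul_left q hZ'
    have e : q ^ 2 * (q * Y ^ 2) = q * (q * Y ^ 2) + (q - 1) * (q ^ 2 * Y ^ 2) := by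
      obtain ⟨r, rfl⟩ : ∃ r, q = r + 1 := ⟨q - 1, by omega⟩
      rw [Nat.add_sub_cancel]; ring
    omega
  refine hl.trans ?_
  have key : q ^ 2 ≤ (q - 1) * (j * (q / 2)) := by
    rcases Nat.lt_or_ge q 4 with h | h
    · interval_cases q
      · omega
      · rw [hj3 rfl]; norm_num
    · have h2 : q - 1 ≤ 2 * (q / 2) := by omega
      have h3 : 4 * (q / 2) ≤ j * (q / 2) := Nat.mul_le_mul_right _ hj
      obtain ⟨r, rfl⟩ : ∃ r, q = r + 4 := ⟨q - 4, by omega⟩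
      have : (r + 4 - 1) * (2 * (r + 4 - 1)) ≤ (r + 4 - 1) * (j * ((r + 4) / 2)) :=
        Nat.mul_le_mul_left _ (by omega)
      refine le_trans ?_ this
      rw [show r + 4 - 1 = r + 3 by omega]
      nlinarith
  calc q ^ 2 * (q * Y ^ 2) ≤ (q - 1) * (j * (q / 2)) * (q * Y ^ 2 + Y) :=
        Nat.mul_le_mul key (Nat.le_add_right _ _)
    _ = _ := by ring

variable {F V : Type*} [Field F] [Finite F] [AddCommGroup V] [Module F V] [FiniteDimensional F V]
variable {Q : QuadraticForm F V}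

theorem minus_small_false (hQ : Nondeg Q) {k : ℕ} (hT : HasType Q (k + 3) 2) (p : HP Q)
    (X : Type*) [MulAction (sieGroup Q) X] [Fintype X] [MulAction.IsPretransitive (sieGroup Q) X]
    [Nontrivial X] (hX : Fintype.card X < Nat.card (Pt Q)) : False := by
  have hTp : HasType (restr Q p.W) (k + 2) 2 := hT.perp_pair hQ p
  have hR := p.nd hQ
  have hd := hTp.finrank_eq hR
  have hW := card_W_of_type hQ p hTp
  have hV := zc_step hQ (k := k + 2) hT p
  have hq2 : 2 ≤ Nat.card F := Finite.one_lt_card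
  set q := Nat.card F with hq
  set Z := zc (restr Q p.W) 0 with hZdef
  obtain ⟨Y, hY⟩ : ∃ Y, Y = q ^ (k + 2) := ⟨_, rfl⟩
  have hZ : Z + q * Y = q * Y ^ 2 + Y := by
    have h := zc_zero hTp
    refine Nat.eq_of_mul_eq_mul_left (show 0 < q by omega) ?_
    rw [← hq, ← hZdef, show q ^ (2 * (k + 2) + 2) = q * (q * Y ^ 2) by rw [hY]; ring,
      show q ^ (k + 2 + 2) = q * (q * Y) by rw [hY]; ring,
      show q ^ (k + 2 + 1) = q * Y by rw [hY]; ring] at h
    rw [Nat.mul_add]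
    linarith [h]
  have hY2 : q ^ 2 ≤ Y := hY ▸ Nat.pow_le_pow_right (by omega) (by omega)
  have hWY : Fintype.card p.W = q ^ 2 * Y ^ 2 := by rw [hW, hY]; ring
  have hYq : q * Y ≤ q * Y ^ 2 := Nat.mul_le_mul_left q (Nat.le_self_pow two_ne_zero Y)
  have hsph : ∀ c : F, c ≠ 0 → q * Y ^ 2 + Y ≤ (sph p c).card := by
    intro c hc
    have h := zc_sphere_minus hR hTp hc
    have h2 := sph_add p c
    rw [if_neg hc, add_zero] at h2
    rw [← hq, ← h2, show q ^ (2 * (k + 2) + 2) = q * (q * Y ^ 2) by rw [hY]; ring,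
      show q ^ (k + 2 + 2) = q * (q * Y) by rw [hY]; ring,
      show q ^ (k + 2 + 1) = q * Y by rw [hY]; ring] at h
    refine le_of_eq (Nat.eq_of_mul_eq_mul_left (show 0 < q by omega) ?_)
    linarith [h]
  have hK : q * Y ^ 2 + Y ≤ q / 2 * (q * Y ^ 2 + Y) := Nat.le_mul_of_pos_left _ (by omega)
  have hn : Nums Q p X (q / 2 * (q * Y ^ 2 + Y)) := by
    refine ⟨by omega, Or.inl (by omega), few_of_lt hQ hT p hX, ?_, ?_, fun u hu => class_ge p hsph hu,
      le_trans (by omega) hK, ?_⟩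
    · rw [← hq, ← hZdef, hWY]
      have h1 : q * Z ≤ q * (q * Y ^ 2) :=
        Nat.mul_le_mul_left q (by have : Y ≤ q * Y := Nat.le_mul_of_pos_left Y (by omega); omega)
      have h2 : q * (q * Y ^ 2) ≤ (q - 1) * (q ^ 2 * Y ^ 2) := by
        rw [← mul_assoc, ← pow_two]
        exact Nat.le_mul_of_pos_left _ (by omega)
      rw [show 2 * (q - 1) * (q ^ 2 * Y ^ 2) = (q - 1) * (q ^ 2 * Y ^ 2) + (q - 1) * (q ^ 2 * Y ^ 2) by ring]
      omega
    · rw [← hq, ← hZdef, show (sph p 0).card = Z - 1 by have := sph_zero_add_one p; omega]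
      exact minus_sing_arith hq2 hY2 hZ hWY
    · rw [← hq, ← hZdef, hWY]
      refine minus_few_arith hq2 hZ _ (by split_ifs <;> omega) fun h3 => ?_
      rw [if_neg]
      intro h2
      have h1 : ringChar F = 2 := CharP.ringChar_of_prime_eq_zero Nat.prime_two (by exact_mod_cast h2)
      rw [hq, Nat.card_eq_fintype_card] at h3
      have h4 := FiniteField.even_card_iff_char_two.1 h1
      omega
  refine false_of_lines hQ hn hV ?_ (lines_of_count hQ hn (ν := k + 1) fun p₁ => ?_)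
  · rcases Nat.eq_zero_or_pos k with rfl | hk
    · exact Or.inr (Or.inr hTp)
    · exact Or.inr (Or.inl (by omega))
  · have hT1 : HasType (restr (restr Q p.W) p₁.W) (k + 1) 2 := hTp.perp_pair hR p₁
    refine ⟨fun S hS => finrank_le_index (p₁.nd hR) hT1 hS, ?_⟩
    obtain ⟨U, hU⟩ : ∃ U, U = q ^ (k + 1) := ⟨_, rfl⟩
    have h := zc_zero hT1
    have h2 := sph_zero_add_one p₁
    rw [← hq, ← h2, show q ^ (2 * (k + 1) + 2) = q * (q * U ^ 2) by rw [hU]; ring,
      show q ^ (k + 1 + 2) = q * (q * U) by rw [hU]; ring,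
      show q ^ (k + 1 + 1) = q * U by rw [hU]; ring] at h
    have hs : (sph p₁ 0).card + 1 + q * U = q * U ^ 2 + U := by
      refine Nat.eq_of_mul_eq_mul_left (show 0 < q by omega) ?_
      rw [Nat.mul_add, Nat.mul_add]
      linarith [h]
    rw [← hU]
    have hUq : q ≤ U := hU ▸ Nat.le_self_pow (by omega) q
    obtain ⟨U', rfl⟩ : ∃ U', U = U' + 1 := ⟨U - 1, by omega⟩
    rw [Nat.add_sub_cancel]
    nlinarith [Nat.mul_le_mul hUq (le_refl (U' + 1)), Nat.mul_le_mul (Nat.le_refl q) hUq]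

universe v

theorem minus_index {F : Type*} [Field F] [Finite F] {V : Type v} [AddCommGroup V] [Module F V]
    [FiniteDimensional F V] {Q : QuadraticForm F V} (hQ : Nondeg Q) {k : ℕ}
    (hT : HasType Q (k + 3) 2) (H : Subgroup (sieGroup Q)) (hH : H ≠ ⊤) :
    Nat.card (Pt Q) ≤ H.index := by
  refine index_ge (fun X _ _ _ _ hX => ?_) H hH
  obtain ⟨p⟩ := exists_hp hQ (by have := hT.finrank_eq hQ; omega)
  exact minus_small_false hQ hT p X hX

end Cfsg.Agent.H53.OmIdx
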