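import Cfsg.Agent.H53.OmIdx.Except
import Cfsg.Agent.H53.OmIdx.Transfer

/-!
The smallest index in odd dimension.
-/

set_option autoImplicit false
set_option linter.unusedSectionVars false

namespace Cfsg.Agent.H53.OmIdx

open QuadraticMap Module Finset
open Cfsg.Agent.Orthogonal
open Cfsg.Agent.H53.OmLow

attribute [local instance] Fintype.ofFinite Classical.propDecidable

theorem odd_sing_arith {q Y : ℕ} (hq : 4 ≤ q) (hY : 4 ≤ Y) :
    q * Y ^ 2 + (q - 1) * (q * Y ^ 2) ≤ (q - 1) * ((q ^ 2 + 1) * (Y ^ 2 - 1)) := by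
  obtain ⟨r, rfl⟩ : ∃ r, q = r + 4 := ⟨q - 4, by omega⟩
  have hY2 : 16 ≤ Y ^ 2 := by nlinarith
  obtain ⟨s, hs⟩ : ∃ s, Y ^ 2 = s + 1 := ⟨Y ^ 2 - 1, by omega⟩
  rw [hs] at hY2 ⊢
  rw [Nat.add_sub_cancel, show r + 4 - 1 = r + 3 by omega]
  have h15 : 15 ≤ s := by omega
  nlinarith [Nat.mul_le_mul_left r h15, Nat.mul_le_mul_left (r ^ 2) h15, Nat.mul_le_mul_left (r ^ 3) h15]

theorem odd_few_arith {q Y L : ℕ} (hq : 4 ≤ q) (hY : q ^ 2 ≤ Y) (hL : L + Y = Y ^ 2) (j : ℕ) (hj : 4 ≤ j) :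
    q * Y ^ 2 + (q - 1) * (q * Y ^ 2) ≤ (q - 1) * (j * (q / 2 * L)) := by
  have h1 : (q - 1) * (2 * (q - 1)) ≤ (q - 1) * (j * (q / 2)) :=
    Nat.mul_le_mul_left _ (le_trans (by omega) (Nat.mul_le_mul_right (q / 2) hj))
  refine le_trans ?_ (((Nat.mul_le_mul_right L h1).trans (le_of_eq (by ring))))
  obtain ⟨r, rfl⟩ : ∃ r, q = r + 4 := ⟨q - 4, by omega⟩
  rw [show r + 4 - 1 = r + 3 by omega]
  have h16 : 16 ≤ Y := le_trans (by nlinarith) hY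
  have h2 : 16 * Y ≤ Y ^ 2 := by rw [pow_two]; exact Nat.mul_le_mul_right _ h16
  nlinarith [Nat.mul_le_mul_left r h2, Nat.mul_le_mul_left (r ^ 2) h2]

theorem odd_three_arith {q : ℕ} (hq : 4 ≤ q) :
    q * (q ^ 2) ^ 2 + (q - 1) * (q * (q ^ 2) ^ 2) ≤ (q - 1) * ((q + 2) * ((q ^ 2) ^ 2 - 1)) ∧
    q * (q ^ 2) ^ 2 + (q - 1) * (q * (q ^ 2) ^ 2) ≤
      (q - 1) * ((q + 1) * ((q ^ 2) ^ 2 - 1) + (q ^ 2) ^ 2 + 1) ∧
    2 * (q * (q ^ (0 + 1)) ^ 2) ≤ (q ^ 2) ^ 2 ∧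
    (q + 1) * (q ^ 1 - 1) + 1 = (q ^ (0 + 1)) ^ 2 ∧
    (q - 1) * (q ^ 5 + q ^ 4 + q ^ 3 + q ^ 2 + (q + 1)) + 1 = q ^ 6 ∧
    (q + 1) ^ 2 < 4 * (q ^ 5 + q ^ 4 + q ^ 3 + q ^ 2) := by
  obtain ⟨r, rfl⟩ : ∃ r, q = r + 4 := ⟨q - 4, by omega⟩
  obtain ⟨s, hs⟩ : ∃ s, ((r + 4) ^ 2) ^ 2 = s + 1 :=
    ⟨((r + 4) ^ 2) ^ 2 - 1, by have := Nat.one_le_pow 2 ((r + 4) ^ 2) (by positivity); omega⟩
  have hse : s = r ^ 4 + 16 * r ^ 3 + 96 * r ^ 2 + 256 * r + 255 := by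
    have : ((r + 4) ^ 2) ^ 2 = r ^ 4 + 16 * r ^ 3 + 96 * r ^ 2 + 256 * r + 256 := by ring
    omega
  rw [hs, Nat.add_sub_cancel, show r + 4 - 1 = r + 3 by omega, Nat.zero_add, pow_one,
    show r + 4 - 1 = r + 3 by omega, hse]
  refine ⟨?_, ?_, ?_, ?_, ?_, ?_⟩ <;> ring_nf <;>
    nlinarith [Nat.zero_le (r ^ 5), Nat.zero_le (r ^ 4), Nat.zero_le (r ^ 3), Nat.zero_le (r ^ 2)]

theorem odd_moving_arith {q : ℕ} (hq : 1 ≤ q) :
    (q ^ 5 + q ^ 4 + q ^ 3 + q ^ 2) * (q ^ (1 + 1) - 1) = (q + 1) * ((q ^ 2) ^ 2 - 1) * q ^ (1 + 1) := by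
  obtain ⟨r, hr⟩ : ∃ r, q ^ 2 = r + 1 := ⟨q ^ 2 - 1, by have := Nat.one_le_pow 2 q hq; omega⟩
  rw [show q ^ (1 + 1) = q ^ 2 from rfl, show q ^ 5 + q ^ 4 + q ^ 3 + q ^ 2 =
    q ^ 2 * (q * q ^ 2 + q ^ 2 + q + 1) by ring, hr, Nat.add_sub_cancel,
    show (r + 1) ^ 2 = r * (r + 2) + 1 by ring, Nat.add_sub_cancel]
  ring

variable {F V : Type*} [Field F] [Finite F] [AddCommGroup V] [Module F V] [FiniteDimensional F V]
variable {Q : QuadraticForm F V}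

theorem odd_small_false (hQ : Nondeg Q) (h4 : 4 ≤ Nat.card F) (h2 : (2 : F) ≠ 0) {k : ℕ}
    (hT : HasType Q (k + 3) 1) (p : HP Q)
    (X : Type*) [MulAction (sieGroup Q) X] [Fintype X] [MulAction.IsPretransitive (sieGroup Q) X]
    [Nontrivial X] (hX : Fintype.card X < Nat.card (Pt Q)) : False := by
  have hTp : HasType (restr Q p.W) (k + 2) 1 := hT.perp_pair hQ p
  have hR := p.nd hQ
  have hd := hTp.finrank_eq hR
  have hW := card_W_of_type hQ p hTp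
  have hV := zc_step hQ (k := k + 2) hT p
  set q := Nat.card F with hq
  obtain ⟨Y, hY⟩ : ∃ Y, Y = q ^ (k + 2) := ⟨_, rfl⟩
  have hZ : zc (restr Q p.W) 0 = Y ^ 2 := by
    have h := zc_zero hTp
    refine Nat.eq_of_mul_eq_mul_left (show 0 < q by omega) ?_
    rw [← hq, show q ^ (2 * (k + 2) + 1) = q * Y ^ 2 by rw [hY]; ring,
      show q ^ (k + 2 + 1) = q * Y by rw [hY]; ring] at h
    omega
  have hWY : Fintype.card p.W = q * Y ^ 2 := by rw [hW, hY]; ring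
  have hY2 : q ^ 2 ≤ Y := hY ▸ Nat.pow_le_pow_right (by omega) (by omega)
  have hYY : Y ≤ Y ^ 2 := Nat.le_self_pow two_ne_zero Y
  have hsph0 : (sph p 0).card = Y ^ 2 - 1 := by have := sph_zero_add_one p; omega
  obtain ⟨L, hL⟩ : ∃ L, L + Y = Y ^ 2 := ⟨Y ^ 2 - Y, by omega⟩
  have hsph : ∀ c : F, c ≠ 0 → L ≤ (sph p c).card := by
    intro c hc
    have h := zc_lower hTp c
    have h' := sph_add p c
    rw [if_neg hc, add_zero] at h'
    rw [← hq, ← h', show q ^ (2 * (k + 2) + 1) = q * Y ^ 2 by rw [hY]; ring,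
      show q ^ (k + 2 + 1) = q * Y by rw [hY]; ring, ← Nat.mul_add] at h
    have := Nat.le_of_mul_le_mul_left h (by omega)
    omega
  have hK : Y ^ 2 ≤ q / 2 * L := by
    refine le_trans ?_ (Nat.mul_le_mul_right L (show 2 ≤ q / 2 by omega))
    have : 4 ≤ Y := le_trans (by nlinarith) hY2
    nlinarith
  have hn : Nums Q p X (q / 2 * L) := by
    refine ⟨by omega, Or.inr ⟨h2, exists_sq_ne_one h4⟩, few_of_lt hQ hT p hX, ?_, ?_,
      fun u hu => class_ge p hsph hu, hZ ▸ hK, ?_⟩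
    · rw [← hq, hZ, hWY]
      have h1 : q * Y ^ 2 ≤ (q - 1) * (q * Y ^ 2) := Nat.le_mul_of_pos_left _ (by omega)
      rw [show 2 * (q - 1) * (q * Y ^ 2) = (q - 1) * (q * Y ^ 2) + (q - 1) * (q * Y ^ 2) by ring]
      omega
    · rw [← hq, hsph0, hZ, hWY]
      exact odd_sing_arith h4 (le_trans (by nlinarith) hY2)
    · rw [← hq, hZ, hWY]
      exact odd_few_arith h4 hY2 hL _ (by split_ifs <;> omega)
  refine false_of_lines hQ hn hV (Or.inl ⟨by omega, Or.inr h2⟩) ?_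
  have hT1 : ∀ p₁ : HP (restr Q p.W), HasType (restr (restr Q p.W) p₁.W) (k + 1) 1 :=
    fun p₁ => hTp.perp_pair hR p₁
  have hU : ∀ p₁ : HP (restr Q p.W), zc (restr (restr Q p.W) p₁.W) 0 = (q ^ (k + 1)) ^ 2 := by
    intro p₁
    have h := zc_zero (hT1 p₁)
    refine Nat.eq_of_mul_eq_mul_left (show 0 < q by omega) ?_
    rw [← hq, show q ^ (2 * (k + 1) + 1) = q * (q ^ (k + 1)) ^ 2 by ring] at h
    omega
  rcases Nat.eq_zero_or_pos k with rfl | hk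
  · have hYq : Y = q ^ 2 := hY
    obtain ⟨e1, e2, e3, e4, e5, e6⟩ := odd_three_arith h4
    refine lines_of_ex hQ hn (ν := 1) (T := q ^ 5 + q ^ 4 + q ^ 3 + q ^ 2) (δ := q + 1) ?_ hX
    refine ⟨Or.inl ⟨by omega, rfl, h2⟩, fun S hS => finrank_le_index hR hTp hS,
      fun p₁ S hS => finrank_le_index (p₁.nd hR) (hT1 p₁) hS, fun p₁ => ?_, ?_, ?_, fun p' => ?_,
      ?_, ?_, ?_, exists_sq_ne_one h4⟩
    · have := sph_zero_add_one p₁
      rw [hU p₁] at this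
      show (sph p₁ 0).card = (q + 1) * (q ^ 1 - 1)
      omega
    · rw [← hq, hsph0, hZ, hWY, hYq]
      exact e1
    · rw [← hq, hsph0, hZ, hWY, hYq]
      refine e2.trans (Nat.mul_le_mul_left (q - 1) ?_)
      rw [hYq] at hK
      omega
    · rw [← hq, hU p', hZ, hYq]
      exact e3
    · rw [← hq, hsph0, hYq]
      exact odd_moving_arith (by omega)
    · have h := zc_zero hT
      rw [← hq, show q ^ (2 * (0 + 3) + 1) = q * q ^ 6 by ring] at h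
      have h' : zc Q 0 = q ^ 6 := Nat.eq_of_mul_eq_mul_left (show 0 < q by omega) (by omega)
      rw [h', ← hq]
      exact e5
    · exact e6
  · refine lines_of_count hQ hn (ν := k + 1) fun p₁ =>
      ⟨fun S hS => finrank_le_index (p₁.nd hR) (hT1 p₁) hS, ?_⟩
    have := sph_zero_add_one p₁
    rw [hU p₁] at this
    obtain ⟨U, hUe⟩ : ∃ U, U = q ^ (k + 1) := ⟨_, rfl⟩
    rw [← hUe] at this
    rw [← hq, ← hUe]
    have hUq : q ^ 2 ≤ U := by rw [hUe]; exact Nat.pow_le_pow_right (by omega) (by omega)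
    have hU2 : 2 ≤ U := le_trans (by nlinarith) hUq
    obtain ⟨U', rfl⟩ : ∃ U', U = U' + 1 := ⟨U - 1, by omega⟩
    rw [Nat.add_sub_cancel]
    nlinarith [Nat.mul_le_mul_right U' hUq]

universe v

theorem odd_index {F : Type*} [Field F] [Finite F] {V : Type v} [AddCommGroup V] [Module F V]
    [FiniteDimensional F V] {Q : QuadraticForm F V} (hQ : Nondeg Q) (h4 : 4 ≤ Nat.card F)
    (h2 : (2 : F) ≠ 0) {k : ℕ} (hT : HasType Q (k + 3) 1) (H : Subgroup (sieGroup Q)) (hH : H ≠ ⊤) :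
    Nat.card (Pt Q) ≤ H.index := by
  refine index_ge (fun X _ _ _ _ hX => ?_) H hH
  obtain ⟨p⟩ := exists_hp hQ (by have := hT.finrank_eq hQ; omega)
  exact odd_small_false hQ h4 h2 hT p X hX

end Cfsg.Agent.H53.OmIdx
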