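import Cfsg.Agent.H53.OmLow.Top
import Cfsg.Agent.H33.PermCharacter

/-!
The orbits of the abelian radical on a finite set acted on by the Eichler group.
-/

set_option autoImplicit false
set_option linter.unusedSectionVars false

namespace Cfsg.Agent.H53.OmIdx

open QuadraticMap Module Finset
open Cfsg.Agent.Orthogonal
open Cfsg.Agent.H53.OmLow

attribute [local instance] Fintype.ofFinite Classical.propDecidable

variable {F V : Type*} [Field F] [Finite F] [AddCommGroup V] [Module F V] [FiniteDimensional F V]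
variable {Q : QuadraticForm F V} {X : Type*} [MulAction (sieGroup Q) X] [Fintype X]
variable (p : HP Q)

/-- The permutation representation. -/
noncomputable abbrev prm (Q : QuadraticForm F V) (X : Type*) [MulAction (sieGroup Q) X] :
    Representation ℂ (sieGroup Q) (X → ℂ) := Cfsg.permRep ℂ (sieGroup Q) X

theorem xr_neg (w : p.W) : xr p (-w) = (xr p w)⁻¹ :=
  eq_inv_of_mul_eq_one_left (by rw [← xr_add, neg_add_cancel, xr_zero])

/-- The radical elements fixing a point. -/
def Ru (x : X) : AddSubgroup p.W where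
  carrier := {w | xr p w • x = x}
  zero_mem' := by simp [xr_zero]
  add_mem' {a b} ha hb := by
    simp only [Set.mem_setOf_eq] at ha hb ⊢
    rw [xr_add, mul_smul, hb, ha]
  neg_mem' {a} ha := by
    simp only [Set.mem_setOf_eq] at ha ⊢
    rw [xr_neg, inv_smul_eq_iff, ha]

theorem mem_Ru {x : X} {w : p.W} : w ∈ Ru p x ↔ xr p w • x = x := Iff.rfl

/-- The weights occurring in the orbit of a point. -/
def Au (x : X) : AddSubgroup p.W where
  carrier := {u | ∀ w ∈ Ru p x, chi p u w = 1}
  zero_mem' w _ := by rw [chi_zero, AddChar.zero_apply]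
  add_mem' {a b} ha hb w hw := by
    rw [chi_comm, AddChar.map_add_eq_mul, chi_comm p w a, chi_comm p w b, ha w hw, hb w hw, one_mul]
  neg_mem' {a} ha w hw := by
    rw [chi_comm, AddChar.map_neg_eq_inv, chi_comm p w a, ha w hw, inv_one]

theorem mem_Au {x : X} {u : p.W} : u ∈ Au p x ↔ ∀ w ∈ Ru p x, chi p u w = 1 := Iff.rfl

/-- The orbit of the radical. -/
noncomputable def orb (x : X) : Finset X := Finset.univ.image fun w : p.W => xr p w • x

theorem mem_orb {x y : X} : y ∈ orb p x ↔ ∃ w : p.W, xr p w • x = y := by simp [orb]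

theorem self_mem_orb (x : X) : x ∈ orb p x := (mem_orb p).2 ⟨0, by rw [xr_zero, one_smul]⟩

theorem Ru_xr (x : X) (v : p.W) : Ru p (xr p v • x) = Ru p x := by
  ext w
  rw [mem_Ru, mem_Ru, ← mul_smul, ← xr_add, add_comm, xr_add, mul_smul, smul_left_cancel_iff]

theorem Au_xr (x : X) (v : p.W) : Au p (xr p v • x) = Au p x := by
  ext u
  rw [mem_Au, mem_Au, Ru_xr]

theorem orb_xr (x : X) (v : p.W) : orb p (xr p v • x) = orb p x := by
  ext y
  simp only [mem_orb, ← mul_smul, ← xr_add]
  exact ⟨fun ⟨w, h⟩ => ⟨_, h⟩, fun ⟨w, h⟩ => ⟨w - v, by rwa [sub_add_cancel]⟩⟩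

theorem orb_eq_of_mem {x y : X} (h : y ∈ orb p x) : orb p y = orb p x := by
  obtain ⟨w, rfl⟩ := (mem_orb p).1 h
  exact orb_xr p x w

theorem Au_eq_of_mem {x y : X} (h : y ∈ orb p x) : Au p y = Au p x := by
  obtain ⟨w, rfl⟩ := (mem_orb p).1 h
  exact Au_xr p x w

theorem card_orb_mul (x : X) : (orb p x).card * Nat.card (Ru p x) = Fintype.card p.W := by
  have hfib : ∀ y ∈ orb p x,
      (Finset.univ.filter fun w : p.W => xr p w • x = y).card = Nat.card (Ru p x) := by
    intro y hy
    obtain ⟨v, rfl⟩ := (mem_orb p).1 hy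
    rw [Nat.card_eq_fintype_card, ← Fintype.card_subtype]
    refine Fintype.card_congr ((Equiv.subtypeEquiv (Equiv.subRight v) fun w => ?_))
    show xr p w • x = xr p v • x ↔ w - v ∈ Ru p x
    rw [mem_Ru, sub_eq_add_neg, add_comm, xr_add, mul_smul, xr_neg, inv_smul_eq_iff]
  rw [← Finset.card_univ, Finset.card_eq_sum_card_image (fun w : p.W => xr p w • x),
    ← smul_eq_mul, ← Finset.sum_const]
  exact (Finset.sum_congr rfl hfib).symm

theorem sum_Ru_orb (x : X) : ∑ y ∈ orb p x, Nat.card (Ru p y) = Fintype.card p.W := by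
  rw [← card_orb_mul p x, ← smul_eq_mul, ← Finset.sum_const]
  refine Finset.sum_congr rfl fun y hy => ?_
  obtain ⟨w, rfl⟩ := (mem_orb p).1 hy
  rw [Ru_xr]

theorem sum_chi_sub (R : AddSubgroup p.W) (u : p.W) :
    (∑ w : R, chi p u w) = if (∀ w ∈ R, chi p u w = 1) then (Nat.card R : ℂ) else 0 := by
  have h := AddChar.sum_eq_ite ((chi p u).compAddMonoidHom R.subtype)
  simp only [AddChar.compAddMonoidHom_apply, AddSubgroup.coe_subtype] at h
  rw [h, Nat.card_eq_fintype_card]
  refine if_congr ?_ rfl rfl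
  constructor
  · intro h1 w hw
    have := DFunLike.congr_fun h1 ⟨w, hw⟩
    simpa using this
  · intro h1
    refine DFunLike.ext _ _ fun w => ?_
    simpa using h1 w w.2

theorem card_Au_mul (hQ : Nondeg Q) (x : X) :
    Nat.card (Au p x) * Nat.card (Ru p x) = Fintype.card p.W := by
  have h1 : ∑ u : p.W, ∑ w : Ru p x, chi p u w = (Fintype.card p.W : ℂ) := by
    rw [Finset.sum_comm]
    simp only [sum_chi hQ p]
    refine (Finset.sum_eq_single (0 : Ru p x) (fun b _ hb => if_neg fun e => hb (Subtype.ext e))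
      (fun h => absurd (Finset.mem_univ _) h)).trans (if_pos ?_)
    simp
  simp only [sum_chi_sub] at h1
  rw [← Finset.sum_filter, Finset.sum_const, nsmul_eq_mul] at h1
  have e : Nat.card (Au p x) = (Finset.univ.filter fun u : p.W => ∀ w ∈ Ru p x, chi p u w = 1).card := by
    rw [Nat.card_eq_fintype_card, ← Fintype.card_subtype]
    exact Fintype.card_congr (Equiv.refl _)
  rw [e]
  exact_mod_cast h1

theorem card_orb (hQ : Nondeg Q) (x : X) : (orb p x).card = Nat.card (Au p x) :=
  Nat.eq_of_mul_eq_mul_right Nat.card_pos ((card_orb_mul p x).trans (card_Au_mul p hQ x).symm)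

theorem trace_prm (g : sieGroup Q) :
    LinearMap.trace ℂ (X → ℂ) (prm Q X g) = ((Finset.univ.filter fun x : X => g • x = x).card : ℂ) := by
  have := congrFun (H33.permRep_character (G := sieGroup Q) (Ω := X)) g
  refine this.trans ?_
  rw [H33.permChar, Nat.card_eq_fintype_card, Fintype.card_ofFinset]
  congr 2

theorem mult_mul (u : p.W) :
    mult (prm Q X) p u * Fintype.card p.W =
      ∑ x ∈ Finset.univ.filter (fun x : X => u ∈ Au p x), Nat.card (Ru p x) := by
  have h1 : (mult (prm Q X) p u : ℂ) = LinearMap.trace ℂ (X → ℂ) (wP (prm Q X) p u) :=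
    (LinearMap.IsProj.trace
      (LinearMap.IsIdempotentElem.isProj_range _ (wP_idem (prm Q X) p u))).symm
  simp only [wP, map_smul, map_sum, trace_prm, smul_eq_mul] at h1
  rw [eq_inv_mul_iff_mul_eq₀ (card_W_ne_zero p)] at h1
  refine Nat.cast_injective (R := ℂ) ?_
  rw [Nat.cast_mul, mul_comm, h1, Nat.cast_sum, Finset.sum_filter]
  have e : ∀ w : p.W, chi p u (-w) * ((Finset.univ.filter fun x : X => xr p w • x = x).card : ℂ) =
      ∑ x : X, if w ∈ Ru p x then chi p u (-w) else 0 := fun w => by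
    rw [← Finset.sum_filter, Finset.sum_const, nsmul_eq_mul, mul_comm]
    rfl
  rw [Finset.sum_congr rfl fun w _ => e w, Finset.sum_comm]
  refine Finset.sum_congr rfl fun x _ => ?_
  rw [← Finset.sum_filter]
  have h2 : ∑ w ∈ Finset.univ.filter (fun w : p.W => w ∈ Ru p x), chi p u (-w) =
      ∑ w : Ru p x, chi p u w := by
    rw [Finset.sum_subtype (p := fun w => w ∈ Ru p x) _ (by simp)]
    exact Fintype.sum_equiv (Equiv.neg (Ru p x)) _ _ fun w => by simp
  rw [h2, sum_chi_sub]
  exact if_congr Iff.rfl rfl rfl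

/-- The orbits in which a weight occurs. -/
noncomputable def orbs (X : Type*) [MulAction (sieGroup Q) X] [Fintype X] (u : p.W) :
    Finset (Finset X) :=
  (Finset.univ.filter fun x : X => u ∈ Au p x).image (orb p)

theorem mem_orbs {u : p.W} {O : Finset X} : O ∈ orbs p X u ↔ ∃ x, u ∈ Au p x ∧ orb p x = O := by
  simp [orbs]

theorem mult_eq_card_orbs (u : p.W) : mult (prm Q X) p u = (orbs p X u).card := by
  refine Nat.eq_of_mul_eq_mul_right (Fintype.card_pos (α := p.W)) ?_
  rw [mult_mul, ← Finset.sum_fiberwise_of_maps_to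
    (fun x hx => Finset.mem_image_of_mem (orb p) hx) (fun x => Nat.card (Ru p x)), ← smul_eq_mul,
    ← Finset.sum_const]
  refine Finset.sum_congr rfl fun O hO => ?_
  obtain ⟨x, hx, rfl⟩ := (mem_orbs p).1 hO
  refine (Finset.sum_congr ?_ fun _ _ => rfl).trans (sum_Ru_orb p x)
  ext y
  simp only [Finset.mem_filter, Finset.mem_univ, true_and]
  exact ⟨fun h => h.2 ▸ self_mem_orb p y,
    fun h => ⟨Au_eq_of_mem p h ▸ hx, orb_eq_of_mem p h⟩⟩

theorem card_eq_sum_mult (hQ : Nondeg Q) : Fintype.card X = ∑ u, mult (prm Q X) p u := by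
  have := finrank_eq_sum (prm Q X) hQ p
  rw [Module.finrank_fintype_fun_eq_card] at this
  exact this

theorem mult_zero_pos [Nonempty X] : 1 ≤ mult (prm Q X) p 0 := by
  obtain ⟨x⟩ := ‹Nonempty X›
  rw [mult_eq_card_orbs, Nat.one_le_iff_ne_zero]
  exact Finset.card_ne_zero.2 ⟨_, (mem_orbs p).2 ⟨x, zero_mem _, rfl⟩⟩

theorem sum_mult_mul (S : Finset p.W) :
    (∑ u ∈ S, mult (prm Q X) p u) * Fintype.card p.W =
      ∑ x : X, (S.filter fun u => u ∈ Au p x).card * Nat.card (Ru p x) := by
  simp only [Finset.sum_mul, mult_mul, Finset.sum_filter]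
  rw [Finset.sum_comm]
  refine Finset.sum_congr rfl fun x _ => ?_
  rw [← Finset.sum_filter, Finset.sum_const, smul_eq_mul]

/-- Counting the points whose weights are spread thinly in a set. -/
theorem weighted_le (hQ : Nondeg Q) (S : Finset p.W) (T : Finset X) {a b : ℕ}
    (hT : ∀ x, x ∉ T → (S.filter fun u => u ∈ Au p x) = ∅)
    (h : ∀ x ∈ T, a * (S.filter fun u => u ∈ Au p x).card ≤ b * Nat.card (Au p x)) :
    a * (∑ u ∈ S, mult (prm Q X) p u) ≤ b * T.card := by
  refine Nat.le_of_mul_le_mul_right ?_ (Fintype.card_pos (α := p.W))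
  rw [mul_assoc, sum_mult_mul, mul_assoc, ← smul_eq_mul (a := T.card), ← Finset.sum_const,
    Finset.mul_sum, Finset.mul_sum]
  rw [← Finset.sum_subset (Finset.subset_univ T) fun x _ hx => by rw [hT x hx]; simp]
  refine Finset.sum_le_sum fun x hx => ?_
  rw [← card_Au_mul p hQ x, ← mul_assoc, ← mul_assoc]
  exact Nat.mul_le_mul_right _ (h x hx)

/-! ### Equivariance -/

theorem emb_xr (hQ : Nondeg Q) (h : sieGroup (restr Q p.W)) (w : p.W) :
    emb hQ p h * xr p w = xr p (apW h w) * emb hQ p h := by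
  rw [← mul_inv_eq_iff_eq_mul, xr, sg_conj]
  exact sg_congr (emb_e hQ p h) (emb_app hQ p h w)

section Equiv

variable (hQ : Nondeg Q) (h : sieGroup (restr Q p.W)) (x : X)

include hQ

theorem Ru_map (w : p.W) : apW h w ∈ Ru p (emb hQ p h • x) ↔ w ∈ Ru p x := by
  rw [mem_Ru, mem_Ru, ← mul_smul, ← emb_xr p hQ, mul_smul, smul_left_cancel_iff]

theorem Au_map (u : p.W) : apW h u ∈ Au p (emb hQ p h • x) ↔ u ∈ Au p x := by
  have hc : ∀ w, chi p (apW h u) (apW h w) = chi p u w := fun w => by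
    rw [chi_apply, chi_apply]
    congr 1
    rw [← polar_restr, ← polar_restr]
    exact O.polar_app _ _ _
  constructor
  · intro hu w hw
    rw [← hc]
    exact hu _ ((Ru_map p hQ h x w).2 hw)
  · intro hu w hw
    obtain ⟨w, rfl⟩ := (apW h).surjective w
    rw [hc]
    exact hu _ ((Ru_map p hQ h x w).1 hw)

theorem orb_map : orb p (emb hQ p h • x) = (orb p x).image (emb hQ p h • ·) := by
  ext y
  simp only [mem_orb, Finset.mem_image]
  constructor
  · rintro ⟨w, rfl⟩
    obtain ⟨w, rfl⟩ := (apW h).surjective w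
    exact ⟨_, ⟨w, rfl⟩, by rw [← mul_smul, emb_xr p hQ, mul_smul]⟩
  · rintro ⟨z, ⟨w, rfl⟩, rfl⟩
    exact ⟨apW h w, by rw [← mul_smul, ← emb_xr p hQ, mul_smul]⟩

end Equiv

end Cfsg.Agent.H53.OmIdx
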