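import Cfsg.Agent.H53.OmIdx.Except
import Cfsg.Agent.H53.OmIdx.Transfer

/-!
The smallest index in the plus type.
-/

set_option autoImplicit false
set_option linter.unusedSectionVars false

namespace Cfsg.Agent.H53.OmIdx

open QuadraticMap Module Finset
open Cfsg.Agent.Orthogonal
open Cfsg.Agent.H53.OmLow

attribute [local instance] Fintype.ofFinite Classical.propDecidable

theorem plus_sing_arith {q Y Z : ℕ} (hq : 4 ≤ q) (hY : 16 ≤ Y) (hZ : Z + Y = q * Y ^ 2 + q * Y) :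
    q * Z + (q - 1) * (q ^ 2 * Y ^ 2) ≤ (q - 1) * ((q ^ 2 + 1) * (Z - 1)) := by
  have hYq : Y ≤ q * Y := Nat.le_mul_of_pos_left Y (by omega)
  have hZlo : q * Y ^ 2 ≤ Z := by omega
  have hZhi : Z ≤ 2 * (q * Y ^ 2) := by
    have : q * Y ≤ q * Y ^ 2 := Nat.mul_le_mul_left q (Nat.le_self_pow two_ne_zero Y)
    omega
  have h1 : q ^ 2 * Y ^ 2 ≤ q * Z := by
    rw [pow_two q, mul_assoc]; exact Nat.mul_le_mul_left q hZlo
  have h2 : q * Z + (q - 1) * (q ^ 2 * Y ^ 2) ≤ q ^ 2 * Z := by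
    calc _ ≤ q * Z + (q - 1) * (q * Z) := Nat.add_le_add_left (Nat.mul_le_mul_left _ h1) _
      _ = _ := by
        obtain ⟨r, rfl⟩ : ∃ r, q = r + 1 := ⟨q - 1, by omega⟩
        rw [Nat.add_sub_cancel]; ring
  refine h2.trans ?_
  obtain ⟨s, rfl⟩ : ∃ s, Z = s + 1 := ⟨Z - 1, by
    have : 1 ≤ q * Y ^ 2 := Nat.mul_pos (by omega) (by positivity)
    omega⟩
  rw [Nat.add_sub_cancel]
  have h3 : 3 * ((q ^ 2 + 1) * s) ≤ (q - 1) * ((q ^ 2 + 1) * s) := Nat.mul_le_mul_right _ (by omega)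
  have hs : 1 ≤ s := by
    have : 256 ≤ Y ^ 2 := by nlinarith
    have := Nat.mul_le_mul hq this
    omega
  nlinarith [Nat.mul_le_mul_left (q ^ 2) hs]

theorem plus_few_arith {q Y Z L : ℕ} (hq : 4 ≤ q) (hY : q ^ 2 ≤ Y) (hZ : Z + Y = q * Y ^ 2 + q * Y)
    (hL : L + Y = q * Y ^ 2) (j : ℕ) (hj : 4 ≤ j) :
    q * Z + (q - 1) * (q ^ 2 * Y ^ 2) ≤ (q - 1) * (j * (q / 2 * L)) := by
  have h1 : (q - 1) * (2 * (q - 1)) ≤ (q - 1) * (j * (q / 2)) :=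
    Nat.mul_le_mul_left _ (le_trans (by omega) (Nat.mul_le_mul_right (q / 2) hj))
  refine le_trans ?_ ((Nat.mul_le_mul_right L h1).trans (le_of_eq (by ring)))
  have hl : q * Z + (q - 1) * (q ^ 2 * Y ^ 2) ≤ q ^ 2 * (q * Y ^ 2 + Y) := by
    have h3 := Nat.mul_le_mul_left q (show Z ≤ q * Y ^ 2 + q * Y by omega)
    obtain ⟨r, rfl⟩ : ∃ r, q = r + 1 := ⟨q - 1, by omega⟩
    rw [Nat.add_sub_cancel]
    nlinarith
  refine hl.trans ?_
  obtain ⟨r, rfl⟩ : ∃ r, q = r + 4 := ⟨q - 4, by omega⟩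
  rw [show r + 4 - 1 = r + 3 by omega]
  have h16 : 16 ≤ Y := le_trans (by nlinarith) hY
  have h2 : 16 * Y ≤ Y ^ 2 := by rw [pow_two]; exact Nat.mul_le_mul_right _ h16
  have h64 : 64 * Y ≤ (r + 4) * Y ^ 2 := le_trans (by omega) (Nat.mul_le_mul_right _ (show 4 ≤ r + 4 by omega))
  nlinarith [Nat.mul_le_mul_left r h64, Nat.mul_le_mul_left (r ^ 2) h64]

theorem plus_four_arith {q : ℕ} (hq : 4 ≤ q) :
    q * (q ^ 5 + q ^ 3 - q ^ 2) + (q - 1) * (q ^ 2 * (q ^ 2) ^ 2) ≤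
      (q - 1) * ((q + 2) * (q ^ 5 + q ^ 3 - q ^ 2 - 1)) ∧
    q * (q ^ 5 + q ^ 3 - q ^ 2) + (q - 1) * (q ^ 2 * (q ^ 2) ^ 2) ≤
      (q - 1) * ((q + 1) * (q ^ 5 + q ^ 3 - q ^ 2 - 1) + (q ^ 5 + q ^ 3 - q ^ 2) + 1) ∧
    2 * (q * (q ^ 3 + q ^ 2 - q)) ≤ q ^ 5 + q ^ 3 - q ^ 2 ∧
    (q + 1) * (q ^ 2 - 1) + 1 = q ^ 3 + q ^ 2 - q ∧
    (q ^ 6 + q ^ 5 + q ^ 4 + q ^ 3) * (q ^ (2 + 1) - 1) =
      (q + 1) * (q ^ 5 + q ^ 3 - q ^ 2 - 1) * q ^ (2 + 1) ∧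
    (q - 1) * (q ^ 6 + q ^ 5 + q ^ 4 + q ^ 3 + (q ^ 3 + q ^ 2 + q + 1)) + 1 + q ^ 3 = q ^ 7 + q ^ 4 ∧
    (q ^ 3 + q ^ 2 + q + 1) ^ 2 < 4 * (q ^ 6 + q ^ 5 + q ^ 4 + q ^ 3) := by
  obtain ⟨r, rfl⟩ : ∃ r, q = r + 4 := ⟨q - 4, by omega⟩
  have e2 : (r + 4) ^ 2 = r ^ 2 + 8 * r + 16 := by ring
  have e3 : (r + 4) ^ 3 = r ^ 3 + 12 * r ^ 2 + 48 * r + 64 := by ring
  have e5 : (r + 4) ^ 5 = r ^ 5 + 20 * r ^ 4 + 160 * r ^ 3 + 640 * r ^ 2 + 1280 * r + 1024 := by ring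
  have d5 : (r + 4) ^ 5 + (r + 4) ^ 3 - (r + 4) ^ 2 =
      r ^ 5 + 20 * r ^ 4 + 161 * r ^ 3 + 651 * r ^ 2 + 1320 * r + 1072 := by omega
  have d5' : (r + 4) ^ 5 + (r + 4) ^ 3 - (r + 4) ^ 2 - 1 =
      r ^ 5 + 20 * r ^ 4 + 161 * r ^ 3 + 651 * r ^ 2 + 1320 * r + 1071 := by omega
  have d3 : (r + 4) ^ 3 + (r + 4) ^ 2 - (r + 4) = r ^ 3 + 13 * r ^ 2 + 55 * r + 76 := by omega
  have d1 : (r + 4) ^ 2 - 1 = r ^ 2 + 8 * r + 15 := by omega
  have d31 : (r + 4) ^ (2 + 1) - 1 = r ^ 3 + 12 * r ^ 2 + 48 * r + 63 := by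
    rw [show 2 + 1 = 3 from rfl]; omega
  rw [d5', d5, d3, d1, d31, show r + 4 - 1 = r + 3 by omega]
  refine ⟨?_, ?_, ?_, ?_, ?_, ?_, ?_⟩ <;> ring_nf <;>
    nlinarith [Nat.zero_le (r ^ 8), Nat.zero_le (r ^ 7), Nat.zero_le (r ^ 6), Nat.zero_le (r ^ 5),
      Nat.zero_le (r ^ 4), Nat.zero_le (r ^ 3), Nat.zero_le (r ^ 2)]

variable {F V : Type*} [Field F] [Finite F] [AddCommGroup V] [Module F V] [FiniteDimensional F V]
variable {Q : QuadraticForm F V}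

theorem plus_small_false (hQ : Nondeg Q) (h4 : 4 ≤ Nat.card F) {k : ℕ}
    (hT : HasType Q (k + 4) 0) (p : HP Q)
    (X : Type*) [MulAction (sieGroup Q) X] [Fintype X] [MulAction.IsPretransitive (sieGroup Q) X]
    [Nontrivial X] (hX : Fintype.card X < Nat.card (Pt Q)) : False := by
  have hTp : HasType (restr Q p.W) (k + 3) 0 := hT.perp_pair hQ p
  have hR := p.nd hQ
  have hd := hTp.finrank_eq hR
  have hW := card_W_of_type hQ p hTp
  have hV := zc_step hQ (k := k + 3) hT p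
  set q := Nat.card F with hq
  set Z := zc (restr Q p.W) 0 with hZdef
  obtain ⟨Y, hY⟩ : ∃ Y, Y = q ^ (k + 2) := ⟨_, rfl⟩
  have hZ : Z + Y = q * Y ^ 2 + q * Y := by
    have h := zc_zero hTp
    refine Nat.eq_of_mul_eq_mul_left (show 0 < q by omega) ?_
    rw [← hq, ← hZdef, show q ^ (2 * (k + 3) + 0) = q * (q * Y ^ 2) by rw [hY]; ring,
      show q ^ (k + 3 + 1) = q * (q * Y) by rw [hY]; ring,
      show q ^ (k + 3 + 0) = q * Y by rw [hY]; ring] at h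
    rw [Nat.mul_add, Nat.mul_add]
    exact h
  have hWY : Fintype.card p.W = q ^ 2 * Y ^ 2 := by rw [hW, hY]; ring
  have hY2 : q ^ 2 ≤ Y := hY ▸ Nat.pow_le_pow_right (by omega) (by omega)
  have h16 : 16 ≤ Y := le_trans (by nlinarith) hY2
  have hYq : Y ≤ q * Y := Nat.le_mul_of_pos_left Y (by omega)
  have hYY : q * Y ≤ q * Y ^ 2 := Nat.mul_le_mul_left q (Nat.le_self_pow two_ne_zero Y)
  have hsph0 : (sph p 0).card = Z - 1 := by have := sph_zero_add_one p; omega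
  obtain ⟨L, hL⟩ : ∃ L, L + Y = q * Y ^ 2 := ⟨q * Y ^ 2 - Y, by omega⟩
  have hsph : ∀ c : F, c ≠ 0 → L ≤ (sph p c).card := by
    intro c hc
    have h := zc_lower hTp c
    have h' := sph_add p c
    rw [if_neg hc, add_zero] at h'
    rw [← hq, ← h', show q ^ (2 * (k + 3) + 0) = q * (q * Y ^ 2) by rw [hY]; ring,
      show q ^ (k + 3 + 0) = q * Y by rw [hY]; ring, ← Nat.mul_add] at h
    have := Nat.le_of_mul_le_mul_left h (by omega)
    omega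
  have hYsq : 4 * (q * Y) ≤ q * Y ^ 2 := by
    rw [mul_left_comm, pow_two]
    exact Nat.mul_le_mul_left q (Nat.mul_le_mul_right Y (by omega))
  have hK : Z ≤ q / 2 * L := le_trans (by omega) (Nat.mul_le_mul_right L (show 2 ≤ q / 2 by omega))
  have hn : Nums Q p X (q / 2 * L) := by
    refine ⟨by omega, Or.inl (by omega), few_of_lt hQ hT p hX, ?_, ?_,
      fun u hu => class_ge p hsph hu, hK, ?_⟩
    · rw [← hq, ← hZdef, hWY]
      have h1 : q * Z ≤ q * (2 * (q * Y ^ 2)) := Nat.mul_le_mul_left q (by omega)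
      have h2 : q * (2 * (q * Y ^ 2)) ≤ (q - 1) * (q ^ 2 * Y ^ 2) := by
        rw [show q * (2 * (q * Y ^ 2)) = 2 * (q ^ 2 * Y ^ 2) by ring]
        exact Nat.mul_le_mul_right _ (by omega)
      rw [show 2 * (q - 1) * (q ^ 2 * Y ^ 2) = (q - 1) * (q ^ 2 * Y ^ 2) + (q - 1) * (q ^ 2 * Y ^ 2) by ring]
      omega
    · rw [← hq, ← hZdef, hsph0, hWY]
      exact plus_sing_arith h4 h16 hZ
    · rw [← hq, ← hZdef, hWY]
      exact plus_few_arith h4 hY2 hZ hL _ (by split_ifs <;> omega)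
  refine false_of_lines hQ hn hV (Or.inl ⟨by omega, Or.inl (by omega)⟩) ?_
  have hT1 : ∀ p₁ : HP (restr Q p.W), HasType (restr (restr Q p.W) p₁.W) (k + 2) 0 :=
    fun p₁ => hTp.perp_pair hR p₁
  have hU : ∀ p₁ : HP (restr Q p.W), zc (restr (restr Q p.W) p₁.W) 0 + q ^ (k + 1) =
      q * (q ^ (k + 1)) ^ 2 + q * q ^ (k + 1) := by
    intro p₁
    have h := zc_zero (hT1 p₁)
    refine Nat.eq_of_mul_eq_mul_left (show 0 < q by omega) ?_
    rw [← hq, show q ^ (2 * (k + 2) + 0) = q * (q * (q ^ (k + 1)) ^ 2) by ring,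
      show q ^ (k + 2 + 1) = q * (q * q ^ (k + 1)) by ring,
      show q ^ (k + 2 + 0) = q * q ^ (k + 1) by ring] at h
    rw [Nat.mul_add, Nat.mul_add]
    exact h
  rcases Nat.eq_zero_or_pos k with rfl | hk
  · obtain ⟨e1, e2, e3, e4, e5, e6, e7⟩ := plus_four_arith h4
    have hYv : Y = q ^ 2 := hY
    have hZv : Z = q ^ 5 + q ^ 3 - q ^ 2 := by
      rw [hYv, show q * (q ^ 2) ^ 2 = q ^ 5 by ring, show q * q ^ 2 = q ^ 3 by ring] at hZ
      omega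
    have hU0 : ∀ p₁ : HP (restr Q p.W),
        zc (restr (restr Q p.W) p₁.W) 0 = q ^ 3 + q ^ 2 - q := fun p₁ => by
      have h := hU p₁
      rw [show q * (q ^ (0 + 1)) ^ 2 = q ^ 3 by ring, show q * q ^ (0 + 1) = q ^ 2 by ring,
        show q ^ (0 + 1) = q by ring] at h
      omega
    refine lines_of_ex hQ hn (ν := 2) (T := q ^ 6 + q ^ 5 + q ^ 4 + q ^ 3)
      (δ := q ^ 3 + q ^ 2 + q + 1) ?_ hX
    refine ⟨Or.inr ⟨by omega, rfl⟩, fun S hS => finrank_le_index hR hTp hS,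
      fun p₁ S hS => finrank_le_index (p₁.nd hR) (hT1 p₁) hS, fun p₁ => ?_, ?_, ?_, fun p' => ?_,
      ?_, ?_, e7, exists_sq_ne_one h4⟩
    · have := sph_zero_add_one p₁
      rw [hU0 p₁] at this
      show (sph p₁ 0).card = (q + 1) * (q ^ 2 - 1)
      omega
    · rw [← hq, ← hZdef, hsph0, hWY, hYv, hZv]
      exact e1
    · rw [← hq, ← hZdef, hsph0, hWY, hYv, hZv]
      refine e2.trans (Nat.mul_le_mul_left (q - 1) ?_)
      rw [hZv] at hK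
      omega
    · rw [← hq, hU0 p', ← hZdef, hZv]
      exact e3
    · rw [← hq, hsph0, hZv]
      exact e5
    · have h := zc_zero hT
      rw [← hq, show q ^ (2 * (0 + 4) + 0) = q * q ^ 7 by ring, show q ^ (0 + 4 + 1) = q * q ^ 4 by ring,
        show q ^ (0 + 4 + 0) = q * q ^ 3 by ring, ← Nat.mul_add, ← Nat.mul_add] at h
      have h' := Nat.eq_of_mul_eq_mul_left (show 0 < q by omega) h
      exact Nat.add_right_cancel (e6.trans ((show q ^ 7 + q ^ 4 = q ^ 7 + q * q ^ 3 by ring).trans h'.symm))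
  · refine lines_of_count hQ hn (ν := k + 2) fun p₁ =>
      ⟨fun S hS => finrank_le_index (p₁.nd hR) (hT1 p₁) hS, ?_⟩
    have h1 := sph_zero_add_one p₁
    have h2 := hU p₁
    obtain ⟨U, hUe⟩ : ∃ U, U = q ^ (k + 1) := ⟨_, rfl⟩
    rw [← hUe] at h2
    rw [← hq, show q ^ (k + 2) = q * q ^ (k + 1) by ring, ← hUe]
    have hUq : q ^ 2 ≤ U := by rw [hUe]; exact Nat.pow_le_pow_right (by omega) (by omega)
    obtain ⟨U', hU'⟩ : ∃ U', q * U = U' + 1 := ⟨q * U - 1, by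
      have : 1 ≤ q * U := Nat.mul_pos (by omega) (lt_of_lt_of_le (by positivity) hUq)
      omega⟩
    have hUp : 2 ≤ U' := by
      have := Nat.mul_le_mul h4 (show 1 ≤ U from le_trans (by nlinarith) hUq)
      omega
    rw [hU', Nat.add_sub_cancel]
    have e : q * U ^ 2 + q * U = (U' + 1) * (U + 1) := by rw [← hU']; ring
    have h3 : q ^ 2 * U' < U' * (U + 1) := by
      rw [mul_comm (q ^ 2)]
      exact Nat.mul_lt_mul_of_pos_left (by omega) (by omega)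
    have e' : (U' + 1) * (U + 1) = U' * (U + 1) + (U + 1) := Nat.succ_mul _ _
    omega

universe v

theorem plus_index {F : Type*} [Field F] [Finite F] {V : Type v} [AddCommGroup V] [Module F V]
    [FiniteDimensional F V] {Q : QuadraticForm F V} (hQ : Nondeg Q) (h4 : 4 ≤ Nat.card F) {k : ℕ}
    (hT : HasType Q (k + 4) 0) (H : Subgroup (sieGroup Q)) (hH : H ≠ ⊤) :
    Nat.card (Pt Q) ≤ H.index := by
  refine index_ge (fun X _ _ _ _ hX => ?_) H hH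
  obtain ⟨p⟩ := exists_hp hQ (by have := hT.finrank_eq hQ; omega)
  exact plus_small_false hQ h4 hT p X hX

end Cfsg.Agent.H53.OmIdx
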