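import Cfsg.Agent.H53.OmIdx.Cover
import Cfsg.Agent.H53.OmIdx.Ineq
import Cfsg.Agent.H98.OrthMax.Roots

/-!
With all sets of weights on lines there are no fewer points than singular points.
-/

set_option autoImplicit false
set_option linter.unusedSectionVars false

namespace Cfsg.Agent.H53.OmIdx

open QuadraticMap Module Finset
open Cfsg.Agent.Orthogonal
open Cfsg.Agent.H53.OmLow

attribute [local instance] Fintype.ofFinite Classical.propDecidable

variable {F V : Type*} [Field F] [Finite F] [AddCommGroup V] [Module F V] [FiniteDimensional F V]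
variable {Q : QuadraticForm F V} {X : Type*} [MulAction (sieGroup Q) X] [Fintype X]
variable {p : HP Q} {K : ℕ} (hQ : Nondeg Q) (hn : Nums Q p X K)

/-- The regular points. -/
noncomputable def regs (p : HP Q) (X : Type*) [MulAction (sieGroup Q) X] [Fintype X] : Finset X :=
  Finset.univ.filter fun x => Ru p x = ⊥

theorem mem_regs {x : X} : x ∈ regs p X ↔ Ru p x = ⊥ := by simp [regs]

theorem card_span_le (l : p.W) (x : X) (h : ∀ v ∈ Au p x, v ∈ Submodule.span F {l}) :
    Nat.card (Au p x) ≤ Nat.card F := by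
  refine Nat.card_le_card_of_surjective
    (fun c : F => if hc : c • l ∈ Au p x then (⟨c • l, hc⟩ : Au p x) else 0) fun v => ?_
  obtain ⟨c, hc⟩ := Submodule.mem_span_singleton.1 (h v v.2)
  refine ⟨c, ?_⟩
  have : c • l ∈ Au p x := hc ▸ v.2
  simp only [dif_pos this]
  exact Subtype.ext hc

theorem filter_add_one_le (S : Finset p.W) (h0 : (0 : p.W) ∉ S) (x : X) :
    (S.filter fun u => u ∈ Au p x).card + 1 ≤ Nat.card (Au p x) := by
  rw [Nat.card_eq_fintype_card, Fintype.card_subtype,
    ← Finset.card_insert_of_notMem (s := S.filter fun u => u ∈ Au p x)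
      (fun h => h0 (Finset.mem_filter.1 h).1)]
  refine Finset.card_le_card fun v hv => Finset.mem_filter.2 ⟨Finset.mem_univ _, ?_⟩
  rcases Finset.mem_insert.1 hv with rfl | hv
  · exact zero_mem _
  · exact (Finset.mem_filter.1 hv).2

theorem line_weight (S : Finset p.W) (h0 : (0 : p.W) ∉ S) (x : X) (l : p.W)
    (h : ∀ v ∈ Au p x, v ∈ Submodule.span F {l}) :
    Nat.card F * (S.filter fun u => u ∈ Au p x).card ≤ (Nat.card F - 1) * Nat.card (Au p x) := by
  have h1 := filter_add_one_le S h0 x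
  have h2 := card_span_le l x h
  obtain ⟨q, hq⟩ : ∃ q, Nat.card F = q + 1 :=
    ⟨Nat.card F - 1, by have : 1 < Nat.card F := Finite.one_lt_card; omega⟩
  rw [hq] at h2 ⊢
  rw [Nat.add_sub_cancel]
  nlinarith

include hQ

theorem reg_Au {x : X} (hx : Ru p x = ⊥) (u : p.W) : u ∈ Au p x := fun w hw => by
  rw [hx, AddSubgroup.mem_bot] at hw
  rw [hw, AddChar.map_zero_eq_one]

theorem reg_of_Au {x : X} (h : ∀ u, u ∈ Au p x) : Ru p x = ⊥ := by
  have h1 := card_Au_mul p hQ x
  rw [show Nat.card (Au p x) = Fintype.card p.W from by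
    rw [Nat.card_eq_fintype_card]
    exact Fintype.card_congr (Equiv.subtypeUnivEquiv h)] at h1
  have h2 : Nat.card (Ru p x) = 1 :=
    Nat.eq_of_mul_eq_mul_left Fintype.card_pos (h1.trans (mul_one _).symm)
  exact AddSubgroup.card_eq_one.1 h2

theorem card_orb_reg {x : X} (hx : Ru p x = ⊥) : (orb p x).card = Fintype.card p.W := by
  have := card_orb_mul p x
  rwa [hx, AddSubgroup.card_bot, mul_one] at this

include hn

theorem reg_unique {x y : X} (hx : Ru p x = ⊥) (hy : Ru p y = ⊥) : orb p y = orb p x := by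
  by_contra hne
  have hd : Disjoint (orb p x) (orb p y) := Finset.disjoint_left.2 fun z h1 h2 =>
    hne ((orb_eq_of_mem p h2).symm.trans (orb_eq_of_mem p h1))
  have h1 := Finset.card_le_univ (orb p x ∪ orb p y)
  rw [Finset.card_union_of_disjoint hd, card_orb_reg hQ hx, card_orb_reg hQ hy] at h1
  have h3 := hn.few
  have h4 := hn.big
  have h5 := Nat.mul_le_mul_left (Nat.card F - 1) h1
  have hq : 0 < Nat.card F - 1 := by have : 1 < Nat.card F := Finite.one_lt_card; omega
  rw [Nat.mul_add] at h3 h5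
  rw [show 2 * (Nat.card F - 1) * Fintype.card p.W =
    (Nat.card F - 1) * Fintype.card p.W + (Nat.card F - 1) * Fintype.card p.W by ring] at h4
  omega

section WithRegular

variable {x₀ : X} (hx₀ : Ru p x₀ = ⊥)

include hx₀

theorem regs_eq : regs p X = orb p x₀ := by
  ext y
  rw [mem_regs]
  exact ⟨fun h => reg_unique hQ hn hx₀ h ▸ self_mem_orb p y,
    fun h => by obtain ⟨w, rfl⟩ := (mem_orb p).1 h; rw [Ru_xr, hx₀]⟩

theorem count_reg (S : Finset p.W) (a b : ℕ)
    (h : ∀ x : X, Ru p x ≠ ⊥ →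
      a * (S.filter fun u => u ∈ Au p x).card ≤ b * Nat.card (Au p x)) :
    a * (∑ u ∈ S, mult (prm Q X) p u) + b * Fintype.card p.W ≤ a * S.card + b * Fintype.card X := by
  refine Nat.le_of_mul_le_mul_right ?_ (Fintype.card_pos (α := p.W))
  rw [add_mul, add_mul, mul_assoc, sum_mult_mul, ← Finset.sum_filter_add_sum_filter_not Finset.univ
    (fun x : X => Ru p x = ⊥)]
  have e1 : ∑ x ∈ Finset.univ.filter (fun x : X => Ru p x = ⊥),
      (S.filter fun u => u ∈ Au p x).card * Nat.card (Ru p x) = Fintype.card p.W * S.card := by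
    rw [Finset.sum_congr rfl fun x hx => show (S.filter fun u => u ∈ Au p x).card * Nat.card (Ru p x) =
        S.card by
      have hx' := (Finset.mem_filter.1 hx).2
      rw [hx', AddSubgroup.card_bot, mul_one, Finset.filter_true_of_mem fun u _ => reg_Au hQ hx' u],
      Finset.sum_const, smul_eq_mul]
    congr 1
    rw [show (Finset.univ.filter fun x : X => Ru p x = ⊥) = regs p X from rfl, regs_eq hQ hn hx₀,
      card_orb_reg hQ hx₀]
  have e2 : a * ∑ x ∈ Finset.univ.filter (fun x : X => ¬ Ru p x = ⊥),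
      (S.filter fun u => u ∈ Au p x).card * Nat.card (Ru p x) ≤
      b * ((Finset.univ.filter fun x : X => ¬ Ru p x = ⊥).card * Fintype.card p.W) := by
    rw [← smul_eq_mul (a := (Finset.univ.filter fun x : X => ¬ Ru p x = ⊥).card), ← Finset.sum_const,
      Finset.mul_sum, Finset.mul_sum]
    refine Finset.sum_le_sum fun x hx => ?_
    rw [← card_Au_mul p hQ x, ← mul_assoc, ← mul_assoc]
    exact Nat.mul_le_mul_right _ (h x (Finset.mem_filter.1 hx).2)
  have e3 : (Finset.univ.filter fun x : X => ¬ Ru p x = ⊥).card + Fintype.card p.W = Fintype.card X := by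
    have := Finset.card_filter_add_card_filter_not (s := (Finset.univ : Finset X)) (fun x => Ru p x = ⊥)
    rw [show (Finset.univ.filter fun x : X => Ru p x = ⊥) = regs p X from rfl, regs_eq hQ hn hx₀,
      card_orb_reg hQ hx₀, Finset.card_univ] at this
    omega
  rw [e1, ← e3]
  nlinarith [e2]

theorem two_le_mult {x : X} (hx : Ru p x ≠ ⊥) {u : p.W} (hu : u ∈ Au p x) :
    2 ≤ mult (prm Q X) p u := by
  rw [mult_eq_card_orbs]
  have h1 : orb p x ≠ orb p x₀ := fun h => hx (mem_regs.1 (by
    rw [regs_eq hQ hn hx₀, ← h]; exact self_mem_orb p x))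
  refine le_trans (le_of_eq (Finset.card_pair h1).symm) (Finset.card_le_card fun O hO => ?_)
  rcases Finset.mem_insert.1 hO with rfl | hO
  · exact (mem_orbs p).2 ⟨x, hu, rfl⟩
  · rw [Finset.mem_singleton.1 hO]
    exact (mem_orbs p).2 ⟨x₀, reg_Au hQ hx₀ u, rfl⟩

/-- With a regular orbit the other orbits have singular weights. -/
theorem singular_of_reg {x : X} (hx : Ru p x ≠ ⊥) : TSx p x := by
  intro u hu
  by_contra hQu
  set S : Finset p.W :=
    Finset.univ.filter fun v => ∃ s : F, s ≠ 0 ∧ Q (v : V) = s ^ 2 * Q (u : V)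
  have hns : ∀ v ∈ S, Q (v : V) ≠ 0 := fun v hv => by
    obtain ⟨s, hs, e⟩ := (Finset.mem_filter.1 hv).2
    rw [e]; exact mul_ne_zero (pow_ne_zero 2 hs) hQu
  have h0 : (0 : p.W) ∉ S := fun h => hns 0 h (by rw [Submodule.coe_zero, QuadraticMap.map_zero])
  have h1 := count_reg hQ hn hx₀ S (Nat.card F) (Nat.card F - 1) fun y hy => by
    rcases trichotomy hQ hn y with h | ⟨w, -, -, h⟩ | h
    · exact absurd (reg_of_Au hQ h) hy
    · exact line_weight S h0 y w h
    · rw [Finset.filter_false_of_mem fun v hv hvy => hns v hv (h v hvy), Finset.card_empty, mul_zero]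
      exact Nat.zero_le _
  have h2 : S.card * 2 ≤ ∑ v ∈ S, mult (prm Q X) p v := by
    rw [← smul_eq_mul, ← Finset.sum_const]
    refine Finset.sum_le_sum fun v hv => ?_
    obtain ⟨s, hs, e⟩ := (Finset.mem_filter.1 hv).2
    rw [class_mult hQ hn hQu hs e]
    exact two_le_mult hQ hn hx₀ hx hu
  have h2' := Nat.mul_le_mul_left (Nat.card F) h2
  have h3 := hn.few
  have h4 : Nat.card F * zc (restr Q p.W) 0 ≤ Nat.card F * S.card :=
    Nat.mul_le_mul_left _ (hn.clsSing.trans (hn.cls u hQu))
  have hq : 1 < Nat.card F := Finite.one_lt_card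
  rw [← mul_assoc] at h2'
  rw [Nat.mul_add] at h3
  have : Nat.card F * S.card * 2 = Nat.card F * S.card + Nat.card F * S.card := by ring
  omega

end WithRegular

variable [MulAction.IsPretransitive (sieGroup Q) X] [Nontrivial X]

omit hn in
theorem not_fixed (x : X) : ∃ g : sieGroup Q, g • x ≠ x := by
  obtain ⟨y, hy⟩ := exists_ne x
  obtain ⟨g, rfl⟩ := MulAction.exists_smul_eq (sieGroup Q) x y
  exact ⟨g, hy⟩

variable (hV : zc Q 0 = Nat.card F * zc (restr Q p.W) 0 + (Nat.card F - 1) * Fintype.card p.W)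
variable (hcase : (3 < Nat.card F ∧ (6 ≤ finrank F p.W ∨ (2 : F) ≠ 0)) ∨ 7 ≤ finrank F p.W ∨
  HasType (restr Q p.W) 2 2)

include hV hcase

omit hV hcase in
/-- A point fixed by the radical is fixed by the whole group. -/
theorem false_of_fixed (hall : ∀ x : X, Ru p x = ⊥ ∨ Ru p x = ⊤) {x : X} (hx : Ru p x = ⊤) :
    False := by
  have hR := p.nd hQ
  obtain ⟨p'⟩ := exists_hp hR (by have := hn.dim; omega)
  have hd := p.finrank_W hQ
  have he : H98.OrthMax.Full ((MulAction.stabilizer (sieGroup Q) x).map (sieGroup Q).subtype) p.e := by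
    intro w hu hw
    obtain ⟨z, hz⟩ := sg_e p hw
    refine Subgroup.mem_map.2 ⟨sg p.e w hu hw, ?_, rfl⟩
    show sg p.e w hu hw • x = x
    rw [hz]
    exact mem_Ru p |>.1 (by rw [hx]; trivial)
  have hfull : ∀ a : p.W, a ≠ 0 → Q (a : V) = 0 →
      H98.OrthMax.Full ((MulAction.stabilizer (sieGroup Q) x).map (sieGroup Q).subtype) (a : V) := by
    intro a ha0 ha w hu hw
    have ha0' : (a : V) ≠ 0 := fun h => ha0 (Subtype.ext h)
    obtain ⟨g, hg, s, hs, hgs⟩ := exists_sie_point hQ (by have := hn.dim; omega) ha0' p.e_ne ha p.he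
    rcases hall ((⟨g, hg⟩ : sieGroup Q) • x) with h | h
    · exfalso
      have hfree := (free_iff p hs (g := ⟨g, hg⟩) hgs ha x).2 h
      have e : sg p.e (a : V) p.he (p.e_w a) = sg (a : V) (-p.e) ha (by
          rw [polar_neg_right, p.w_e, neg_zero]) := sg_swap p.he (p.e_w a) ha
      have hfix : sg (a : V) (-p.e) ha (by rw [polar_neg_right, p.w_e, neg_zero]) • x = x := by
        rw [← e]
        exact (mem_Ru p).1 (show a ∈ Ru p x by rw [hx]; trivial)
      have := hfree _ _ _ hfix
      rw [← e] at this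
      exact ha0 (xr_eq_one p this)
    · exact Subgroup.mem_map.2 ⟨sg (a : V) w hu hw, (fixd_iff p hs (g := ⟨g, hg⟩) hgs ha x).2 h w hu hw, rfl⟩
  have hle := H98.OrthMax.sieGroup_le_of_pair hQ (by have := hn.dim; omega)
    (hfull p'.e p'.e_ne p'.he) (hfull p'.f p'.f_ne p'.hf) p'.he p'.hf
    (by rw [← polar_restr, p'.hef]; exact one_ne_zero)
  obtain ⟨g, hg⟩ := not_fixed hQ x
  obtain ⟨g', hg', e⟩ := hle g.2
  exact hg (by rwa [← Subtype.ext e])

/-- One regular orbit alone is impossible. -/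
theorem false_of_all_regular (hall : ∀ x : X, Ru p x = ⊥) : False := by
  obtain ⟨x₀⟩ : Nonempty X := inferInstance
  set ρ := prm Q X
  have hR := p.nd hQ
  have hone : ∀ u, mult ρ p u = 1 := fun u => by
    rw [mult_eq_card_orbs]
    refine le_antisymm (Finset.card_le_one.2 fun O hO O' hO' => ?_) (Finset.card_pos.2 ⟨orb p x₀,
      (mem_orbs p).2 ⟨x₀, reg_Au hQ (hall x₀) u, rfl⟩⟩)
    obtain ⟨x, -, rfl⟩ := (mem_orbs p).1 hO
    obtain ⟨y, -, rfl⟩ := (mem_orbs p).1 hO'
    exact reg_unique hQ hn (hall y) (hall x)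
  obtain ⟨p'⟩ := exists_hp hR (by have := hn.dim; omega)
  have hd := p'.finrank_W hR
  obtain ⟨p''⟩ := exists_hp (p'.nd hR) (by have := hn.dim; omega)
  have hst : ∀ v : p.W, v ≠ 0 → Q (v : V) = 0 → ∀ (a t : p.W) (ha : Q (a : V) = 0)
      (hat : polar Q (a : V) (t : V) = 0), polar Q (a : V) (v : V) = 0 → polar Q (t : V) (v : V) = 0 →
      ∀ z, ρ (sg (a : V) (t : V) ha hat) (wP ρ p v z) = wP ρ p v z := by
    intro v hv hQv a t ha hat hav htv z
    have ha' : restr Q p.W a = 0 := ha
    have hat' : polar (restr Q p.W) a t = 0 := by rw [polar_restr]; exact hat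
    rw [← emb_sg hQ p ha' hat']
    exact stab_singular ρ hQ p hn.dim hcase v hv hQv (hone v).le _
      (sie_fix' ha' hat' (by rw [polar_restr]; exact hav) (by rw [polar_restr]; exact htv)) z
  have hwt : ∀ w : p'.W, w ≠ 0 → Q ((w : p.W) : V) = 0 → 1 ≤ mult (cRep ρ hQ p) p' w := by
    intro w hw hQw
    have hw' : (w : p.W) ≠ 0 := fun h => hw (Subtype.ext h)
    obtain ⟨z, hz⟩ := exists_weight_C hQ p' hw (ρ := ρ)
      (by
        by_contra h
        push Not at h
        have := (mult_eq_zero_iff ρ p (w : p.W)).2 h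
        rw [hone] at this
        exact one_ne_zero this)
      (hst _ hw' hQw)
      fun c hc => hst _ (smul_ne_zero hc p'.e_ne)
        (by rw [← restr_apply, qmap_smul, p'.he, mul_zero])
    by_contra h0
    exact hz ((mult_eq_zero_iff _ p' w).1 (by omega) z)
  have hC := finrank_eq_sum (cRep ρ hQ p) (p.nd hQ) p'
  rw [show finrank ℂ (Cs ρ p) = 1 from hone 0] at hC
  have hne : p''.e ≠ p''.f := fun h => by
    have := p''.hef
    rw [← h, polar_self', p''.he, mul_zero] at this
    exact zero_ne_one this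
  have h1 := hwt p''.e p''.e_ne p''.he
  have h2 := hwt p''.f p''.f_ne p''.hf
  have h3 := Finset.sum_le_sum_of_subset (f := fun w => mult (cRep ρ hQ p) p' w)
    (Finset.subset_univ ({p''.e, p''.f} : Finset p'.W))
  rw [Finset.sum_pair hne] at h3
  unfold mult at h1 h2 h3
  omega

/-- The points count at least as many as the singular points. -/
theorem false_of_lines
    (hbig : ∀ x : X, TSx p x → ∃ l : p.W, ∀ v ∈ Au p x, v ∈ Submodule.span F {l}) : False := by
  obtain ⟨x⟩ : Nonempty X := inferInstance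
  by_cases hr : ∃ x₀ : X, Ru p x₀ = ⊥
  swap
  · push Not at hr
    have h0 := no_weights_of_lines hQ p (X := X) hn.dim fun y => by
      rcases trichotomy hQ hn y with h | ⟨u, -, -, h⟩ | h
      · exact absurd (reg_of_Au hQ h) (hr y)
      · exact ⟨u, h⟩
      · exact hbig y h
    have htriv := trivial_of_no_weight (prm Q X) hQ p (by have := p.finrank_W hQ; have := hn.dim; omega) h0
    obtain ⟨g, hg⟩ := not_fixed hQ x
    have := congrArg (fun T : (X → ℂ) →ₗ[ℂ] (X → ℂ) => T (Pi.single x 1) (g • x)) (htriv g)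
    simp [H32.permRep_apply, hg] at this
  obtain ⟨x₀, hx₀⟩ := hr
  have hsing : ∀ y : X, Ru p y ≠ ⊥ → TSx p y := fun y hy => singular_of_reg hQ hn hx₀ hy
  by_cases hline : ∃ y : X, Ru p y ≠ ⊥ ∧ ∃ v ∈ Au p y, v ≠ 0
  · obtain ⟨y, hy, v, hv, hv0⟩ := hline
    set S := sph p 0
    have h0 : (0 : p.W) ∉ S := fun h => (mem_sph.1 h).1 rfl
    have h1 := count_reg hQ hn hx₀ S (Nat.card F) (Nat.card F - 1) fun z hz => by
      obtain ⟨l, hl⟩ := hbig z (hsing z hz)
      exact line_weight S h0 z l hl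
    have h2 : S.card * 2 ≤ ∑ u ∈ S, mult (prm Q X) p u := by
      rw [← smul_eq_mul, ← Finset.sum_const]
      refine Finset.sum_le_sum fun u hu => ?_
      rw [mult_eq_of_norm (prm Q X) p hQ hn.dim (mem_sph.1 hu).1 hv0
        ((mem_sph.1 hu).2.trans (show (0 : F) = Q (v : V) from (hsing y hy v hv).symm))]
      exact two_le_mult hQ hn hx₀ hy hv
    have h2' := Nat.mul_le_mul_left (Nat.card F) h2
    have h3 := hn.few
    have hq : 1 < Nat.card F := Finite.one_lt_card
    have hs : Nat.card F * S.card + Nat.card F = Nat.card F * zc (restr Q p.W) 0 := by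
      rw [← sph_zero_add_one p, Nat.mul_add, mul_one]
    have hP : (Nat.card F - 1) * Nat.card (Pt Q) + 1 = zc Q 0 := card_pt
    rw [← mul_assoc, show Nat.card F * S.card * 2 = Nat.card F * S.card + Nat.card F * S.card by ring]
      at h2'
    rw [Nat.mul_add] at h3
    have hN : Fintype.card X + 1 = Nat.card (Pt Q) := by
      have : (Nat.card F - 1) * (Fintype.card X + 1) = (Nat.card F - 1) * Nat.card (Pt Q) := by
        rw [Nat.mul_add]; omega
      exact Nat.eq_of_mul_eq_mul_left (by omega) this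
    have hgt : Fintype.card p.W < Fintype.card X := by
      rw [← card_orb_reg hQ hx₀]
      exact Finset.card_lt_card ⟨Finset.subset_univ _, fun h => hy (mem_regs.1 (by
        rw [regs_eq hQ hn hx₀]; exact h (Finset.mem_univ y)))⟩
    have := Pt.isPretransitive hQ (show 3 ≤ finrank F V by have := hn.dim; have := p.finrank_W hQ; omega)
    have hpc := pair_count (G := sieGroup Q) (fun (P : Pt Q) (z : X) =>
      ∃ v : V, v ≠ 0 ∧ ∃ hv : Q v = 0, P.1 = Submodule.span F {v} ∧ Free (Q := Q) v z)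
      (fun g P z ⟨v, hv0, hv, hP, hfree⟩ => ⟨ap g v, fun h => hv0 ((LinearEquiv.map_eq_zero_iff _).1 h),
        by rw [O.map_app]; exact hv, by
          show P.1.map (ap g : V →ₗ[F] V) = _
          rw [hP, Submodule.map_span, Set.image_singleton]; rfl, hfree.map g⟩)
      (Pt.mk p.e_ne p.he) x₀
    have hc : (Finset.univ.filter fun z : X => ∃ v : V, v ≠ 0 ∧ ∃ hv : Q v = 0,
        (Pt.mk p.e_ne p.he : Pt Q).1 = Submodule.span F {v} ∧ Free (Q := Q) v z) = regs p X := by
      ext z
      rw [Finset.mem_filter, mem_regs]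
      constructor
      · rintro ⟨-, w, hw0, hw, hP, hfree⟩
        obtain ⟨c, hc⟩ := Submodule.mem_span_singleton.1
          (show w ∈ Submodule.span F {p.e} from hP.symm.le (Submodule.mem_span_singleton_self w))
        have hc0 : c ≠ 0 := fun e => hw0 (by rw [← hc, e, zero_smul])
        have := (free_iff p hc0 (g := (1 : sieGroup Q)) (by rw [ap_one, hc]) hw z).1 hfree
        rwa [one_smul] at this
      · intro h
        refine ⟨Finset.mem_univ _, p.e, p.e_ne, p.he, rfl, ?_⟩
        exact (free_iff p one_ne_zero (g := (1 : sieGroup Q)) (by rw [ap_one, one_smul]) p.he z).2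
          (by rwa [one_smul])
    rw [hc, regs_eq hQ hn hx₀, card_orb_reg hQ hx₀, ← Nat.card_eq_fintype_card, ← hN] at hpc
    have hdvd : Fintype.card X ∣ (Fintype.card X + 1) * Fintype.card p.W := ⟨_, hpc⟩
    rw [Nat.add_mul, one_mul, Nat.dvd_add_right (Dvd.intro _ rfl)] at hdvd
    have := Nat.le_of_dvd Fintype.card_pos hdvd
    omega
  push Not at hline
  have hall : ∀ y : X, Ru p y = ⊥ ∨ Ru p y = ⊤ := fun y => by
    by_cases hy : Ru p y = ⊥
    · exact Or.inl hy
    refine Or.inr (AddSubgroup.eq_top_of_card_eq _ ?_)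
    have h1 := card_Au_mul p hQ y
    have hA : Nat.card (Au p y) = 1 := by
      rw [AddSubgroup.card_eq_one, AddSubgroup.eq_bot_iff_forall]
      exact hline y hy
    rw [hA, one_mul] at h1
    rw [h1, Nat.card_eq_fintype_card]
  by_cases hex : ∃ y : X, Ru p y = ⊤
  · obtain ⟨y, hy⟩ := hex
    exact false_of_fixed hQ hn hall hy
  · push Not at hex
    exact false_of_all_regular hQ hn hV hcase fun y => (hall y).resolve_right (hex y)

end Cfsg.Agent.H53.OmIdx
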